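import Cfsg.Agent.Lib.PermComp.OutP.Master2
import Cfsg.Agent.Lib.PermComp.OutP.Fi23.DataP0
import Cfsg.Agent.Lib.PermComp.OutP.Fi23.DataP1
import Cfsg.Agent.Lib.PermComp.OutP.Fi23.DataP2
import Cfsg.Agent.Lib.PermComp.OutP.Fi23.DataP3

set_option autoImplicit false
set_option maxRecDepth 100000
set_option maxHeartbeats 0

namespace Cfsg.Agent.Lib.PermComp.OutP.Fi23

open Cfsg Cfsg.Agent.Lib.PermComp.OutP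
open Cfsg.Agent.Lib.PermComp.Core (force)
open Cfsg.Agent.Lib.PermComp.Kron (rangeAll rangeAll_spec)

def n : Nat := 31671
def mF : Nat := 65
noncomputable def TT_T : Nat := (Nat.lor (Nat.lor (Nat.lor (Nat.lor (Nat.lor (Nat.lor (Nat.lor (Nat.lor (Nat.lor (Nat.lor (Nat.lor TT_p0 (Nat.shiftLeft TT_p1 15990)) (Nat.shiftLeft (Nat.lor TT_p2 (Nat.shiftLeft (Nat.lor TT_p3 (Nat.shiftLeft TT_p4 15990)) 15990)) 31980)) (Nat.shiftLeft (Nat.lor (Nat.lor TT_p5 (Nat.shiftLeft TT_p6 15990)) (Nat.shiftLeft (Nat.lor TT_p7 (Nat.shiftLeft (Nat.lor TT_p8 (Nat.shiftLeft TT_p9 15990)) 15990)) 31980)) 79950)) (Nat.shiftLeft (Nat.lor (Nat.lor (Nat.lor TT_p10 (Nat.shiftLeft TT_p11 15990)) (Nat.shiftLeft (Nat.lor TT_p12 (Nat.shiftLeft (Nat.lor TT_p13 (Nat.shiftLeft TT_p14 15990)) 15990)) 31980)) (Nat.shiftLeft (Nat.lor (Nat.lor TT_p15 (Nat.shiftLeft TT_p16 15990)) (Nat.shiftLeft (Nat.lor TT_p17 (Nat.shiftLeft (Nat.lor TT_p18 (Nat.shiftLeft TT_p19 15990)) 15990)) 31980)) 79950)) 159900)) (Nat.shiftLeft (Nat.lor (Nat.lor (Nat.lor (Nat.lor TT_p20 (Nat.shiftLeft TT_p21 15990)) (Nat.shiftLeft (Nat.lor TT_p22 (Nat.shiftLeft (Nat.lor TT_p23 (Nat.shiftLeft TT_p24 15990)) 15990)) 31980)) (Nat.shiftLeft (Nat.lor (Nat.lor TT_p25 (Nat.shiftLeft TT_p26 15990)) (Nat.shiftLeft (Nat.lor TT_p27 (Nat.shiftLeft (Nat.lor TT_p28 (Nat.shiftLeft TT_p29 15990)) 15990)) 31980)) 79950)) (Nat.shiftLeft (Nat.lor (Nat.lor (Nat.lor TT_p30 (Nat.shiftLeft TT_p31 15990)) (Nat.shiftLeft (Nat.lor TT_p32 (Nat.shiftLeft (Nat.lor TT_p33 (Nat.shiftLeft TT_p34 15990)) 15990)) 31980)) (Nat.shiftLeft (Nat.lor (Nat.lor TT_p35 (Nat.shiftLeft TT_p36 15990)) (Nat.shiftLeft (Nat.lor TT_p37 (Nat.shiftLeft (Nat.lor TT_p38 (Nat.shiftLeft TT_p39 15990)) 15990)) 31980)) 79950)) 159900)) 319800)) (Nat.shiftLeft (Nat.lor (Nat.lor (Nat.lor (Nat.lor (Nat.lor TT_p40 (Nat.shiftLeft TT_p41 15990)) (Nat.shiftLeft (Nat.lor TT_p42 (Nat.shiftLeft (Nat.lor TT_p43 (Nat.shiftLeft TT_p44 15990)) 15990)) 31980)) (Nat.shiftLeft (Nat.lor (Nat.lor TT_p45 (Nat.shiftLeft TT_p46 15990)) (Nat.shiftLeft (Nat.lor TT_p47 (Nat.shiftLeft (Nat.lor TT_p48 (Nat.shiftLeft TT_p49 15990)) 15990)) 31980)) 79950)) (Nat.shiftLeft (Nat.lor (Nat.lor (Nat.lor TT_p50 (Nat.shiftLeft TT_p51 15990)) (Nat.shiftLeft (Nat.lor TT_p52 (Nat.shiftLeft (Nat.lor TT_p53 (Nat.shiftLeft TT_p54 15990)) 15990)) 31980)) (Nat.shiftLeft (Nat.lor (Nat.lor TT_p55 (Nat.shiftLeft TT_p56 15990)) (Nat.shiftLeft (Nat.lor TT_p57 (Nat.shiftLeft (Nat.lor TT_p58 (Nat.shiftLeft TT_p59 15990)) 15990)) 31980)) 79950)) 159900)) (Nat.shiftLeft (Nat.lor (Nat.lor (Nat.lor (Nat.lor TT_p60 (Nat.shiftLeft TT_p61 15990)) (Nat.shiftLeft (Nat.lor TT_p62 (Nat.shiftLeft (Nat.lor TT_p63 (Nat.shiftLeft TT_p64 15990)) 15990)) 31980)) (Nat.shiftLeft (Nat.lor (Nat.lor TT_p65 (Nat.shiftLeft TT_p66 15990)) (Nat.shiftLeft (Nat.lor TT_p67 (Nat.shiftLeft (Nat.lor TT_p68 (Nat.shiftLeft TT_p69 15990)) 15990)) 31980)) 79950)) (Nat.shiftLeft (Nat.lor (Nat.lor (Nat.lor TT_p70 (Nat.shiftLeft TT_p71 15990)) (Nat.shiftLeft (Nat.lor TT_p72 (Nat.shiftLeft (Nat.lor TT_p73 (Nat.shiftLeft TT_p74 15990)) 15990)) 31980)) (Nat.shiftLeft (Nat.lor (Nat.lor TT_p75 (Nat.shiftLeft (Nat.lor TT_p76 (Nat.shiftLeft TT_p77 15990)) 15990)) (Nat.shiftLeft (Nat.lor TT_p78 (Nat.shiftLeft (Nat.lor TT_p79 (Nat.shiftLeft TT_p80 15990)) 15990)) 47970)) 79950)) 159900)) 319800)) 639600)) (Nat.shiftLeft (Nat.lor (Nat.lor (Nat.lor (Nat.lor (Nat.lor (Nat.lor TT_p81 (Nat.shiftLeft TT_p82 15990)) (Nat.shiftLeft (Nat.lor TT_p83 (Nat.shiftLeft (Nat.lor TT_p84 (Nat.shiftLeft TT_p85 15990)) 15990)) 31980)) (Nat.shiftLeft (Nat.lor (Nat.lor TT_p86 (Nat.shiftLeft TT_p87 15990)) (Nat.shiftLeft (Nat.lor TT_p88 (Nat.shiftLeft (Nat.lor TT_p89 (Nat.shiftLeft TT_p90 15990)) 15990)) 31980)) 79950)) (Nat.shiftLeft (Nat.lor (Nat.lor (Nat.lor TT_p91 (Nat.shiftLeft TT_p92 15990)) (Nat.shiftLeft (Nat.lor TT_p93 (Nat.shiftLeft (Nat.lor TT_p94 (Nat.shiftLeft TT_p95 15990)) 15990)) 31980)) (Nat.shiftLeft (Nat.lor (Nat.lor TT_p96 (Nat.shiftLeft TT_p97 15990)) (Nat.shiftLeft (Nat.lor TT_p98 (Nat.shiftLeft (Nat.lor TT_p99 (Nat.shiftLeft TT_p100 15990)) 15990)) 31980)) 79950)) 159900)) (Nat.shiftLeft (Nat.lor (Nat.lor (Nat.lor (Nat.lor TT_p101 (Nat.shiftLeft TT_p102 15990)) (Nat.shiftLeft (Nat.lor TT_p103 (Nat.shiftLeft (Nat.lor TT_p104 (Nat.shiftLeft TT_p105 15990)) 15990)) 31980)) (Nat.shiftLeft (Nat.lor (Nat.lor TT_p106 (Nat.shiftLeft TT_p107 15990)) (Nat.shiftLeft (Nat.lor TT_p108 (Nat.shiftLeft (Nat.lor TT_p109 (Nat.shiftLeft TT_p110 15990)) 15990)) 31980)) 79950)) (Nat.shiftLeft (Nat.lor (Nat.lor (Nat.lor TT_p111 (Nat.shiftLeft TT_p112 15990)) (Nat.shiftLeft (Nat.lor TT_p113 (Nat.shiftLeft (Nat.lor TT_p114 (Nat.shiftLeft TT_p115 15990)) 15990)) 31980)) (Nat.shiftLeft (Nat.lor (Nat.lor TT_p116 (Nat.shiftLeft (Nat.lor TT_p117 (Nat.shiftLeft TT_p118 15990)) 15990)) (Nat.shiftLeft (Nat.lor TT_p119 (Nat.shiftLeft (Nat.lor TT_p120 (Nat.shiftLeft TT_p121 15990)) 15990)) 47970)) 79950)) 159900)) 319800)) (Nat.shiftLeft (Nat.lor (Nat.lor (Nat.lor (Nat.lor (Nat.lor TT_p122 (Nat.shiftLeft TT_p123 15990)) (Nat.shiftLeft (Nat.lor TT_p124 (Nat.shiftLeft (Nat.lor TT_p125 (Nat.shiftLeft TT_p126 15990)) 15990)) 31980)) (Nat.shiftLeft (Nat.lor (Nat.lor TT_p127 (Nat.shiftLeft TT_p128 15990)) (Nat.shiftLeft (Nat.lor TT_p129 (Nat.shiftLeft (Nat.lor TT_p130 (Nat.shiftLeft TT_p131 15990)) 15990)) 31980)) 79950)) (Nat.shiftLeft (Nat.lor (Nat.lor (Nat.lor TT_p132 (Nat.shiftLeft TT_p133 15990)) (Nat.shiftLeft (Nat.lor TT_p134 (Nat.shiftLeft (Nat.lor TT_p135 (Nat.shiftLeft TT_p136 15990)) 15990)) 31980)) (Nat.shiftLeft (Nat.lor (Nat.lor TT_p137 (Nat.shiftLeft TT_p138 15990)) (Nat.shiftLeft (Nat.lor TT_p139 (Nat.shiftLeft (Nat.lor TT_p140 (Nat.shiftLeft TT_p141 15990)) 15990)) 31980)) 79950)) 159900)) (Nat.shiftLeft (Nat.lor (Nat.lor (Nat.lor (Nat.lor TT_p142 (Nat.shiftLeft TT_p143 15990)) (Nat.shiftLeft (Nat.lor TT_p144 (Nat.shiftLeft (Nat.lor TT_p145 (Nat.shiftLeft TT_p146 15990)) 15990)) 31980)) (Nat.shiftLeft (Nat.lor (Nat.lor TT_p147 (Nat.shiftLeft TT_p148 15990)) (Nat.shiftLeft (Nat.lor TT_p149 (Nat.shiftLeft (Nat.lor TT_p150 (Nat.shiftLeft TT_p151 15990)) 15990)) 31980)) 79950)) (Nat.shiftLeft (Nat.lor (Nat.lor (Nat.lor TT_p152 (Nat.shiftLeft TT_p153 15990)) (Nat.shiftLeft (Nat.lor TT_p154 (Nat.shiftLeft (Nat.lor TT_p155 (Nat.shiftLeft TT_p156 15990)) 15990)) 31980)) (Nat.shiftLeft (Nat.lor (Nat.lor TT_p157 (Nat.shiftLeft (Nat.lor TT_p158 (Nat.shiftLeft TT_p159 15990)) 15990)) (Nat.shiftLeft (Nat.lor TT_p160 (Nat.shiftLeft (Nat.lor TT_p161 (Nat.shiftLeft TT_p162 15990)) 15990)) 47970)) 79950)) 159900)) 319800)) 655590)) 1295190)) (Nat.shiftLeft (Nat.lor (Nat.lor (Nat.lor (Nat.lor (Nat.lor (Nat.lor (Nat.lor TT_p163 (Nat.shiftLeft TT_p164 15990)) (Nat.shiftLeft (Nat.lor TT_p165 (Nat.shiftLeft (Nat.lor TT_p166 (Nat.shiftLeft TT_p167 15990)) 15990)) 31980)) (Nat.shiftLeft (Nat.lor (Nat.lor TT_p168 (Nat.shiftLeft TT_p169 15990)) (Nat.shiftLeft (Nat.lor TT_p170 (Nat.shiftLeft (Nat.lor TT_p171 (Nat.shiftLeft TT_p172 15990)) 15990)) 31980)) 79950)) (Nat.shiftLeft (Nat.lor (Nat.lor (Nat.lor TT_p173 (Nat.shiftLeft TT_p174 15990)) (Nat.shiftLeft (Nat.lor TT_p175 (Nat.shiftLeft (Nat.lor TT_p176 (Nat.shiftLeft TT_p177 15990)) 15990)) 31980)) (Nat.shiftLeft (Nat.lor (Nat.lor TT_p178 (Nat.shiftLeft TT_p179 15990)) (Nat.shiftLeft (Nat.lor TT_p180 (Nat.shiftLeft (Nat.lor TT_p181 (Nat.shiftLeft TT_p182 15990)) 15990)) 31980)) 79950)) 159900)) (Nat.shiftLeft (Nat.lor (Nat.lor (Nat.lor (Nat.lor TT_p183 (Nat.shiftLeft TT_p184 15990)) (Nat.shiftLeft (Nat.lor TT_p185 (Nat.shiftLeft (Nat.lor TT_p186 (Nat.shiftLeft TT_p187 15990)) 15990)) 31980)) (Nat.shiftLeft (Nat.lor (Nat.lor TT_p188 (Nat.shiftLeft TT_p189 15990)) (Nat.shiftLeft (Nat.lor TT_p190 (Nat.shiftLeft (Nat.lor TT_p191 (Nat.shiftLeft TT_p192 15990)) 15990)) 31980)) 79950)) (Nat.shiftLeft (Nat.lor (Nat.lor (Nat.lor TT_p193 (Nat.shiftLeft TT_p194 15990)) (Nat.shiftLeft (Nat.lor TT_p195 (Nat.shiftLeft (Nat.lor TT_p196 (Nat.shiftLeft TT_p197 15990)) 15990)) 31980)) (Nat.shiftLeft (Nat.lor (Nat.lor TT_p198 (Nat.shiftLeft TT_p199 15990)) (Nat.shiftLeft (Nat.lor TT_p200 (Nat.shiftLeft (Nat.lor TT_p201 (Nat.shiftLeft TT_p202 15990)) 15990)) 31980)) 79950)) 159900)) 319800)) (Nat.shiftLeft (Nat.lor (Nat.lor (Nat.lor (Nat.lor (Nat.lor TT_p203 (Nat.shiftLeft TT_p204 15990)) (Nat.shiftLeft (Nat.lor TT_p205 (Nat.shiftLeft (Nat.lor TT_p206 (Nat.shiftLeft TT_p207 15990)) 15990)) 31980)) (Nat.shiftLeft (Nat.lor (Nat.lor TT_p208 (Nat.shiftLeft TT_p209 15990)) (Nat.shiftLeft (Nat.lor TT_p210 (Nat.shiftLeft (Nat.lor TT_p211 (Nat.shiftLeft TT_p212 15990)) 15990)) 31980)) 79950)) (Nat.shiftLeft (Nat.lor (Nat.lor (Nat.lor TT_p213 (Nat.shiftLeft TT_p214 15990)) (Nat.shiftLeft (Nat.lor TT_p215 (Nat.shiftLeft (Nat.lor TT_p216 (Nat.shiftLeft TT_p217 15990)) 15990)) 31980)) (Nat.shiftLeft (Nat.lor (Nat.lor TT_p218 (Nat.shiftLeft TT_p219 15990)) (Nat.shiftLeft (Nat.lor TT_p220 (Nat.shiftLeft (Nat.lor TT_p221 (Nat.shiftLeft TT_p222 15990)) 15990)) 31980)) 79950)) 159900)) (Nat.shiftLeft (Nat.lor (Nat.lor (Nat.lor (Nat.lor TT_p223 (Nat.shiftLeft TT_p224 15990)) (Nat.shiftLeft (Nat.lor TT_p225 (Nat.shiftLeft (Nat.lor TT_p226 (Nat.shiftLeft TT_p227 15990)) 15990)) 31980)) (Nat.shiftLeft (Nat.lor (Nat.lor TT_p228 (Nat.shiftLeft TT_p229 15990)) (Nat.shiftLeft (Nat.lor TT_p230 (Nat.shiftLeft (Nat.lor TT_p231 (Nat.shiftLeft TT_p232 15990)) 15990)) 31980)) 79950)) (Nat.shiftLeft (Nat.lor (Nat.lor (Nat.lor TT_p233 (Nat.shiftLeft TT_p234 15990)) (Nat.shiftLeft (Nat.lor TT_p235 (Nat.shiftLeft (Nat.lor TT_p236 (Nat.shiftLeft TT_p237 15990)) 15990)) 31980)) (Nat.shiftLeft (Nat.lor (Nat.lor TT_p238 (Nat.shiftLeft (Nat.lor TT_p239 (Nat.shiftLeft TT_p240 15990)) 15990)) (Nat.shiftLeft (Nat.lor TT_p241 (Nat.shiftLeft (Nat.lor TT_p242 (Nat.shiftLeft TT_p243 15990)) 15990)) 47970)) 79950)) 159900)) 319800)) 639600)) (Nat.shiftLeft (Nat.lor (Nat.lor (Nat.lor (Nat.lor (Nat.lor (Nat.lor TT_p244 (Nat.shiftLeft TT_p245 15990)) (Nat.shiftLeft (Nat.lor TT_p246 (Nat.shiftLeft (Nat.lor TT_p247 (Nat.shiftLeft TT_p248 15990)) 15990)) 31980)) (Nat.shiftLeft (Nat.lor (Nat.lor TT_p249 (Nat.shiftLeft TT_p250 15990)) (Nat.shiftLeft (Nat.lor TT_p251 (Nat.shiftLeft (Nat.lor TT_p252 (Nat.shiftLeft TT_p253 15990)) 15990)) 31980)) 79950)) (Nat.shiftLeft (Nat.lor (Nat.lor (Nat.lor TT_p254 (Nat.shiftLeft TT_p255 15990)) (Nat.shiftLeft (Nat.lor TT_p256 (Nat.shiftLeft (Nat.lor TT_p257 (Nat.shiftLeft TT_p258 15990)) 15990)) 31980)) (Nat.shiftLeft (Nat.lor (Nat.lor TT_p259 (Nat.shiftLeft TT_p260 15990)) (Nat.shiftLeft (Nat.lor TT_p261 (Nat.shiftLeft (Nat.lor TT_p262 (Nat.shiftLeft TT_p263 15990)) 15990)) 31980)) 79950)) 159900)) (Nat.shiftLeft (Nat.lor (Nat.lor (Nat.lor (Nat.lor TT_p264 (Nat.shiftLeft TT_p265 15990)) (Nat.shiftLeft (Nat.lor TT_p266 (Nat.shiftLeft (Nat.lor TT_p267 (Nat.shiftLeft TT_p268 15990)) 15990)) 31980)) (Nat.shiftLeft (Nat.lor (Nat.lor TT_p269 (Nat.shiftLeft TT_p270 15990)) (Nat.shiftLeft (Nat.lor TT_p271 (Nat.shiftLeft (Nat.lor TT_p272 (Nat.shiftLeft TT_p273 15990)) 15990)) 31980)) 79950)) (Nat.shiftLeft (Nat.lor (Nat.lor (Nat.lor TT_p274 (Nat.shiftLeft TT_p275 15990)) (Nat.shiftLeft (Nat.lor TT_p276 (Nat.shiftLeft (Nat.lor TT_p277 (Nat.shiftLeft TT_p278 15990)) 15990)) 31980)) (Nat.shiftLeft (Nat.lor (Nat.lor TT_p279 (Nat.shiftLeft (Nat.lor TT_p280 (Nat.shiftLeft TT_p281 15990)) 15990)) (Nat.shiftLeft (Nat.lor TT_p282 (Nat.shiftLeft (Nat.lor TT_p283 (Nat.shiftLeft TT_p284 15990)) 15990)) 47970)) 79950)) 159900)) 319800)) (Nat.shiftLeft (Nat.lor (Nat.lor (Nat.lor (Nat.lor (Nat.lor TT_p285 (Nat.shiftLeft TT_p286 15990)) (Nat.shiftLeft (Nat.lor TT_p287 (Nat.shiftLeft (Nat.lor TT_p288 (Nat.shiftLeft TT_p289 15990)) 15990)) 31980)) (Nat.shiftLeft (Nat.lor (Nat.lor TT_p290 (Nat.shiftLeft TT_p291 15990)) (Nat.shiftLeft (Nat.lor TT_p292 (Nat.shiftLeft (Nat.lor TT_p293 (Nat.shiftLeft TT_p294 15990)) 15990)) 31980)) 79950)) (Nat.shiftLeft (Nat.lor (Nat.lor (Nat.lor TT_p295 (Nat.shiftLeft TT_p296 15990)) (Nat.shiftLeft (Nat.lor TT_p297 (Nat.shiftLeft (Nat.lor TT_p298 (Nat.shiftLeft TT_p299 15990)) 15990)) 31980)) (Nat.shiftLeft (Nat.lor (Nat.lor TT_p300 (Nat.shiftLeft TT_p301 15990)) (Nat.shiftLeft (Nat.lor TT_p302 (Nat.shiftLeft (Nat.lor TT_p303 (Nat.shiftLeft TT_p304 15990)) 15990)) 31980)) 79950)) 159900)) (Nat.shiftLeft (Nat.lor (Nat.lor (Nat.lor (Nat.lor TT_p305 (Nat.shiftLeft TT_p306 15990)) (Nat.shiftLeft (Nat.lor TT_p307 (Nat.shiftLeft (Nat.lor TT_p308 (Nat.shiftLeft TT_p309 15990)) 15990)) 31980)) (Nat.shiftLeft (Nat.lor (Nat.lor TT_p310 (Nat.shiftLeft TT_p311 15990)) (Nat.shiftLeft (Nat.lor TT_p312 (Nat.shiftLeft (Nat.lor TT_p313 (Nat.shiftLeft TT_p314 15990)) 15990)) 31980)) 79950)) (Nat.shiftLeft (Nat.lor (Nat.lor (Nat.lor TT_p315 (Nat.shiftLeft TT_p316 15990)) (Nat.shiftLeft (Nat.lor TT_p317 (Nat.shiftLeft (Nat.lor TT_p318 (Nat.shiftLeft TT_p319 15990)) 15990)) 31980)) (Nat.shiftLeft (Nat.lor (Nat.lor TT_p320 (Nat.shiftLeft (Nat.lor TT_p321 (Nat.shiftLeft TT_p322 15990)) 15990)) (Nat.shiftLeft (Nat.lor TT_p323 (Nat.shiftLeft (Nat.lor TT_p324 (Nat.shiftLeft TT_p325 15990)) 15990)) 47970)) 79950)) 159900)) 319800)) 655590)) 1295190)) 2606370)) (Nat.shiftLeft (Nat.lor (Nat.lor (Nat.lor (Nat.lor (Nat.lor (Nat.lor (Nat.lor (Nat.lor TT_p326 (Nat.shiftLeft TT_p327 15990)) (Nat.shiftLeft (Nat.lor TT_p328 (Nat.shiftLeft (Nat.lor TT_p329 (Nat.shiftLeft TT_p330 15990)) 15990)) 31980)) (Nat.shiftLeft (Nat.lor (Nat.lor TT_p331 (Nat.shiftLeft TT_p332 15990)) (Nat.shiftLeft (Nat.lor TT_p333 (Nat.shiftLeft (Nat.lor TT_p334 (Nat.shiftLeft TT_p335 15990)) 15990)) 31980)) 79950)) (Nat.shiftLeft (Nat.lor (Nat.lor (Nat.lor TT_p336 (Nat.shiftLeft TT_p337 15990)) (Nat.shiftLeft (Nat.lor TT_p338 (Nat.shiftLeft (Nat.lor TT_p339 (Nat.shiftLeft TT_p340 15990)) 15990)) 31980)) (Nat.shiftLeft (Nat.lor (Nat.lor TT_p341 (Nat.shiftLeft TT_p342 15990)) (Nat.shiftLeft (Nat.lor TT_p343 (Nat.shiftLeft (Nat.lor TT_p344 (Nat.shiftLeft TT_p345 15990)) 15990)) 31980)) 79950)) 159900)) (Nat.shiftLeft (Nat.lor (Nat.lor (Nat.lor (Nat.lor TT_p346 (Nat.shiftLeft TT_p347 15990)) (Nat.shiftLeft (Nat.lor TT_p348 (Nat.shiftLeft (Nat.lor TT_p349 (Nat.shiftLeft TT_p350 15990)) 15990)) 31980)) (Nat.shiftLeft (Nat.lor (Nat.lor TT_p351 (Nat.shiftLeft TT_p352 15990)) (Nat.shiftLeft (Nat.lor TT_p353 (Nat.shiftLeft (Nat.lor TT_p354 (Nat.shiftLeft TT_p355 15990)) 15990)) 31980)) 79950)) (Nat.shiftLeft (Nat.lor (Nat.lor (Nat.lor TT_p356 (Nat.shiftLeft TT_p357 15990)) (Nat.shiftLeft (Nat.lor TT_p358 (Nat.shiftLeft (Nat.lor TT_p359 (Nat.shiftLeft TT_p360 15990)) 15990)) 31980)) (Nat.shiftLeft (Nat.lor (Nat.lor TT_p361 (Nat.shiftLeft TT_p362 15990)) (Nat.shiftLeft (Nat.lor TT_p363 (Nat.shiftLeft (Nat.lor TT_p364 (Nat.shiftLeft TT_p365 15990)) 15990)) 31980)) 79950)) 159900)) 319800)) (Nat.shiftLeft (Nat.lor (Nat.lor (Nat.lor (Nat.lor (Nat.lor TT_p366 (Nat.shiftLeft TT_p367 15990)) (Nat.shiftLeft (Nat.lor TT_p368 (Nat.shiftLeft (Nat.lor TT_p369 (Nat.shiftLeft TT_p370 15990)) 15990)) 31980)) (Nat.shiftLeft (Nat.lor (Nat.lor TT_p371 (Nat.shiftLeft TT_p372 15990)) (Nat.shiftLeft (Nat.lor TT_p373 (Nat.shiftLeft (Nat.lor TT_p374 (Nat.shiftLeft TT_p375 15990)) 15990)) 31980)) 79950)) (Nat.shiftLeft (Nat.lor (Nat.lor (Nat.lor TT_p376 (Nat.shiftLeft TT_p377 15990)) (Nat.shiftLeft (Nat.lor TT_p378 (Nat.shiftLeft (Nat.lor TT_p379 (Nat.shiftLeft TT_p380 15990)) 15990)) 31980)) (Nat.shiftLeft (Nat.lor (Nat.lor TT_p381 (Nat.shiftLeft TT_p382 15990)) (Nat.shiftLeft (Nat.lor TT_p383 (Nat.shiftLeft (Nat.lor TT_p384 (Nat.shiftLeft TT_p385 15990)) 15990)) 31980)) 79950)) 159900)) (Nat.shiftLeft (Nat.lor (Nat.lor (Nat.lor (Nat.lor TT_p386 (Nat.shiftLeft TT_p387 15990)) (Nat.shiftLeft (Nat.lor TT_p388 (Nat.shiftLeft (Nat.lor TT_p389 (Nat.shiftLeft TT_p390 15990)) 15990)) 31980)) (Nat.shiftLeft (Nat.lor (Nat.lor TT_p391 (Nat.shiftLeft TT_p392 15990)) (Nat.shiftLeft (Nat.lor TT_p393 (Nat.shiftLeft (Nat.lor TT_p394 (Nat.shiftLeft TT_p395 15990)) 15990)) 31980)) 79950)) (Nat.shiftLeft (Nat.lor (Nat.lor (Nat.lor TT_p396 (Nat.shiftLeft TT_p397 15990)) (Nat.shiftLeft (Nat.lor TT_p398 (Nat.shiftLeft (Nat.lor TT_p399 (Nat.shiftLeft TT_p400 15990)) 15990)) 31980)) (Nat.shiftLeft (Nat.lor (Nat.lor TT_p401 (Nat.shiftLeft (Nat.lor TT_p402 (Nat.shiftLeft TT_p403 15990)) 15990)) (Nat.shiftLeft (Nat.lor TT_p404 (Nat.shiftLeft (Nat.lor TT_p405 (Nat.shiftLeft TT_p406 15990)) 15990)) 47970)) 79950)) 159900)) 319800)) 639600)) (Nat.shiftLeft (Nat.lor (Nat.lor (Nat.lor (Nat.lor (Nat.lor (Nat.lor TT_p407 (Nat.shiftLeft TT_p408 15990)) (Nat.shiftLeft (Nat.lor TT_p409 (Nat.shiftLeft (Nat.lor TT_p410 (Nat.shiftLeft TT_p411 15990)) 15990)) 31980)) (Nat.shiftLeft (Nat.lor (Nat.lor TT_p412 (Nat.shiftLeft TT_p413 15990)) (Nat.shiftLeft (Nat.lor TT_p414 (Nat.shiftLeft (Nat.lor TT_p415 (Nat.shiftLeft TT_p416 15990)) 15990)) 31980)) 79950)) (Nat.shiftLeft (Nat.lor (Nat.lor (Nat.lor TT_p417 (Nat.shiftLeft TT_p418 15990)) (Nat.shiftLeft (Nat.lor TT_p419 (Nat.shiftLeft (Nat.lor TT_p420 (Nat.shiftLeft TT_p421 15990)) 15990)) 31980)) (Nat.shiftLeft (Nat.lor (Nat.lor TT_p422 (Nat.shiftLeft TT_p423 15990)) (Nat.shiftLeft (Nat.lor TT_p424 (Nat.shiftLeft (Nat.lor TT_p425 (Nat.shiftLeft TT_p426 15990)) 15990)) 31980)) 79950)) 159900)) (Nat.shiftLeft (Nat.lor (Nat.lor (Nat.lor (Nat.lor TT_p427 (Nat.shiftLeft TT_p428 15990)) (Nat.shiftLeft (Nat.lor TT_p429 (Nat.shiftLeft (Nat.lor TT_p430 (Nat.shiftLeft TT_p431 15990)) 15990)) 31980)) (Nat.shiftLeft (Nat.lor (Nat.lor TT_p432 (Nat.shiftLeft TT_p433 15990)) (Nat.shiftLeft (Nat.lor TT_p434 (Nat.shiftLeft (Nat.lor TT_p435 (Nat.shiftLeft TT_p436 15990)) 15990)) 31980)) 79950)) (Nat.shiftLeft (Nat.lor (Nat.lor (Nat.lor TT_p437 (Nat.shiftLeft TT_p438 15990)) (Nat.shiftLeft (Nat.lor TT_p439 (Nat.shiftLeft (Nat.lor TT_p440 (Nat.shiftLeft TT_p441 15990)) 15990)) 31980)) (Nat.shiftLeft (Nat.lor (Nat.lor TT_p442 (Nat.shiftLeft (Nat.lor TT_p443 (Nat.shiftLeft TT_p444 15990)) 15990)) (Nat.shiftLeft (Nat.lor TT_p445 (Nat.shiftLeft (Nat.lor TT_p446 (Nat.shiftLeft TT_p447 15990)) 15990)) 47970)) 79950)) 159900)) 319800)) (Nat.shiftLeft (Nat.lor (Nat.lor (Nat.lor (Nat.lor (Nat.lor TT_p448 (Nat.shiftLeft TT_p449 15990)) (Nat.shiftLeft (Nat.lor TT_p450 (Nat.shiftLeft (Nat.lor TT_p451 (Nat.shiftLeft TT_p452 15990)) 15990)) 31980)) (Nat.shiftLeft (Nat.lor (Nat.lor TT_p453 (Nat.shiftLeft TT_p454 15990)) (Nat.shiftLeft (Nat.lor TT_p455 (Nat.shiftLeft (Nat.lor TT_p456 (Nat.shiftLeft TT_p457 15990)) 15990)) 31980)) 79950)) (Nat.shiftLeft (Nat.lor (Nat.lor (Nat.lor TT_p458 (Nat.shiftLeft TT_p459 15990)) (Nat.shiftLeft (Nat.lor TT_p460 (Nat.shiftLeft (Nat.lor TT_p461 (Nat.shiftLeft TT_p462 15990)) 15990)) 31980)) (Nat.shiftLeft (Nat.lor (Nat.lor TT_p463 (Nat.shiftLeft TT_p464 15990)) (Nat.shiftLeft (Nat.lor TT_p465 (Nat.shiftLeft (Nat.lor TT_p466 (Nat.shiftLeft TT_p467 15990)) 15990)) 31980)) 79950)) 159900)) (Nat.shiftLeft (Nat.lor (Nat.lor (Nat.lor (Nat.lor TT_p468 (Nat.shiftLeft TT_p469 15990)) (Nat.shiftLeft (Nat.lor TT_p470 (Nat.shiftLeft (Nat.lor TT_p471 (Nat.shiftLeft TT_p472 15990)) 15990)) 31980)) (Nat.shiftLeft (Nat.lor (Nat.lor TT_p473 (Nat.shiftLeft TT_p474 15990)) (Nat.shiftLeft (Nat.lor TT_p475 (Nat.shiftLeft (Nat.lor TT_p476 (Nat.shiftLeft TT_p477 15990)) 15990)) 31980)) 79950)) (Nat.shiftLeft (Nat.lor (Nat.lor (Nat.lor TT_p478 (Nat.shiftLeft TT_p479 15990)) (Nat.shiftLeft (Nat.lor TT_p480 (Nat.shiftLeft (Nat.lor TT_p481 (Nat.shiftLeft TT_p482 15990)) 15990)) 31980)) (Nat.shiftLeft (Nat.lor (Nat.lor TT_p483 (Nat.shiftLeft (Nat.lor TT_p484 (Nat.shiftLeft TT_p485 15990)) 15990)) (Nat.shiftLeft (Nat.lor TT_p486 (Nat.shiftLeft (Nat.lor TT_p487 (Nat.shiftLeft TT_p488 15990)) 15990)) 47970)) 79950)) 159900)) 319800)) 655590)) 1295190)) (Nat.shiftLeft (Nat.lor (Nat.lor (Nat.lor (Nat.lor (Nat.lor (Nat.lor (Nat.lor TT_p489 (Nat.shiftLeft TT_p490 15990)) (Nat.shiftLeft (Nat.lor TT_p491 (Nat.shiftLeft (Nat.lor TT_p492 (Nat.shiftLeft TT_p493 15990)) 15990)) 31980)) (Nat.shiftLeft (Nat.lor (Nat.lor TT_p494 (Nat.shiftLeft TT_p495 15990)) (Nat.shiftLeft (Nat.lor TT_p496 (Nat.shiftLeft (Nat.lor TT_p497 (Nat.shiftLeft TT_p498 15990)) 15990)) 31980)) 79950)) (Nat.shiftLeft (Nat.lor (Nat.lor (Nat.lor TT_p499 (Nat.shiftLeft TT_p500 15990)) (Nat.shiftLeft (Nat.lor TT_p501 (Nat.shiftLeft (Nat.lor TT_p502 (Nat.shiftLeft TT_p503 15990)) 15990)) 31980)) (Nat.shiftLeft (Nat.lor (Nat.lor TT_p504 (Nat.shiftLeft TT_p505 15990)) (Nat.shiftLeft (Nat.lor TT_p506 (Nat.shiftLeft (Nat.lor TT_p507 (Nat.shiftLeft TT_p508 15990)) 15990)) 31980)) 79950)) 159900)) (Nat.shiftLeft (Nat.lor (Nat.lor (Nat.lor (Nat.lor TT_p509 (Nat.shiftLeft TT_p510 15990)) (Nat.shiftLeft (Nat.lor TT_p511 (Nat.shiftLeft (Nat.lor TT_p512 (Nat.shiftLeft TT_p513 15990)) 15990)) 31980)) (Nat.shiftLeft (Nat.lor (Nat.lor TT_p514 (Nat.shiftLeft TT_p515 15990)) (Nat.shiftLeft (Nat.lor TT_p516 (Nat.shiftLeft (Nat.lor TT_p517 (Nat.shiftLeft TT_p518 15990)) 15990)) 31980)) 79950)) (Nat.shiftLeft (Nat.lor (Nat.lor (Nat.lor TT_p519 (Nat.shiftLeft TT_p520 15990)) (Nat.shiftLeft (Nat.lor TT_p521 (Nat.shiftLeft (Nat.lor TT_p522 (Nat.shiftLeft TT_p523 15990)) 15990)) 31980)) (Nat.shiftLeft (Nat.lor (Nat.lor TT_p524 (Nat.shiftLeft (Nat.lor TT_p525 (Nat.shiftLeft TT_p526 15990)) 15990)) (Nat.shiftLeft (Nat.lor TT_p527 (Nat.shiftLeft (Nat.lor TT_p528 (Nat.shiftLeft TT_p529 15990)) 15990)) 47970)) 79950)) 159900)) 319800)) (Nat.shiftLeft (Nat.lor (Nat.lor (Nat.lor (Nat.lor (Nat.lor TT_p530 (Nat.shiftLeft TT_p531 15990)) (Nat.shiftLeft (Nat.lor TT_p532 (Nat.shiftLeft (Nat.lor TT_p533 (Nat.shiftLeft TT_p534 15990)) 15990)) 31980)) (Nat.shiftLeft (Nat.lor (Nat.lor TT_p535 (Nat.shiftLeft TT_p536 15990)) (Nat.shiftLeft (Nat.lor TT_p537 (Nat.shiftLeft (Nat.lor TT_p538 (Nat.shiftLeft TT_p539 15990)) 15990)) 31980)) 79950)) (Nat.shiftLeft (Nat.lor (Nat.lor (Nat.lor TT_p540 (Nat.shiftLeft TT_p541 15990)) (Nat.shiftLeft (Nat.lor TT_p542 (Nat.shiftLeft (Nat.lor TT_p543 (Nat.shiftLeft TT_p544 15990)) 15990)) 31980)) (Nat.shiftLeft (Nat.lor (Nat.lor TT_p545 (Nat.shiftLeft TT_p546 15990)) (Nat.shiftLeft (Nat.lor TT_p547 (Nat.shiftLeft (Nat.lor TT_p548 (Nat.shiftLeft TT_p549 15990)) 15990)) 31980)) 79950)) 159900)) (Nat.shiftLeft (Nat.lor (Nat.lor (Nat.lor (Nat.lor TT_p550 (Nat.shiftLeft TT_p551 15990)) (Nat.shiftLeft (Nat.lor TT_p552 (Nat.shiftLeft (Nat.lor TT_p553 (Nat.shiftLeft TT_p554 15990)) 15990)) 31980)) (Nat.shiftLeft (Nat.lor (Nat.lor TT_p555 (Nat.shiftLeft TT_p556 15990)) (Nat.shiftLeft (Nat.lor TT_p557 (Nat.shiftLeft (Nat.lor TT_p558 (Nat.shiftLeft TT_p559 15990)) 15990)) 31980)) 79950)) (Nat.shiftLeft (Nat.lor (Nat.lor (Nat.lor TT_p560 (Nat.shiftLeft TT_p561 15990)) (Nat.shiftLeft (Nat.lor TT_p562 (Nat.shiftLeft (Nat.lor TT_p563 (Nat.shiftLeft TT_p564 15990)) 15990)) 31980)) (Nat.shiftLeft (Nat.lor (Nat.lor TT_p565 (Nat.shiftLeft (Nat.lor TT_p566 (Nat.shiftLeft TT_p567 15990)) 15990)) (Nat.shiftLeft (Nat.lor TT_p568 (Nat.shiftLeft (Nat.lor TT_p569 (Nat.shiftLeft TT_p570 15990)) 15990)) 47970)) 79950)) 159900)) 319800)) 655590)) (Nat.shiftLeft (Nat.lor (Nat.lor (Nat.lor (Nat.lor (Nat.lor (Nat.lor TT_p571 (Nat.shiftLeft TT_p572 15990)) (Nat.shiftLeft (Nat.lor TT_p573 (Nat.shiftLeft (Nat.lor TT_p574 (Nat.shiftLeft TT_p575 15990)) 15990)) 31980)) (Nat.shiftLeft (Nat.lor (Nat.lor TT_p576 (Nat.shiftLeft TT_p577 15990)) (Nat.shiftLeft (Nat.lor TT_p578 (Nat.shiftLeft (Nat.lor TT_p579 (Nat.shiftLeft TT_p580 15990)) 15990)) 31980)) 79950)) (Nat.shiftLeft (Nat.lor (Nat.lor (Nat.lor TT_p581 (Nat.shiftLeft TT_p582 15990)) (Nat.shiftLeft (Nat.lor TT_p583 (Nat.shiftLeft (Nat.lor TT_p584 (Nat.shiftLeft TT_p585 15990)) 15990)) 31980)) (Nat.shiftLeft (Nat.lor (Nat.lor TT_p586 (Nat.shiftLeft TT_p587 15990)) (Nat.shiftLeft (Nat.lor TT_p588 (Nat.shiftLeft (Nat.lor TT_p589 (Nat.shiftLeft TT_p590 15990)) 15990)) 31980)) 79950)) 159900)) (Nat.shiftLeft (Nat.lor (Nat.lor (Nat.lor (Nat.lor TT_p591 (Nat.shiftLeft TT_p592 15990)) (Nat.shiftLeft (Nat.lor TT_p593 (Nat.shiftLeft (Nat.lor TT_p594 (Nat.shiftLeft TT_p595 15990)) 15990)) 31980)) (Nat.shiftLeft (Nat.lor (Nat.lor TT_p596 (Nat.shiftLeft TT_p597 15990)) (Nat.shiftLeft (Nat.lor TT_p598 (Nat.shiftLeft (Nat.lor TT_p599 (Nat.shiftLeft TT_p600 15990)) 15990)) 31980)) 79950)) (Nat.shiftLeft (Nat.lor (Nat.lor (Nat.lor TT_p601 (Nat.shiftLeft TT_p602 15990)) (Nat.shiftLeft (Nat.lor TT_p603 (Nat.shiftLeft (Nat.lor TT_p604 (Nat.shiftLeft TT_p605 15990)) 15990)) 31980)) (Nat.shiftLeft (Nat.lor (Nat.lor TT_p606 (Nat.shiftLeft (Nat.lor TT_p607 (Nat.shiftLeft TT_p608 15990)) 15990)) (Nat.shiftLeft (Nat.lor TT_p609 (Nat.shiftLeft (Nat.lor TT_p610 (Nat.shiftLeft TT_p611 15990)) 15990)) 47970)) 79950)) 159900)) 319800)) (Nat.shiftLeft (Nat.lor (Nat.lor (Nat.lor (Nat.lor (Nat.lor TT_p612 (Nat.shiftLeft TT_p613 15990)) (Nat.shiftLeft (Nat.lor TT_p614 (Nat.shiftLeft (Nat.lor TT_p615 (Nat.shiftLeft TT_p616 15990)) 15990)) 31980)) (Nat.shiftLeft (Nat.lor (Nat.lor TT_p617 (Nat.shiftLeft TT_p618 15990)) (Nat.shiftLeft (Nat.lor TT_p619 (Nat.shiftLeft (Nat.lor TT_p620 (Nat.shiftLeft TT_p621 15990)) 15990)) 31980)) 79950)) (Nat.shiftLeft (Nat.lor (Nat.lor (Nat.lor TT_p622 (Nat.shiftLeft TT_p623 15990)) (Nat.shiftLeft (Nat.lor TT_p624 (Nat.shiftLeft (Nat.lor TT_p625 (Nat.shiftLeft TT_p626 15990)) 15990)) 31980)) (Nat.shiftLeft (Nat.lor (Nat.lor TT_p627 (Nat.shiftLeft TT_p628 15990)) (Nat.shiftLeft (Nat.lor TT_p629 (Nat.shiftLeft (Nat.lor TT_p630 (Nat.shiftLeft TT_p631 15990)) 15990)) 31980)) 79950)) 159900)) (Nat.shiftLeft (Nat.lor (Nat.lor (Nat.lor (Nat.lor TT_p632 (Nat.shiftLeft TT_p633 15990)) (Nat.shiftLeft (Nat.lor TT_p634 (Nat.shiftLeft (Nat.lor TT_p635 (Nat.shiftLeft TT_p636 15990)) 15990)) 31980)) (Nat.shiftLeft (Nat.lor (Nat.lor TT_p637 (Nat.shiftLeft TT_p638 15990)) (Nat.shiftLeft (Nat.lor TT_p639 (Nat.shiftLeft (Nat.lor TT_p640 (Nat.shiftLeft TT_p641 15990)) 15990)) 31980)) 79950)) (Nat.shiftLeft (Nat.lor (Nat.lor (Nat.lor TT_p642 (Nat.shiftLeft TT_p643 15990)) (Nat.shiftLeft (Nat.lor TT_p644 (Nat.shiftLeft (Nat.lor TT_p645 (Nat.shiftLeft TT_p646 15990)) 15990)) 31980)) (Nat.shiftLeft (Nat.lor (Nat.lor TT_p647 (Nat.shiftLeft (Nat.lor TT_p648 (Nat.shiftLeft TT_p649 15990)) 15990)) (Nat.shiftLeft (Nat.lor TT_p650 (Nat.shiftLeft (Nat.lor TT_p651 (Nat.shiftLeft TT_p652 15990)) 15990)) 47970)) 79950)) 159900)) 319800)) 655590)) 1311180)) 2606370)) 5212740)) (Nat.shiftLeft (Nat.lor (Nat.lor (Nat.lor (Nat.lor (Nat.lor (Nat.lor (Nat.lor (Nat.lor (Nat.lor TT_p653 (Nat.shiftLeft TT_p654 15990)) (Nat.shiftLeft (Nat.lor TT_p655 (Nat.shiftLeft (Nat.lor TT_p656 (Nat.shiftLeft TT_p657 15990)) 15990)) 31980)) (Nat.shiftLeft (Nat.lor (Nat.lor TT_p658 (Nat.shiftLeft TT_p659 15990)) (Nat.shiftLeft (Nat.lor TT_p660 (Nat.shiftLeft (Nat.lor TT_p661 (Nat.shiftLeft TT_p662 15990)) 15990)) 31980)) 79950)) (Nat.shiftLeft (Nat.lor (Nat.lor (Nat.lor TT_p663 (Nat.shiftLeft TT_p664 15990)) (Nat.shiftLeft (Nat.lor TT_p665 (Nat.shiftLeft (Nat.lor TT_p666 (Nat.shiftLeft TT_p667 15990)) 15990)) 31980)) (Nat.shiftLeft (Nat.lor (Nat.lor TT_p668 (Nat.shiftLeft TT_p669 15990)) (Nat.shiftLeft (Nat.lor TT_p670 (Nat.shiftLeft (Nat.lor TT_p671 (Nat.shiftLeft TT_p672 15990)) 15990)) 31980)) 79950)) 159900)) (Nat.shiftLeft (Nat.lor (Nat.lor (Nat.lor (Nat.lor TT_p673 (Nat.shiftLeft TT_p674 15990)) (Nat.shiftLeft (Nat.lor TT_p675 (Nat.shiftLeft (Nat.lor TT_p676 (Nat.shiftLeft TT_p677 15990)) 15990)) 31980)) (Nat.shiftLeft (Nat.lor (Nat.lor TT_p678 (Nat.shiftLeft TT_p679 15990)) (Nat.shiftLeft (Nat.lor TT_p680 (Nat.shiftLeft (Nat.lor TT_p681 (Nat.shiftLeft TT_p682 15990)) 15990)) 31980)) 79950)) (Nat.shiftLeft (Nat.lor (Nat.lor (Nat.lor TT_p683 (Nat.shiftLeft TT_p684 15990)) (Nat.shiftLeft (Nat.lor TT_p685 (Nat.shiftLeft (Nat.lor TT_p686 (Nat.shiftLeft TT_p687 15990)) 15990)) 31980)) (Nat.shiftLeft (Nat.lor (Nat.lor TT_p688 (Nat.shiftLeft TT_p689 15990)) (Nat.shiftLeft (Nat.lor TT_p690 (Nat.shiftLeft (Nat.lor TT_p691 (Nat.shiftLeft TT_p692 15990)) 15990)) 31980)) 79950)) 159900)) 319800)) (Nat.shiftLeft (Nat.lor (Nat.lor (Nat.lor (Nat.lor (Nat.lor TT_p693 (Nat.shiftLeft TT_p694 15990)) (Nat.shiftLeft (Nat.lor TT_p695 (Nat.shiftLeft (Nat.lor TT_p696 (Nat.shiftLeft TT_p697 15990)) 15990)) 31980)) (Nat.shiftLeft (Nat.lor (Nat.lor TT_p698 (Nat.shiftLeft TT_p699 15990)) (Nat.shiftLeft (Nat.lor TT_p700 (Nat.shiftLeft (Nat.lor TT_p701 (Nat.shiftLeft TT_p702 15990)) 15990)) 31980)) 79950)) (Nat.shiftLeft (Nat.lor (Nat.lor (Nat.lor TT_p703 (Nat.shiftLeft TT_p704 15990)) (Nat.shiftLeft (Nat.lor TT_p705 (Nat.shiftLeft (Nat.lor TT_p706 (Nat.shiftLeft TT_p707 15990)) 15990)) 31980)) (Nat.shiftLeft (Nat.lor (Nat.lor TT_p708 (Nat.shiftLeft TT_p709 15990)) (Nat.shiftLeft (Nat.lor TT_p710 (Nat.shiftLeft (Nat.lor TT_p711 (Nat.shiftLeft TT_p712 15990)) 15990)) 31980)) 79950)) 159900)) (Nat.shiftLeft (Nat.lor (Nat.lor (Nat.lor (Nat.lor TT_p713 (Nat.shiftLeft TT_p714 15990)) (Nat.shiftLeft (Nat.lor TT_p715 (Nat.shiftLeft (Nat.lor TT_p716 (Nat.shiftLeft TT_p717 15990)) 15990)) 31980)) (Nat.shiftLeft (Nat.lor (Nat.lor TT_p718 (Nat.shiftLeft TT_p719 15990)) (Nat.shiftLeft (Nat.lor TT_p720 (Nat.shiftLeft (Nat.lor TT_p721 (Nat.shiftLeft TT_p722 15990)) 15990)) 31980)) 79950)) (Nat.shiftLeft (Nat.lor (Nat.lor (Nat.lor TT_p723 (Nat.shiftLeft TT_p724 15990)) (Nat.shiftLeft (Nat.lor TT_p725 (Nat.shiftLeft (Nat.lor TT_p726 (Nat.shiftLeft TT_p727 15990)) 15990)) 31980)) (Nat.shiftLeft (Nat.lor (Nat.lor TT_p728 (Nat.shiftLeft (Nat.lor TT_p729 (Nat.shiftLeft TT_p730 15990)) 15990)) (Nat.shiftLeft (Nat.lor TT_p731 (Nat.shiftLeft (Nat.lor TT_p732 (Nat.shiftLeft TT_p733 15990)) 15990)) 47970)) 79950)) 159900)) 319800)) 639600)) (Nat.shiftLeft (Nat.lor (Nat.lor (Nat.lor (Nat.lor (Nat.lor (Nat.lor TT_p734 (Nat.shiftLeft TT_p735 15990)) (Nat.shiftLeft (Nat.lor TT_p736 (Nat.shiftLeft (Nat.lor TT_p737 (Nat.shiftLeft TT_p738 15990)) 15990)) 31980)) (Nat.shiftLeft (Nat.lor (Nat.lor TT_p739 (Nat.shiftLeft TT_p740 15990)) (Nat.shiftLeft (Nat.lor TT_p741 (Nat.shiftLeft (Nat.lor TT_p742 (Nat.shiftLeft TT_p743 15990)) 15990)) 31980)) 79950)) (Nat.shiftLeft (Nat.lor (Nat.lor (Nat.lor TT_p744 (Nat.shiftLeft TT_p745 15990)) (Nat.shiftLeft (Nat.lor TT_p746 (Nat.shiftLeft (Nat.lor TT_p747 (Nat.shiftLeft TT_p748 15990)) 15990)) 31980)) (Nat.shiftLeft (Nat.lor (Nat.lor TT_p749 (Nat.shiftLeft TT_p750 15990)) (Nat.shiftLeft (Nat.lor TT_p751 (Nat.shiftLeft (Nat.lor TT_p752 (Nat.shiftLeft TT_p753 15990)) 15990)) 31980)) 79950)) 159900)) (Nat.shiftLeft (Nat.lor (Nat.lor (Nat.lor (Nat.lor TT_p754 (Nat.shiftLeft TT_p755 15990)) (Nat.shiftLeft (Nat.lor TT_p756 (Nat.shiftLeft (Nat.lor TT_p757 (Nat.shiftLeft TT_p758 15990)) 15990)) 31980)) (Nat.shiftLeft (Nat.lor (Nat.lor TT_p759 (Nat.shiftLeft TT_p760 15990)) (Nat.shiftLeft (Nat.lor TT_p761 (Nat.shiftLeft (Nat.lor TT_p762 (Nat.shiftLeft TT_p763 15990)) 15990)) 31980)) 79950)) (Nat.shiftLeft (Nat.lor (Nat.lor (Nat.lor TT_p764 (Nat.shiftLeft TT_p765 15990)) (Nat.shiftLeft (Nat.lor TT_p766 (Nat.shiftLeft (Nat.lor TT_p767 (Nat.shiftLeft TT_p768 15990)) 15990)) 31980)) (Nat.shiftLeft (Nat.lor (Nat.lor TT_p769 (Nat.shiftLeft (Nat.lor TT_p770 (Nat.shiftLeft TT_p771 15990)) 15990)) (Nat.shiftLeft (Nat.lor TT_p772 (Nat.shiftLeft (Nat.lor TT_p773 (Nat.shiftLeft TT_p774 15990)) 15990)) 47970)) 79950)) 159900)) 319800)) (Nat.shiftLeft (Nat.lor (Nat.lor (Nat.lor (Nat.lor (Nat.lor TT_p775 (Nat.shiftLeft TT_p776 15990)) (Nat.shiftLeft (Nat.lor TT_p777 (Nat.shiftLeft (Nat.lor TT_p778 (Nat.shiftLeft TT_p779 15990)) 15990)) 31980)) (Nat.shiftLeft (Nat.lor (Nat.lor TT_p780 (Nat.shiftLeft TT_p781 15990)) (Nat.shiftLeft (Nat.lor TT_p782 (Nat.shiftLeft (Nat.lor TT_p783 (Nat.shiftLeft TT_p784 15990)) 15990)) 31980)) 79950)) (Nat.shiftLeft (Nat.lor (Nat.lor (Nat.lor TT_p785 (Nat.shiftLeft TT_p786 15990)) (Nat.shiftLeft (Nat.lor TT_p787 (Nat.shiftLeft (Nat.lor TT_p788 (Nat.shiftLeft TT_p789 15990)) 15990)) 31980)) (Nat.shiftLeft (Nat.lor (Nat.lor TT_p790 (Nat.shiftLeft TT_p791 15990)) (Nat.shiftLeft (Nat.lor TT_p792 (Nat.shiftLeft (Nat.lor TT_p793 (Nat.shiftLeft TT_p794 15990)) 15990)) 31980)) 79950)) 159900)) (Nat.shiftLeft (Nat.lor (Nat.lor (Nat.lor (Nat.lor TT_p795 (Nat.shiftLeft TT_p796 15990)) (Nat.shiftLeft (Nat.lor TT_p797 (Nat.shiftLeft (Nat.lor TT_p798 (Nat.shiftLeft TT_p799 15990)) 15990)) 31980)) (Nat.shiftLeft (Nat.lor (Nat.lor TT_p800 (Nat.shiftLeft TT_p801 15990)) (Nat.shiftLeft (Nat.lor TT_p802 (Nat.shiftLeft (Nat.lor TT_p803 (Nat.shiftLeft TT_p804 15990)) 15990)) 31980)) 79950)) (Nat.shiftLeft (Nat.lor (Nat.lor (Nat.lor TT_p805 (Nat.shiftLeft TT_p806 15990)) (Nat.shiftLeft (Nat.lor TT_p807 (Nat.shiftLeft (Nat.lor TT_p808 (Nat.shiftLeft TT_p809 15990)) 15990)) 31980)) (Nat.shiftLeft (Nat.lor (Nat.lor TT_p810 (Nat.shiftLeft (Nat.lor TT_p811 (Nat.shiftLeft TT_p812 15990)) 15990)) (Nat.shiftLeft (Nat.lor TT_p813 (Nat.shiftLeft (Nat.lor TT_p814 (Nat.shiftLeft TT_p815 15990)) 15990)) 47970)) 79950)) 159900)) 319800)) 655590)) 1295190)) (Nat.shiftLeft (Nat.lor (Nat.lor (Nat.lor (Nat.lor (Nat.lor (Nat.lor (Nat.lor TT_p816 (Nat.shiftLeft TT_p817 15990)) (Nat.shiftLeft (Nat.lor TT_p818 (Nat.shiftLeft (Nat.lor TT_p819 (Nat.shiftLeft TT_p820 15990)) 15990)) 31980)) (Nat.shiftLeft (Nat.lor (Nat.lor TT_p821 (Nat.shiftLeft TT_p822 15990)) (Nat.shiftLeft (Nat.lor TT_p823 (Nat.shiftLeft (Nat.lor TT_p824 (Nat.shiftLeft TT_p825 15990)) 15990)) 31980)) 79950)) (Nat.shiftLeft (Nat.lor (Nat.lor (Nat.lor TT_p826 (Nat.shiftLeft TT_p827 15990)) (Nat.shiftLeft (Nat.lor TT_p828 (Nat.shiftLeft (Nat.lor TT_p829 (Nat.shiftLeft TT_p830 15990)) 15990)) 31980)) (Nat.shiftLeft (Nat.lor (Nat.lor TT_p831 (Nat.shiftLeft TT_p832 15990)) (Nat.shiftLeft (Nat.lor TT_p833 (Nat.shiftLeft (Nat.lor TT_p834 (Nat.shiftLeft TT_p835 15990)) 15990)) 31980)) 79950)) 159900)) (Nat.shiftLeft (Nat.lor (Nat.lor (Nat.lor (Nat.lor TT_p836 (Nat.shiftLeft TT_p837 15990)) (Nat.shiftLeft (Nat.lor TT_p838 (Nat.shiftLeft (Nat.lor TT_p839 (Nat.shiftLeft TT_p840 15990)) 15990)) 31980)) (Nat.shiftLeft (Nat.lor (Nat.lor TT_p841 (Nat.shiftLeft TT_p842 15990)) (Nat.shiftLeft (Nat.lor TT_p843 (Nat.shiftLeft (Nat.lor TT_p844 (Nat.shiftLeft TT_p845 15990)) 15990)) 31980)) 79950)) (Nat.shiftLeft (Nat.lor (Nat.lor (Nat.lor TT_p846 (Nat.shiftLeft TT_p847 15990)) (Nat.shiftLeft (Nat.lor TT_p848 (Nat.shiftLeft (Nat.lor TT_p849 (Nat.shiftLeft TT_p850 15990)) 15990)) 31980)) (Nat.shiftLeft (Nat.lor (Nat.lor TT_p851 (Nat.shiftLeft (Nat.lor TT_p852 (Nat.shiftLeft TT_p853 15990)) 15990)) (Nat.shiftLeft (Nat.lor TT_p854 (Nat.shiftLeft (Nat.lor TT_p855 (Nat.shiftLeft TT_p856 15990)) 15990)) 47970)) 79950)) 159900)) 319800)) (Nat.shiftLeft (Nat.lor (Nat.lor (Nat.lor (Nat.lor (Nat.lor TT_p857 (Nat.shiftLeft TT_p858 15990)) (Nat.shiftLeft (Nat.lor TT_p859 (Nat.shiftLeft (Nat.lor TT_p860 (Nat.shiftLeft TT_p861 15990)) 15990)) 31980)) (Nat.shiftLeft (Nat.lor (Nat.lor TT_p862 (Nat.shiftLeft TT_p863 15990)) (Nat.shiftLeft (Nat.lor TT_p864 (Nat.shiftLeft (Nat.lor TT_p865 (Nat.shiftLeft TT_p866 15990)) 15990)) 31980)) 79950)) (Nat.shiftLeft (Nat.lor (Nat.lor (Nat.lor TT_p867 (Nat.shiftLeft TT_p868 15990)) (Nat.shiftLeft (Nat.lor TT_p869 (Nat.shiftLeft (Nat.lor TT_p870 (Nat.shiftLeft TT_p871 15990)) 15990)) 31980)) (Nat.shiftLeft (Nat.lor (Nat.lor TT_p872 (Nat.shiftLeft TT_p873 15990)) (Nat.shiftLeft (Nat.lor TT_p874 (Nat.shiftLeft (Nat.lor TT_p875 (Nat.shiftLeft TT_p876 15990)) 15990)) 31980)) 79950)) 159900)) (Nat.shiftLeft (Nat.lor (Nat.lor (Nat.lor (Nat.lor TT_p877 (Nat.shiftLeft TT_p878 15990)) (Nat.shiftLeft (Nat.lor TT_p879 (Nat.shiftLeft (Nat.lor TT_p880 (Nat.shiftLeft TT_p881 15990)) 15990)) 31980)) (Nat.shiftLeft (Nat.lor (Nat.lor TT_p882 (Nat.shiftLeft TT_p883 15990)) (Nat.shiftLeft (Nat.lor TT_p884 (Nat.shiftLeft (Nat.lor TT_p885 (Nat.shiftLeft TT_p886 15990)) 15990)) 31980)) 79950)) (Nat.shiftLeft (Nat.lor (Nat.lor (Nat.lor TT_p887 (Nat.shiftLeft TT_p888 15990)) (Nat.shiftLeft (Nat.lor TT_p889 (Nat.shiftLeft (Nat.lor TT_p890 (Nat.shiftLeft TT_p891 15990)) 15990)) 31980)) (Nat.shiftLeft (Nat.lor (Nat.lor TT_p892 (Nat.shiftLeft (Nat.lor TT_p893 (Nat.shiftLeft TT_p894 15990)) 15990)) (Nat.shiftLeft (Nat.lor TT_p895 (Nat.shiftLeft (Nat.lor TT_p896 (Nat.shiftLeft TT_p897 15990)) 15990)) 47970)) 79950)) 159900)) 319800)) 655590)) (Nat.shiftLeft (Nat.lor (Nat.lor (Nat.lor (Nat.lor (Nat.lor (Nat.lor TT_p898 (Nat.shiftLeft TT_p899 15990)) (Nat.shiftLeft (Nat.lor TT_p900 (Nat.shiftLeft (Nat.lor TT_p901 (Nat.shiftLeft TT_p902 15990)) 15990)) 31980)) (Nat.shiftLeft (Nat.lor (Nat.lor TT_p903 (Nat.shiftLeft TT_p904 15990)) (Nat.shiftLeft (Nat.lor TT_p905 (Nat.shiftLeft (Nat.lor TT_p906 (Nat.shiftLeft TT_p907 15990)) 15990)) 31980)) 79950)) (Nat.shiftLeft (Nat.lor (Nat.lor (Nat.lor TT_p908 (Nat.shiftLeft TT_p909 15990)) (Nat.shiftLeft (Nat.lor TT_p910 (Nat.shiftLeft (Nat.lor TT_p911 (Nat.shiftLeft TT_p912 15990)) 15990)) 31980)) (Nat.shiftLeft (Nat.lor (Nat.lor TT_p913 (Nat.shiftLeft TT_p914 15990)) (Nat.shiftLeft (Nat.lor TT_p915 (Nat.shiftLeft (Nat.lor TT_p916 (Nat.shiftLeft TT_p917 15990)) 15990)) 31980)) 79950)) 159900)) (Nat.shiftLeft (Nat.lor (Nat.lor (Nat.lor (Nat.lor TT_p918 (Nat.shiftLeft TT_p919 15990)) (Nat.shiftLeft (Nat.lor TT_p920 (Nat.shiftLeft (Nat.lor TT_p921 (Nat.shiftLeft TT_p922 15990)) 15990)) 31980)) (Nat.shiftLeft (Nat.lor (Nat.lor TT_p923 (Nat.shiftLeft TT_p924 15990)) (Nat.shiftLeft (Nat.lor TT_p925 (Nat.shiftLeft (Nat.lor TT_p926 (Nat.shiftLeft TT_p927 15990)) 15990)) 31980)) 79950)) (Nat.shiftLeft (Nat.lor (Nat.lor (Nat.lor TT_p928 (Nat.shiftLeft TT_p929 15990)) (Nat.shiftLeft (Nat.lor TT_p930 (Nat.shiftLeft (Nat.lor TT_p931 (Nat.shiftLeft TT_p932 15990)) 15990)) 31980)) (Nat.shiftLeft (Nat.lor (Nat.lor TT_p933 (Nat.shiftLeft (Nat.lor TT_p934 (Nat.shiftLeft TT_p935 15990)) 15990)) (Nat.shiftLeft (Nat.lor TT_p936 (Nat.shiftLeft (Nat.lor TT_p937 (Nat.shiftLeft TT_p938 15990)) 15990)) 47970)) 79950)) 159900)) 319800)) (Nat.shiftLeft (Nat.lor (Nat.lor (Nat.lor (Nat.lor (Nat.lor TT_p939 (Nat.shiftLeft TT_p940 15990)) (Nat.shiftLeft (Nat.lor TT_p941 (Nat.shiftLeft (Nat.lor TT_p942 (Nat.shiftLeft TT_p943 15990)) 15990)) 31980)) (Nat.shiftLeft (Nat.lor (Nat.lor TT_p944 (Nat.shiftLeft TT_p945 15990)) (Nat.shiftLeft (Nat.lor TT_p946 (Nat.shiftLeft (Nat.lor TT_p947 (Nat.shiftLeft TT_p948 15990)) 15990)) 31980)) 79950)) (Nat.shiftLeft (Nat.lor (Nat.lor (Nat.lor TT_p949 (Nat.shiftLeft TT_p950 15990)) (Nat.shiftLeft (Nat.lor TT_p951 (Nat.shiftLeft (Nat.lor TT_p952 (Nat.shiftLeft TT_p953 15990)) 15990)) 31980)) (Nat.shiftLeft (Nat.lor (Nat.lor TT_p954 (Nat.shiftLeft TT_p955 15990)) (Nat.shiftLeft (Nat.lor TT_p956 (Nat.shiftLeft (Nat.lor TT_p957 (Nat.shiftLeft TT_p958 15990)) 15990)) 31980)) 79950)) 159900)) (Nat.shiftLeft (Nat.lor (Nat.lor (Nat.lor (Nat.lor TT_p959 (Nat.shiftLeft TT_p960 15990)) (Nat.shiftLeft (Nat.lor TT_p961 (Nat.shiftLeft (Nat.lor TT_p962 (Nat.shiftLeft TT_p963 15990)) 15990)) 31980)) (Nat.shiftLeft (Nat.lor (Nat.lor TT_p964 (Nat.shiftLeft TT_p965 15990)) (Nat.shiftLeft (Nat.lor TT_p966 (Nat.shiftLeft (Nat.lor TT_p967 (Nat.shiftLeft TT_p968 15990)) 15990)) 31980)) 79950)) (Nat.shiftLeft (Nat.lor (Nat.lor (Nat.lor TT_p969 (Nat.shiftLeft TT_p970 15990)) (Nat.shiftLeft (Nat.lor TT_p971 (Nat.shiftLeft (Nat.lor TT_p972 (Nat.shiftLeft TT_p973 15990)) 15990)) 31980)) (Nat.shiftLeft (Nat.lor (Nat.lor TT_p974 (Nat.shiftLeft (Nat.lor TT_p975 (Nat.shiftLeft TT_p976 15990)) 15990)) (Nat.shiftLeft (Nat.lor TT_p977 (Nat.shiftLeft (Nat.lor TT_p978 (Nat.shiftLeft TT_p979 15990)) 15990)) 47970)) 79950)) 159900)) 319800)) 655590)) 1311180)) 2606370)) (Nat.shiftLeft (Nat.lor (Nat.lor (Nat.lor (Nat.lor (Nat.lor (Nat.lor (Nat.lor (Nat.lor TT_p980 (Nat.shiftLeft TT_p981 15990)) (Nat.shiftLeft (Nat.lor TT_p982 (Nat.shiftLeft (Nat.lor TT_p983 (Nat.shiftLeft TT_p984 15990)) 15990)) 31980)) (Nat.shiftLeft (Nat.lor (Nat.lor TT_p985 (Nat.shiftLeft TT_p986 15990)) (Nat.shiftLeft (Nat.lor TT_p987 (Nat.shiftLeft (Nat.lor TT_p988 (Nat.shiftLeft TT_p989 15990)) 15990)) 31980)) 79950)) (Nat.shiftLeft (Nat.lor (Nat.lor (Nat.lor TT_p990 (Nat.shiftLeft TT_p991 15990)) (Nat.shiftLeft (Nat.lor TT_p992 (Nat.shiftLeft (Nat.lor TT_p993 (Nat.shiftLeft TT_p994 15990)) 15990)) 31980)) (Nat.shiftLeft (Nat.lor (Nat.lor TT_p995 (Nat.shiftLeft TT_p996 15990)) (Nat.shiftLeft (Nat.lor TT_p997 (Nat.shiftLeft (Nat.lor TT_p998 (Nat.shiftLeft TT_p999 15990)) 15990)) 31980)) 79950)) 159900)) (Nat.shiftLeft (Nat.lor (Nat.lor (Nat.lor (Nat.lor TT_p1000 (Nat.shiftLeft TT_p1001 15990)) (Nat.shiftLeft (Nat.lor TT_p1002 (Nat.shiftLeft (Nat.lor TT_p1003 (Nat.shiftLeft TT_p1004 15990)) 15990)) 31980)) (Nat.shiftLeft (Nat.lor (Nat.lor TT_p1005 (Nat.shiftLeft TT_p1006 15990)) (Nat.shiftLeft (Nat.lor TT_p1007 (Nat.shiftLeft (Nat.lor TT_p1008 (Nat.shiftLeft TT_p1009 15990)) 15990)) 31980)) 79950)) (Nat.shiftLeft (Nat.lor (Nat.lor (Nat.lor TT_p1010 (Nat.shiftLeft TT_p1011 15990)) (Nat.shiftLeft (Nat.lor TT_p1012 (Nat.shiftLeft (Nat.lor TT_p1013 (Nat.shiftLeft TT_p1014 15990)) 15990)) 31980)) (Nat.shiftLeft (Nat.lor (Nat.lor TT_p1015 (Nat.shiftLeft TT_p1016 15990)) (Nat.shiftLeft (Nat.lor TT_p1017 (Nat.shiftLeft (Nat.lor TT_p1018 (Nat.shiftLeft TT_p1019 15990)) 15990)) 31980)) 79950)) 159900)) 319800)) (Nat.shiftLeft (Nat.lor (Nat.lor (Nat.lor (Nat.lor (Nat.lor TT_p1020 (Nat.shiftLeft TT_p1021 15990)) (Nat.shiftLeft (Nat.lor TT_p1022 (Nat.shiftLeft (Nat.lor TT_p1023 (Nat.shiftLeft TT_p1024 15990)) 15990)) 31980)) (Nat.shiftLeft (Nat.lor (Nat.lor TT_p1025 (Nat.shiftLeft TT_p1026 15990)) (Nat.shiftLeft (Nat.lor TT_p1027 (Nat.shiftLeft (Nat.lor TT_p1028 (Nat.shiftLeft TT_p1029 15990)) 15990)) 31980)) 79950)) (Nat.shiftLeft (Nat.lor (Nat.lor (Nat.lor TT_p1030 (Nat.shiftLeft TT_p1031 15990)) (Nat.shiftLeft (Nat.lor TT_p1032 (Nat.shiftLeft (Nat.lor TT_p1033 (Nat.shiftLeft TT_p1034 15990)) 15990)) 31980)) (Nat.shiftLeft (Nat.lor (Nat.lor TT_p1035 (Nat.shiftLeft TT_p1036 15990)) (Nat.shiftLeft (Nat.lor TT_p1037 (Nat.shiftLeft (Nat.lor TT_p1038 (Nat.shiftLeft TT_p1039 15990)) 15990)) 31980)) 79950)) 159900)) (Nat.shiftLeft (Nat.lor (Nat.lor (Nat.lor (Nat.lor TT_p1040 (Nat.shiftLeft TT_p1041 15990)) (Nat.shiftLeft (Nat.lor TT_p1042 (Nat.shiftLeft (Nat.lor TT_p1043 (Nat.shiftLeft TT_p1044 15990)) 15990)) 31980)) (Nat.shiftLeft (Nat.lor (Nat.lor TT_p1045 (Nat.shiftLeft TT_p1046 15990)) (Nat.shiftLeft (Nat.lor TT_p1047 (Nat.shiftLeft (Nat.lor TT_p1048 (Nat.shiftLeft TT_p1049 15990)) 15990)) 31980)) 79950)) (Nat.shiftLeft (Nat.lor (Nat.lor (Nat.lor TT_p1050 (Nat.shiftLeft TT_p1051 15990)) (Nat.shiftLeft (Nat.lor TT_p1052 (Nat.shiftLeft (Nat.lor TT_p1053 (Nat.shiftLeft TT_p1054 15990)) 15990)) 31980)) (Nat.shiftLeft (Nat.lor (Nat.lor TT_p1055 (Nat.shiftLeft (Nat.lor TT_p1056 (Nat.shiftLeft TT_p1057 15990)) 15990)) (Nat.shiftLeft (Nat.lor TT_p1058 (Nat.shiftLeft (Nat.lor TT_p1059 (Nat.shiftLeft TT_p1060 15990)) 15990)) 47970)) 79950)) 159900)) 319800)) 639600)) (Nat.shiftLeft (Nat.lor (Nat.lor (Nat.lor (Nat.lor (Nat.lor (Nat.lor TT_p1061 (Nat.shiftLeft TT_p1062 15990)) (Nat.shiftLeft (Nat.lor TT_p1063 (Nat.shiftLeft (Nat.lor TT_p1064 (Nat.shiftLeft TT_p1065 15990)) 15990)) 31980)) (Nat.shiftLeft (Nat.lor (Nat.lor TT_p1066 (Nat.shiftLeft TT_p1067 15990)) (Nat.shiftLeft (Nat.lor TT_p1068 (Nat.shiftLeft (Nat.lor TT_p1069 (Nat.shiftLeft TT_p1070 15990)) 15990)) 31980)) 79950)) (Nat.shiftLeft (Nat.lor (Nat.lor (Nat.lor TT_p1071 (Nat.shiftLeft TT_p1072 15990)) (Nat.shiftLeft (Nat.lor TT_p1073 (Nat.shiftLeft (Nat.lor TT_p1074 (Nat.shiftLeft TT_p1075 15990)) 15990)) 31980)) (Nat.shiftLeft (Nat.lor (Nat.lor TT_p1076 (Nat.shiftLeft TT_p1077 15990)) (Nat.shiftLeft (Nat.lor TT_p1078 (Nat.shiftLeft (Nat.lor TT_p1079 (Nat.shiftLeft TT_p1080 15990)) 15990)) 31980)) 79950)) 159900)) (Nat.shiftLeft (Nat.lor (Nat.lor (Nat.lor (Nat.lor TT_p1081 (Nat.shiftLeft TT_p1082 15990)) (Nat.shiftLeft (Nat.lor TT_p1083 (Nat.shiftLeft (Nat.lor TT_p1084 (Nat.shiftLeft TT_p1085 15990)) 15990)) 31980)) (Nat.shiftLeft (Nat.lor (Nat.lor TT_p1086 (Nat.shiftLeft TT_p1087 15990)) (Nat.shiftLeft (Nat.lor TT_p1088 (Nat.shiftLeft (Nat.lor TT_p1089 (Nat.shiftLeft TT_p1090 15990)) 15990)) 31980)) 79950)) (Nat.shiftLeft (Nat.lor (Nat.lor (Nat.lor TT_p1091 (Nat.shiftLeft TT_p1092 15990)) (Nat.shiftLeft (Nat.lor TT_p1093 (Nat.shiftLeft (Nat.lor TT_p1094 (Nat.shiftLeft TT_p1095 15990)) 15990)) 31980)) (Nat.shiftLeft (Nat.lor (Nat.lor TT_p1096 (Nat.shiftLeft (Nat.lor TT_p1097 (Nat.shiftLeft TT_p1098 15990)) 15990)) (Nat.shiftLeft (Nat.lor TT_p1099 (Nat.shiftLeft (Nat.lor TT_p1100 (Nat.shiftLeft TT_p1101 15990)) 15990)) 47970)) 79950)) 159900)) 319800)) (Nat.shiftLeft (Nat.lor (Nat.lor (Nat.lor (Nat.lor (Nat.lor TT_p1102 (Nat.shiftLeft TT_p1103 15990)) (Nat.shiftLeft (Nat.lor TT_p1104 (Nat.shiftLeft (Nat.lor TT_p1105 (Nat.shiftLeft TT_p1106 15990)) 15990)) 31980)) (Nat.shiftLeft (Nat.lor (Nat.lor TT_p1107 (Nat.shiftLeft TT_p1108 15990)) (Nat.shiftLeft (Nat.lor TT_p1109 (Nat.shiftLeft (Nat.lor TT_p1110 (Nat.shiftLeft TT_p1111 15990)) 15990)) 31980)) 79950)) (Nat.shiftLeft (Nat.lor (Nat.lor (Nat.lor TT_p1112 (Nat.shiftLeft TT_p1113 15990)) (Nat.shiftLeft (Nat.lor TT_p1114 (Nat.shiftLeft (Nat.lor TT_p1115 (Nat.shiftLeft TT_p1116 15990)) 15990)) 31980)) (Nat.shiftLeft (Nat.lor (Nat.lor TT_p1117 (Nat.shiftLeft TT_p1118 15990)) (Nat.shiftLeft (Nat.lor TT_p1119 (Nat.shiftLeft (Nat.lor TT_p1120 (Nat.shiftLeft TT_p1121 15990)) 15990)) 31980)) 79950)) 159900)) (Nat.shiftLeft (Nat.lor (Nat.lor (Nat.lor (Nat.lor TT_p1122 (Nat.shiftLeft TT_p1123 15990)) (Nat.shiftLeft (Nat.lor TT_p1124 (Nat.shiftLeft (Nat.lor TT_p1125 (Nat.shiftLeft TT_p1126 15990)) 15990)) 31980)) (Nat.shiftLeft (Nat.lor (Nat.lor TT_p1127 (Nat.shiftLeft TT_p1128 15990)) (Nat.shiftLeft (Nat.lor TT_p1129 (Nat.shiftLeft (Nat.lor TT_p1130 (Nat.shiftLeft TT_p1131 15990)) 15990)) 31980)) 79950)) (Nat.shiftLeft (Nat.lor (Nat.lor (Nat.lor TT_p1132 (Nat.shiftLeft TT_p1133 15990)) (Nat.shiftLeft (Nat.lor TT_p1134 (Nat.shiftLeft (Nat.lor TT_p1135 (Nat.shiftLeft TT_p1136 15990)) 15990)) 31980)) (Nat.shiftLeft (Nat.lor (Nat.lor TT_p1137 (Nat.shiftLeft (Nat.lor TT_p1138 (Nat.shiftLeft TT_p1139 15990)) 15990)) (Nat.shiftLeft (Nat.lor TT_p1140 (Nat.shiftLeft (Nat.lor TT_p1141 (Nat.shiftLeft TT_p1142 15990)) 15990)) 47970)) 79950)) 159900)) 319800)) 655590)) 1295190)) (Nat.shiftLeft (Nat.lor (Nat.lor (Nat.lor (Nat.lor (Nat.lor (Nat.lor (Nat.lor TT_p1143 (Nat.shiftLeft TT_p1144 15990)) (Nat.shiftLeft (Nat.lor TT_p1145 (Nat.shiftLeft (Nat.lor TT_p1146 (Nat.shiftLeft TT_p1147 15990)) 15990)) 31980)) (Nat.shiftLeft (Nat.lor (Nat.lor TT_p1148 (Nat.shiftLeft TT_p1149 15990)) (Nat.shiftLeft (Nat.lor TT_p1150 (Nat.shiftLeft (Nat.lor TT_p1151 (Nat.shiftLeft TT_p1152 15990)) 15990)) 31980)) 79950)) (Nat.shiftLeft (Nat.lor (Nat.lor (Nat.lor TT_p1153 (Nat.shiftLeft TT_p1154 15990)) (Nat.shiftLeft (Nat.lor TT_p1155 (Nat.shiftLeft (Nat.lor TT_p1156 (Nat.shiftLeft TT_p1157 15990)) 15990)) 31980)) (Nat.shiftLeft (Nat.lor (Nat.lor TT_p1158 (Nat.shiftLeft TT_p1159 15990)) (Nat.shiftLeft (Nat.lor TT_p1160 (Nat.shiftLeft (Nat.lor TT_p1161 (Nat.shiftLeft TT_p1162 15990)) 15990)) 31980)) 79950)) 159900)) (Nat.shiftLeft (Nat.lor (Nat.lor (Nat.lor (Nat.lor TT_p1163 (Nat.shiftLeft TT_p1164 15990)) (Nat.shiftLeft (Nat.lor TT_p1165 (Nat.shiftLeft (Nat.lor TT_p1166 (Nat.shiftLeft TT_p1167 15990)) 15990)) 31980)) (Nat.shiftLeft (Nat.lor (Nat.lor TT_p1168 (Nat.shiftLeft TT_p1169 15990)) (Nat.shiftLeft (Nat.lor TT_p1170 (Nat.shiftLeft (Nat.lor TT_p1171 (Nat.shiftLeft TT_p1172 15990)) 15990)) 31980)) 79950)) (Nat.shiftLeft (Nat.lor (Nat.lor (Nat.lor TT_p1173 (Nat.shiftLeft TT_p1174 15990)) (Nat.shiftLeft (Nat.lor TT_p1175 (Nat.shiftLeft (Nat.lor TT_p1176 (Nat.shiftLeft TT_p1177 15990)) 15990)) 31980)) (Nat.shiftLeft (Nat.lor (Nat.lor TT_p1178 (Nat.shiftLeft (Nat.lor TT_p1179 (Nat.shiftLeft TT_p1180 15990)) 15990)) (Nat.shiftLeft (Nat.lor TT_p1181 (Nat.shiftLeft (Nat.lor TT_p1182 (Nat.shiftLeft TT_p1183 15990)) 15990)) 47970)) 79950)) 159900)) 319800)) (Nat.shiftLeft (Nat.lor (Nat.lor (Nat.lor (Nat.lor (Nat.lor TT_p1184 (Nat.shiftLeft TT_p1185 15990)) (Nat.shiftLeft (Nat.lor TT_p1186 (Nat.shiftLeft (Nat.lor TT_p1187 (Nat.shiftLeft TT_p1188 15990)) 15990)) 31980)) (Nat.shiftLeft (Nat.lor (Nat.lor TT_p1189 (Nat.shiftLeft TT_p1190 15990)) (Nat.shiftLeft (Nat.lor TT_p1191 (Nat.shiftLeft (Nat.lor TT_p1192 (Nat.shiftLeft TT_p1193 15990)) 15990)) 31980)) 79950)) (Nat.shiftLeft (Nat.lor (Nat.lor (Nat.lor TT_p1194 (Nat.shiftLeft TT_p1195 15990)) (Nat.shiftLeft (Nat.lor TT_p1196 (Nat.shiftLeft (Nat.lor TT_p1197 (Nat.shiftLeft TT_p1198 15990)) 15990)) 31980)) (Nat.shiftLeft (Nat.lor (Nat.lor TT_p1199 (Nat.shiftLeft TT_p1200 15990)) (Nat.shiftLeft (Nat.lor TT_p1201 (Nat.shiftLeft (Nat.lor TT_p1202 (Nat.shiftLeft TT_p1203 15990)) 15990)) 31980)) 79950)) 159900)) (Nat.shiftLeft (Nat.lor (Nat.lor (Nat.lor (Nat.lor TT_p1204 (Nat.shiftLeft TT_p1205 15990)) (Nat.shiftLeft (Nat.lor TT_p1206 (Nat.shiftLeft (Nat.lor TT_p1207 (Nat.shiftLeft TT_p1208 15990)) 15990)) 31980)) (Nat.shiftLeft (Nat.lor (Nat.lor TT_p1209 (Nat.shiftLeft TT_p1210 15990)) (Nat.shiftLeft (Nat.lor TT_p1211 (Nat.shiftLeft (Nat.lor TT_p1212 (Nat.shiftLeft TT_p1213 15990)) 15990)) 31980)) 79950)) (Nat.shiftLeft (Nat.lor (Nat.lor (Nat.lor TT_p1214 (Nat.shiftLeft TT_p1215 15990)) (Nat.shiftLeft (Nat.lor TT_p1216 (Nat.shiftLeft (Nat.lor TT_p1217 (Nat.shiftLeft TT_p1218 15990)) 15990)) 31980)) (Nat.shiftLeft (Nat.lor (Nat.lor TT_p1219 (Nat.shiftLeft (Nat.lor TT_p1220 (Nat.shiftLeft TT_p1221 15990)) 15990)) (Nat.shiftLeft (Nat.lor TT_p1222 (Nat.shiftLeft (Nat.lor TT_p1223 (Nat.shiftLeft TT_p1224 15990)) 15990)) 47970)) 79950)) 159900)) 319800)) 655590)) (Nat.shiftLeft (Nat.lor (Nat.lor (Nat.lor (Nat.lor (Nat.lor (Nat.lor TT_p1225 (Nat.shiftLeft TT_p1226 15990)) (Nat.shiftLeft (Nat.lor TT_p1227 (Nat.shiftLeft (Nat.lor TT_p1228 (Nat.shiftLeft TT_p1229 15990)) 15990)) 31980)) (Nat.shiftLeft (Nat.lor (Nat.lor TT_p1230 (Nat.shiftLeft TT_p1231 15990)) (Nat.shiftLeft (Nat.lor TT_p1232 (Nat.shiftLeft (Nat.lor TT_p1233 (Nat.shiftLeft TT_p1234 15990)) 15990)) 31980)) 79950)) (Nat.shiftLeft (Nat.lor (Nat.lor (Nat.lor TT_p1235 (Nat.shiftLeft TT_p1236 15990)) (Nat.shiftLeft (Nat.lor TT_p1237 (Nat.shiftLeft (Nat.lor TT_p1238 (Nat.shiftLeft TT_p1239 15990)) 15990)) 31980)) (Nat.shiftLeft (Nat.lor (Nat.lor TT_p1240 (Nat.shiftLeft TT_p1241 15990)) (Nat.shiftLeft (Nat.lor TT_p1242 (Nat.shiftLeft (Nat.lor TT_p1243 (Nat.shiftLeft TT_p1244 15990)) 15990)) 31980)) 79950)) 159900)) (Nat.shiftLeft (Nat.lor (Nat.lor (Nat.lor (Nat.lor TT_p1245 (Nat.shiftLeft TT_p1246 15990)) (Nat.shiftLeft (Nat.lor TT_p1247 (Nat.shiftLeft (Nat.lor TT_p1248 (Nat.shiftLeft TT_p1249 15990)) 15990)) 31980)) (Nat.shiftLeft (Nat.lor (Nat.lor TT_p1250 (Nat.shiftLeft TT_p1251 15990)) (Nat.shiftLeft (Nat.lor TT_p1252 (Nat.shiftLeft (Nat.lor TT_p1253 (Nat.shiftLeft TT_p1254 15990)) 15990)) 31980)) 79950)) (Nat.shiftLeft (Nat.lor (Nat.lor (Nat.lor TT_p1255 (Nat.shiftLeft TT_p1256 15990)) (Nat.shiftLeft (Nat.lor TT_p1257 (Nat.shiftLeft (Nat.lor TT_p1258 (Nat.shiftLeft TT_p1259 15990)) 15990)) 31980)) (Nat.shiftLeft (Nat.lor (Nat.lor TT_p1260 (Nat.shiftLeft (Nat.lor TT_p1261 (Nat.shiftLeft TT_p1262 15990)) 15990)) (Nat.shiftLeft (Nat.lor TT_p1263 (Nat.shiftLeft (Nat.lor TT_p1264 (Nat.shiftLeft TT_p1265 15990)) 15990)) 47970)) 79950)) 159900)) 319800)) (Nat.shiftLeft (Nat.lor (Nat.lor (Nat.lor (Nat.lor (Nat.lor TT_p1266 (Nat.shiftLeft TT_p1267 15990)) (Nat.shiftLeft (Nat.lor TT_p1268 (Nat.shiftLeft (Nat.lor TT_p1269 (Nat.shiftLeft TT_p1270 15990)) 15990)) 31980)) (Nat.shiftLeft (Nat.lor (Nat.lor TT_p1271 (Nat.shiftLeft TT_p1272 15990)) (Nat.shiftLeft (Nat.lor TT_p1273 (Nat.shiftLeft (Nat.lor TT_p1274 (Nat.shiftLeft TT_p1275 15990)) 15990)) 31980)) 79950)) (Nat.shiftLeft (Nat.lor (Nat.lor (Nat.lor TT_p1276 (Nat.shiftLeft TT_p1277 15990)) (Nat.shiftLeft (Nat.lor TT_p1278 (Nat.shiftLeft (Nat.lor TT_p1279 (Nat.shiftLeft TT_p1280 15990)) 15990)) 31980)) (Nat.shiftLeft (Nat.lor (Nat.lor TT_p1281 (Nat.shiftLeft TT_p1282 15990)) (Nat.shiftLeft (Nat.lor TT_p1283 (Nat.shiftLeft (Nat.lor TT_p1284 (Nat.shiftLeft TT_p1285 15990)) 15990)) 31980)) 79950)) 159900)) (Nat.shiftLeft (Nat.lor (Nat.lor (Nat.lor (Nat.lor TT_p1286 (Nat.shiftLeft TT_p1287 15990)) (Nat.shiftLeft (Nat.lor TT_p1288 (Nat.shiftLeft (Nat.lor TT_p1289 (Nat.shiftLeft TT_p1290 15990)) 15990)) 31980)) (Nat.shiftLeft (Nat.lor (Nat.lor TT_p1291 (Nat.shiftLeft TT_p1292 15990)) (Nat.shiftLeft (Nat.lor TT_p1293 (Nat.shiftLeft (Nat.lor TT_p1294 (Nat.shiftLeft TT_p1295 15990)) 15990)) 31980)) 79950)) (Nat.shiftLeft (Nat.lor (Nat.lor (Nat.lor TT_p1296 (Nat.shiftLeft TT_p1297 15990)) (Nat.shiftLeft (Nat.lor TT_p1298 (Nat.shiftLeft (Nat.lor TT_p1299 (Nat.shiftLeft TT_p1300 15990)) 15990)) 31980)) (Nat.shiftLeft (Nat.lor (Nat.lor TT_p1301 (Nat.shiftLeft (Nat.lor TT_p1302 (Nat.shiftLeft TT_p1303 15990)) 15990)) (Nat.shiftLeft (Nat.lor TT_p1304 (Nat.shiftLeft (Nat.lor TT_p1305 (Nat.shiftLeft TT_p1306 15990)) 15990)) 47970)) 79950)) 159900)) 319800)) 655590)) 1311180)) 2606370)) 5228730)) 10441470)) (Nat.shiftLeft (Nat.lor (Nat.lor (Nat.lor (Nat.lor (Nat.lor (Nat.lor (Nat.lor (Nat.lor (Nat.lor (Nat.lor TT_p1307 (Nat.shiftLeft TT_p1308 15990)) (Nat.shiftLeft (Nat.lor TT_p1309 (Nat.shiftLeft (Nat.lor TT_p1310 (Nat.shiftLeft TT_p1311 15990)) 15990)) 31980)) (Nat.shiftLeft (Nat.lor (Nat.lor TT_p1312 (Nat.shiftLeft TT_p1313 15990)) (Nat.shiftLeft (Nat.lor TT_p1314 (Nat.shiftLeft (Nat.lor TT_p1315 (Nat.shiftLeft TT_p1316 15990)) 15990)) 31980)) 79950)) (Nat.shiftLeft (Nat.lor (Nat.lor (Nat.lor TT_p1317 (Nat.shiftLeft TT_p1318 15990)) (Nat.shiftLeft (Nat.lor TT_p1319 (Nat.shiftLeft (Nat.lor TT_p1320 (Nat.shiftLeft TT_p1321 15990)) 15990)) 31980)) (Nat.shiftLeft (Nat.lor (Nat.lor TT_p1322 (Nat.shiftLeft TT_p1323 15990)) (Nat.shiftLeft (Nat.lor TT_p1324 (Nat.shiftLeft (Nat.lor TT_p1325 (Nat.shiftLeft TT_p1326 15990)) 15990)) 31980)) 79950)) 159900)) (Nat.shiftLeft (Nat.lor (Nat.lor (Nat.lor (Nat.lor TT_p1327 (Nat.shiftLeft TT_p1328 15990)) (Nat.shiftLeft (Nat.lor TT_p1329 (Nat.shiftLeft (Nat.lor TT_p1330 (Nat.shiftLeft TT_p1331 15990)) 15990)) 31980)) (Nat.shiftLeft (Nat.lor (Nat.lor TT_p1332 (Nat.shiftLeft TT_p1333 15990)) (Nat.shiftLeft (Nat.lor TT_p1334 (Nat.shiftLeft (Nat.lor TT_p1335 (Nat.shiftLeft TT_p1336 15990)) 15990)) 31980)) 79950)) (Nat.shiftLeft (Nat.lor (Nat.lor (Nat.lor TT_p1337 (Nat.shiftLeft TT_p1338 15990)) (Nat.shiftLeft (Nat.lor TT_p1339 (Nat.shiftLeft (Nat.lor TT_p1340 (Nat.shiftLeft TT_p1341 15990)) 15990)) 31980)) (Nat.shiftLeft (Nat.lor (Nat.lor TT_p1342 (Nat.shiftLeft TT_p1343 15990)) (Nat.shiftLeft (Nat.lor TT_p1344 (Nat.shiftLeft (Nat.lor TT_p1345 (Nat.shiftLeft TT_p1346 15990)) 15990)) 31980)) 79950)) 159900)) 319800)) (Nat.shiftLeft (Nat.lor (Nat.lor (Nat.lor (Nat.lor (Nat.lor TT_p1347 (Nat.shiftLeft TT_p1348 15990)) (Nat.shiftLeft (Nat.lor TT_p1349 (Nat.shiftLeft (Nat.lor TT_p1350 (Nat.shiftLeft TT_p1351 15990)) 15990)) 31980)) (Nat.shiftLeft (Nat.lor (Nat.lor TT_p1352 (Nat.shiftLeft TT_p1353 15990)) (Nat.shiftLeft (Nat.lor TT_p1354 (Nat.shiftLeft (Nat.lor TT_p1355 (Nat.shiftLeft TT_p1356 15990)) 15990)) 31980)) 79950)) (Nat.shiftLeft (Nat.lor (Nat.lor (Nat.lor TT_p1357 (Nat.shiftLeft TT_p1358 15990)) (Nat.shiftLeft (Nat.lor TT_p1359 (Nat.shiftLeft (Nat.lor TT_p1360 (Nat.shiftLeft TT_p1361 15990)) 15990)) 31980)) (Nat.shiftLeft (Nat.lor (Nat.lor TT_p1362 (Nat.shiftLeft TT_p1363 15990)) (Nat.shiftLeft (Nat.lor TT_p1364 (Nat.shiftLeft (Nat.lor TT_p1365 (Nat.shiftLeft TT_p1366 15990)) 15990)) 31980)) 79950)) 159900)) (Nat.shiftLeft (Nat.lor (Nat.lor (Nat.lor (Nat.lor TT_p1367 (Nat.shiftLeft TT_p1368 15990)) (Nat.shiftLeft (Nat.lor TT_p1369 (Nat.shiftLeft (Nat.lor TT_p1370 (Nat.shiftLeft TT_p1371 15990)) 15990)) 31980)) (Nat.shiftLeft (Nat.lor (Nat.lor TT_p1372 (Nat.shiftLeft TT_p1373 15990)) (Nat.shiftLeft (Nat.lor TT_p1374 (Nat.shiftLeft (Nat.lor TT_p1375 (Nat.shiftLeft TT_p1376 15990)) 15990)) 31980)) 79950)) (Nat.shiftLeft (Nat.lor (Nat.lor (Nat.lor TT_p1377 (Nat.shiftLeft TT_p1378 15990)) (Nat.shiftLeft (Nat.lor TT_p1379 (Nat.shiftLeft (Nat.lor TT_p1380 (Nat.shiftLeft TT_p1381 15990)) 15990)) 31980)) (Nat.shiftLeft (Nat.lor (Nat.lor TT_p1382 (Nat.shiftLeft (Nat.lor TT_p1383 (Nat.shiftLeft TT_p1384 15990)) 15990)) (Nat.shiftLeft (Nat.lor TT_p1385 (Nat.shiftLeft (Nat.lor TT_p1386 (Nat.shiftLeft TT_p1387 15990)) 15990)) 47970)) 79950)) 159900)) 319800)) 639600)) (Nat.shiftLeft (Nat.lor (Nat.lor (Nat.lor (Nat.lor (Nat.lor (Nat.lor TT_p1388 (Nat.shiftLeft TT_p1389 15990)) (Nat.shiftLeft (Nat.lor TT_p1390 (Nat.shiftLeft (Nat.lor TT_p1391 (Nat.shiftLeft TT_p1392 15990)) 15990)) 31980)) (Nat.shiftLeft (Nat.lor (Nat.lor TT_p1393 (Nat.shiftLeft TT_p1394 15990)) (Nat.shiftLeft (Nat.lor TT_p1395 (Nat.shiftLeft (Nat.lor TT_p1396 (Nat.shiftLeft TT_p1397 15990)) 15990)) 31980)) 79950)) (Nat.shiftLeft (Nat.lor (Nat.lor (Nat.lor TT_p1398 (Nat.shiftLeft TT_p1399 15990)) (Nat.shiftLeft (Nat.lor TT_p1400 (Nat.shiftLeft (Nat.lor TT_p1401 (Nat.shiftLeft TT_p1402 15990)) 15990)) 31980)) (Nat.shiftLeft (Nat.lor (Nat.lor TT_p1403 (Nat.shiftLeft TT_p1404 15990)) (Nat.shiftLeft (Nat.lor TT_p1405 (Nat.shiftLeft (Nat.lor TT_p1406 (Nat.shiftLeft TT_p1407 15990)) 15990)) 31980)) 79950)) 159900)) (Nat.shiftLeft (Nat.lor (Nat.lor (Nat.lor (Nat.lor TT_p1408 (Nat.shiftLeft TT_p1409 15990)) (Nat.shiftLeft (Nat.lor TT_p1410 (Nat.shiftLeft (Nat.lor TT_p1411 (Nat.shiftLeft TT_p1412 15990)) 15990)) 31980)) (Nat.shiftLeft (Nat.lor (Nat.lor TT_p1413 (Nat.shiftLeft TT_p1414 15990)) (Nat.shiftLeft (Nat.lor TT_p1415 (Nat.shiftLeft (Nat.lor TT_p1416 (Nat.shiftLeft TT_p1417 15990)) 15990)) 31980)) 79950)) (Nat.shiftLeft (Nat.lor (Nat.lor (Nat.lor TT_p1418 (Nat.shiftLeft TT_p1419 15990)) (Nat.shiftLeft (Nat.lor TT_p1420 (Nat.shiftLeft (Nat.lor TT_p1421 (Nat.shiftLeft TT_p1422 15990)) 15990)) 31980)) (Nat.shiftLeft (Nat.lor (Nat.lor TT_p1423 (Nat.shiftLeft (Nat.lor TT_p1424 (Nat.shiftLeft TT_p1425 15990)) 15990)) (Nat.shiftLeft (Nat.lor TT_p1426 (Nat.shiftLeft (Nat.lor TT_p1427 (Nat.shiftLeft TT_p1428 15990)) 15990)) 47970)) 79950)) 159900)) 319800)) (Nat.shiftLeft (Nat.lor (Nat.lor (Nat.lor (Nat.lor (Nat.lor TT_p1429 (Nat.shiftLeft TT_p1430 15990)) (Nat.shiftLeft (Nat.lor TT_p1431 (Nat.shiftLeft (Nat.lor TT_p1432 (Nat.shiftLeft TT_p1433 15990)) 15990)) 31980)) (Nat.shiftLeft (Nat.lor (Nat.lor TT_p1434 (Nat.shiftLeft TT_p1435 15990)) (Nat.shiftLeft (Nat.lor TT_p1436 (Nat.shiftLeft (Nat.lor TT_p1437 (Nat.shiftLeft TT_p1438 15990)) 15990)) 31980)) 79950)) (Nat.shiftLeft (Nat.lor (Nat.lor (Nat.lor TT_p1439 (Nat.shiftLeft TT_p1440 15990)) (Nat.shiftLeft (Nat.lor TT_p1441 (Nat.shiftLeft (Nat.lor TT_p1442 (Nat.shiftLeft TT_p1443 15990)) 15990)) 31980)) (Nat.shiftLeft (Nat.lor (Nat.lor TT_p1444 (Nat.shiftLeft TT_p1445 15990)) (Nat.shiftLeft (Nat.lor TT_p1446 (Nat.shiftLeft (Nat.lor TT_p1447 (Nat.shiftLeft TT_p1448 15990)) 15990)) 31980)) 79950)) 159900)) (Nat.shiftLeft (Nat.lor (Nat.lor (Nat.lor (Nat.lor TT_p1449 (Nat.shiftLeft TT_p1450 15990)) (Nat.shiftLeft (Nat.lor TT_p1451 (Nat.shiftLeft (Nat.lor TT_p1452 (Nat.shiftLeft TT_p1453 15990)) 15990)) 31980)) (Nat.shiftLeft (Nat.lor (Nat.lor TT_p1454 (Nat.shiftLeft TT_p1455 15990)) (Nat.shiftLeft (Nat.lor TT_p1456 (Nat.shiftLeft (Nat.lor TT_p1457 (Nat.shiftLeft TT_p1458 15990)) 15990)) 31980)) 79950)) (Nat.shiftLeft (Nat.lor (Nat.lor (Nat.lor TT_p1459 (Nat.shiftLeft TT_p1460 15990)) (Nat.shiftLeft (Nat.lor TT_p1461 (Nat.shiftLeft (Nat.lor TT_p1462 (Nat.shiftLeft TT_p1463 15990)) 15990)) 31980)) (Nat.shiftLeft (Nat.lor (Nat.lor TT_p1464 (Nat.shiftLeft (Nat.lor TT_p1465 (Nat.shiftLeft TT_p1466 15990)) 15990)) (Nat.shiftLeft (Nat.lor TT_p1467 (Nat.shiftLeft (Nat.lor TT_p1468 (Nat.shiftLeft TT_p1469 15990)) 15990)) 47970)) 79950)) 159900)) 319800)) 655590)) 1295190)) (Nat.shiftLeft (Nat.lor (Nat.lor (Nat.lor (Nat.lor (Nat.lor (Nat.lor (Nat.lor TT_p1470 (Nat.shiftLeft TT_p1471 15990)) (Nat.shiftLeft (Nat.lor TT_p1472 (Nat.shiftLeft (Nat.lor TT_p1473 (Nat.shiftLeft TT_p1474 15990)) 15990)) 31980)) (Nat.shiftLeft (Nat.lor (Nat.lor TT_p1475 (Nat.shiftLeft TT_p1476 15990)) (Nat.shiftLeft (Nat.lor TT_p1477 (Nat.shiftLeft (Nat.lor TT_p1478 (Nat.shiftLeft TT_p1479 15990)) 15990)) 31980)) 79950)) (Nat.shiftLeft (Nat.lor (Nat.lor (Nat.lor TT_p1480 (Nat.shiftLeft TT_p1481 15990)) (Nat.shiftLeft (Nat.lor TT_p1482 (Nat.shiftLeft (Nat.lor TT_p1483 (Nat.shiftLeft TT_p1484 15990)) 15990)) 31980)) (Nat.shiftLeft (Nat.lor (Nat.lor TT_p1485 (Nat.shiftLeft TT_p1486 15990)) (Nat.shiftLeft (Nat.lor TT_p1487 (Nat.shiftLeft (Nat.lor TT_p1488 (Nat.shiftLeft TT_p1489 15990)) 15990)) 31980)) 79950)) 159900)) (Nat.shiftLeft (Nat.lor (Nat.lor (Nat.lor (Nat.lor TT_p1490 (Nat.shiftLeft TT_p1491 15990)) (Nat.shiftLeft (Nat.lor TT_p1492 (Nat.shiftLeft (Nat.lor TT_p1493 (Nat.shiftLeft TT_p1494 15990)) 15990)) 31980)) (Nat.shiftLeft (Nat.lor (Nat.lor TT_p1495 (Nat.shiftLeft TT_p1496 15990)) (Nat.shiftLeft (Nat.lor TT_p1497 (Nat.shiftLeft (Nat.lor TT_p1498 (Nat.shiftLeft TT_p1499 15990)) 15990)) 31980)) 79950)) (Nat.shiftLeft (Nat.lor (Nat.lor (Nat.lor TT_p1500 (Nat.shiftLeft TT_p1501 15990)) (Nat.shiftLeft (Nat.lor TT_p1502 (Nat.shiftLeft (Nat.lor TT_p1503 (Nat.shiftLeft TT_p1504 15990)) 15990)) 31980)) (Nat.shiftLeft (Nat.lor (Nat.lor TT_p1505 (Nat.shiftLeft (Nat.lor TT_p1506 (Nat.shiftLeft TT_p1507 15990)) 15990)) (Nat.shiftLeft (Nat.lor TT_p1508 (Nat.shiftLeft (Nat.lor TT_p1509 (Nat.shiftLeft TT_p1510 15990)) 15990)) 47970)) 79950)) 159900)) 319800)) (Nat.shiftLeft (Nat.lor (Nat.lor (Nat.lor (Nat.lor (Nat.lor TT_p1511 (Nat.shiftLeft TT_p1512 15990)) (Nat.shiftLeft (Nat.lor TT_p1513 (Nat.shiftLeft (Nat.lor TT_p1514 (Nat.shiftLeft TT_p1515 15990)) 15990)) 31980)) (Nat.shiftLeft (Nat.lor (Nat.lor TT_p1516 (Nat.shiftLeft TT_p1517 15990)) (Nat.shiftLeft (Nat.lor TT_p1518 (Nat.shiftLeft (Nat.lor TT_p1519 (Nat.shiftLeft TT_p1520 15990)) 15990)) 31980)) 79950)) (Nat.shiftLeft (Nat.lor (Nat.lor (Nat.lor TT_p1521 (Nat.shiftLeft TT_p1522 15990)) (Nat.shiftLeft (Nat.lor TT_p1523 (Nat.shiftLeft (Nat.lor TT_p1524 (Nat.shiftLeft TT_p1525 15990)) 15990)) 31980)) (Nat.shiftLeft (Nat.lor (Nat.lor TT_p1526 (Nat.shiftLeft TT_p1527 15990)) (Nat.shiftLeft (Nat.lor TT_p1528 (Nat.shiftLeft (Nat.lor TT_p1529 (Nat.shiftLeft TT_p1530 15990)) 15990)) 31980)) 79950)) 159900)) (Nat.shiftLeft (Nat.lor (Nat.lor (Nat.lor (Nat.lor TT_p1531 (Nat.shiftLeft TT_p1532 15990)) (Nat.shiftLeft (Nat.lor TT_p1533 (Nat.shiftLeft (Nat.lor TT_p1534 (Nat.shiftLeft TT_p1535 15990)) 15990)) 31980)) (Nat.shiftLeft (Nat.lor (Nat.lor TT_p1536 (Nat.shiftLeft TT_p1537 15990)) (Nat.shiftLeft (Nat.lor TT_p1538 (Nat.shiftLeft (Nat.lor TT_p1539 (Nat.shiftLeft TT_p1540 15990)) 15990)) 31980)) 79950)) (Nat.shiftLeft (Nat.lor (Nat.lor (Nat.lor TT_p1541 (Nat.shiftLeft TT_p1542 15990)) (Nat.shiftLeft (Nat.lor TT_p1543 (Nat.shiftLeft (Nat.lor TT_p1544 (Nat.shiftLeft TT_p1545 15990)) 15990)) 31980)) (Nat.shiftLeft (Nat.lor (Nat.lor TT_p1546 (Nat.shiftLeft (Nat.lor TT_p1547 (Nat.shiftLeft TT_p1548 15990)) 15990)) (Nat.shiftLeft (Nat.lor TT_p1549 (Nat.shiftLeft (Nat.lor TT_p1550 (Nat.shiftLeft TT_p1551 15990)) 15990)) 47970)) 79950)) 159900)) 319800)) 655590)) (Nat.shiftLeft (Nat.lor (Nat.lor (Nat.lor (Nat.lor (Nat.lor (Nat.lor TT_p1552 (Nat.shiftLeft TT_p1553 15990)) (Nat.shiftLeft (Nat.lor TT_p1554 (Nat.shiftLeft (Nat.lor TT_p1555 (Nat.shiftLeft TT_p1556 15990)) 15990)) 31980)) (Nat.shiftLeft (Nat.lor (Nat.lor TT_p1557 (Nat.shiftLeft TT_p1558 15990)) (Nat.shiftLeft (Nat.lor TT_p1559 (Nat.shiftLeft (Nat.lor TT_p1560 (Nat.shiftLeft TT_p1561 15990)) 15990)) 31980)) 79950)) (Nat.shiftLeft (Nat.lor (Nat.lor (Nat.lor TT_p1562 (Nat.shiftLeft TT_p1563 15990)) (Nat.shiftLeft (Nat.lor TT_p1564 (Nat.shiftLeft (Nat.lor TT_p1565 (Nat.shiftLeft TT_p1566 15990)) 15990)) 31980)) (Nat.shiftLeft (Nat.lor (Nat.lor TT_p1567 (Nat.shiftLeft TT_p1568 15990)) (Nat.shiftLeft (Nat.lor TT_p1569 (Nat.shiftLeft (Nat.lor TT_p1570 (Nat.shiftLeft TT_p1571 15990)) 15990)) 31980)) 79950)) 159900)) (Nat.shiftLeft (Nat.lor (Nat.lor (Nat.lor (Nat.lor TT_p1572 (Nat.shiftLeft TT_p1573 15990)) (Nat.shiftLeft (Nat.lor TT_p1574 (Nat.shiftLeft (Nat.lor TT_p1575 (Nat.shiftLeft TT_p1576 15990)) 15990)) 31980)) (Nat.shiftLeft (Nat.lor (Nat.lor TT_p1577 (Nat.shiftLeft TT_p1578 15990)) (Nat.shiftLeft (Nat.lor TT_p1579 (Nat.shiftLeft (Nat.lor TT_p1580 (Nat.shiftLeft TT_p1581 15990)) 15990)) 31980)) 79950)) (Nat.shiftLeft (Nat.lor (Nat.lor (Nat.lor TT_p1582 (Nat.shiftLeft TT_p1583 15990)) (Nat.shiftLeft (Nat.lor TT_p1584 (Nat.shiftLeft (Nat.lor TT_p1585 (Nat.shiftLeft TT_p1586 15990)) 15990)) 31980)) (Nat.shiftLeft (Nat.lor (Nat.lor TT_p1587 (Nat.shiftLeft (Nat.lor TT_p1588 (Nat.shiftLeft TT_p1589 15990)) 15990)) (Nat.shiftLeft (Nat.lor TT_p1590 (Nat.shiftLeft (Nat.lor TT_p1591 (Nat.shiftLeft TT_p1592 15990)) 15990)) 47970)) 79950)) 159900)) 319800)) (Nat.shiftLeft (Nat.lor (Nat.lor (Nat.lor (Nat.lor (Nat.lor TT_p1593 (Nat.shiftLeft TT_p1594 15990)) (Nat.shiftLeft (Nat.lor TT_p1595 (Nat.shiftLeft (Nat.lor TT_p1596 (Nat.shiftLeft TT_p1597 15990)) 15990)) 31980)) (Nat.shiftLeft (Nat.lor (Nat.lor TT_p1598 (Nat.shiftLeft TT_p1599 15990)) (Nat.shiftLeft (Nat.lor TT_p1600 (Nat.shiftLeft (Nat.lor TT_p1601 (Nat.shiftLeft TT_p1602 15990)) 15990)) 31980)) 79950)) (Nat.shiftLeft (Nat.lor (Nat.lor (Nat.lor TT_p1603 (Nat.shiftLeft TT_p1604 15990)) (Nat.shiftLeft (Nat.lor TT_p1605 (Nat.shiftLeft (Nat.lor TT_p1606 (Nat.shiftLeft TT_p1607 15990)) 15990)) 31980)) (Nat.shiftLeft (Nat.lor (Nat.lor TT_p1608 (Nat.shiftLeft TT_p1609 15990)) (Nat.shiftLeft (Nat.lor TT_p1610 (Nat.shiftLeft (Nat.lor TT_p1611 (Nat.shiftLeft TT_p1612 15990)) 15990)) 31980)) 79950)) 159900)) (Nat.shiftLeft (Nat.lor (Nat.lor (Nat.lor (Nat.lor TT_p1613 (Nat.shiftLeft TT_p1614 15990)) (Nat.shiftLeft (Nat.lor TT_p1615 (Nat.shiftLeft (Nat.lor TT_p1616 (Nat.shiftLeft TT_p1617 15990)) 15990)) 31980)) (Nat.shiftLeft (Nat.lor (Nat.lor TT_p1618 (Nat.shiftLeft TT_p1619 15990)) (Nat.shiftLeft (Nat.lor TT_p1620 (Nat.shiftLeft (Nat.lor TT_p1621 (Nat.shiftLeft TT_p1622 15990)) 15990)) 31980)) 79950)) (Nat.shiftLeft (Nat.lor (Nat.lor (Nat.lor TT_p1623 (Nat.shiftLeft TT_p1624 15990)) (Nat.shiftLeft (Nat.lor TT_p1625 (Nat.shiftLeft (Nat.lor TT_p1626 (Nat.shiftLeft TT_p1627 15990)) 15990)) 31980)) (Nat.shiftLeft (Nat.lor (Nat.lor TT_p1628 (Nat.shiftLeft (Nat.lor TT_p1629 (Nat.shiftLeft TT_p1630 15990)) 15990)) (Nat.shiftLeft (Nat.lor TT_p1631 (Nat.shiftLeft (Nat.lor TT_p1632 (Nat.shiftLeft TT_p1633 15990)) 15990)) 47970)) 79950)) 159900)) 319800)) 655590)) 1311180)) 2606370)) (Nat.shiftLeft (Nat.lor (Nat.lor (Nat.lor (Nat.lor (Nat.lor (Nat.lor (Nat.lor (Nat.lor TT_p1634 (Nat.shiftLeft TT_p1635 15990)) (Nat.shiftLeft (Nat.lor TT_p1636 (Nat.shiftLeft (Nat.lor TT_p1637 (Nat.shiftLeft TT_p1638 15990)) 15990)) 31980)) (Nat.shiftLeft (Nat.lor (Nat.lor TT_p1639 (Nat.shiftLeft TT_p1640 15990)) (Nat.shiftLeft (Nat.lor TT_p1641 (Nat.shiftLeft (Nat.lor TT_p1642 (Nat.shiftLeft TT_p1643 15990)) 15990)) 31980)) 79950)) (Nat.shiftLeft (Nat.lor (Nat.lor (Nat.lor TT_p1644 (Nat.shiftLeft TT_p1645 15990)) (Nat.shiftLeft (Nat.lor TT_p1646 (Nat.shiftLeft (Nat.lor TT_p1647 (Nat.shiftLeft TT_p1648 15990)) 15990)) 31980)) (Nat.shiftLeft (Nat.lor (Nat.lor TT_p1649 (Nat.shiftLeft TT_p1650 15990)) (Nat.shiftLeft (Nat.lor TT_p1651 (Nat.shiftLeft (Nat.lor TT_p1652 (Nat.shiftLeft TT_p1653 15990)) 15990)) 31980)) 79950)) 159900)) (Nat.shiftLeft (Nat.lor (Nat.lor (Nat.lor (Nat.lor TT_p1654 (Nat.shiftLeft TT_p1655 15990)) (Nat.shiftLeft (Nat.lor TT_p1656 (Nat.shiftLeft (Nat.lor TT_p1657 (Nat.shiftLeft TT_p1658 15990)) 15990)) 31980)) (Nat.shiftLeft (Nat.lor (Nat.lor TT_p1659 (Nat.shiftLeft TT_p1660 15990)) (Nat.shiftLeft (Nat.lor TT_p1661 (Nat.shiftLeft (Nat.lor TT_p1662 (Nat.shiftLeft TT_p1663 15990)) 15990)) 31980)) 79950)) (Nat.shiftLeft (Nat.lor (Nat.lor (Nat.lor TT_p1664 (Nat.shiftLeft TT_p1665 15990)) (Nat.shiftLeft (Nat.lor TT_p1666 (Nat.shiftLeft (Nat.lor TT_p1667 (Nat.shiftLeft TT_p1668 15990)) 15990)) 31980)) (Nat.shiftLeft (Nat.lor (Nat.lor TT_p1669 (Nat.shiftLeft TT_p1670 15990)) (Nat.shiftLeft (Nat.lor TT_p1671 (Nat.shiftLeft (Nat.lor TT_p1672 (Nat.shiftLeft TT_p1673 15990)) 15990)) 31980)) 79950)) 159900)) 319800)) (Nat.shiftLeft (Nat.lor (Nat.lor (Nat.lor (Nat.lor (Nat.lor TT_p1674 (Nat.shiftLeft TT_p1675 15990)) (Nat.shiftLeft (Nat.lor TT_p1676 (Nat.shiftLeft (Nat.lor TT_p1677 (Nat.shiftLeft TT_p1678 15990)) 15990)) 31980)) (Nat.shiftLeft (Nat.lor (Nat.lor TT_p1679 (Nat.shiftLeft TT_p1680 15990)) (Nat.shiftLeft (Nat.lor TT_p1681 (Nat.shiftLeft (Nat.lor TT_p1682 (Nat.shiftLeft TT_p1683 15990)) 15990)) 31980)) 79950)) (Nat.shiftLeft (Nat.lor (Nat.lor (Nat.lor TT_p1684 (Nat.shiftLeft TT_p1685 15990)) (Nat.shiftLeft (Nat.lor TT_p1686 (Nat.shiftLeft (Nat.lor TT_p1687 (Nat.shiftLeft TT_p1688 15990)) 15990)) 31980)) (Nat.shiftLeft (Nat.lor (Nat.lor TT_p1689 (Nat.shiftLeft TT_p1690 15990)) (Nat.shiftLeft (Nat.lor TT_p1691 (Nat.shiftLeft (Nat.lor TT_p1692 (Nat.shiftLeft TT_p1693 15990)) 15990)) 31980)) 79950)) 159900)) (Nat.shiftLeft (Nat.lor (Nat.lor (Nat.lor (Nat.lor TT_p1694 (Nat.shiftLeft TT_p1695 15990)) (Nat.shiftLeft (Nat.lor TT_p1696 (Nat.shiftLeft (Nat.lor TT_p1697 (Nat.shiftLeft TT_p1698 15990)) 15990)) 31980)) (Nat.shiftLeft (Nat.lor (Nat.lor TT_p1699 (Nat.shiftLeft TT_p1700 15990)) (Nat.shiftLeft (Nat.lor TT_p1701 (Nat.shiftLeft (Nat.lor TT_p1702 (Nat.shiftLeft TT_p1703 15990)) 15990)) 31980)) 79950)) (Nat.shiftLeft (Nat.lor (Nat.lor (Nat.lor TT_p1704 (Nat.shiftLeft TT_p1705 15990)) (Nat.shiftLeft (Nat.lor TT_p1706 (Nat.shiftLeft (Nat.lor TT_p1707 (Nat.shiftLeft TT_p1708 15990)) 15990)) 31980)) (Nat.shiftLeft (Nat.lor (Nat.lor TT_p1709 (Nat.shiftLeft (Nat.lor TT_p1710 (Nat.shiftLeft TT_p1711 15990)) 15990)) (Nat.shiftLeft (Nat.lor TT_p1712 (Nat.shiftLeft (Nat.lor TT_p1713 (Nat.shiftLeft TT_p1714 15990)) 15990)) 47970)) 79950)) 159900)) 319800)) 639600)) (Nat.shiftLeft (Nat.lor (Nat.lor (Nat.lor (Nat.lor (Nat.lor (Nat.lor TT_p1715 (Nat.shiftLeft TT_p1716 15990)) (Nat.shiftLeft (Nat.lor TT_p1717 (Nat.shiftLeft (Nat.lor TT_p1718 (Nat.shiftLeft TT_p1719 15990)) 15990)) 31980)) (Nat.shiftLeft (Nat.lor (Nat.lor TT_p1720 (Nat.shiftLeft TT_p1721 15990)) (Nat.shiftLeft (Nat.lor TT_p1722 (Nat.shiftLeft (Nat.lor TT_p1723 (Nat.shiftLeft TT_p1724 15990)) 15990)) 31980)) 79950)) (Nat.shiftLeft (Nat.lor (Nat.lor (Nat.lor TT_p1725 (Nat.shiftLeft TT_p1726 15990)) (Nat.shiftLeft (Nat.lor TT_p1727 (Nat.shiftLeft (Nat.lor TT_p1728 (Nat.shiftLeft TT_p1729 15990)) 15990)) 31980)) (Nat.shiftLeft (Nat.lor (Nat.lor TT_p1730 (Nat.shiftLeft TT_p1731 15990)) (Nat.shiftLeft (Nat.lor TT_p1732 (Nat.shiftLeft (Nat.lor TT_p1733 (Nat.shiftLeft TT_p1734 15990)) 15990)) 31980)) 79950)) 159900)) (Nat.shiftLeft (Nat.lor (Nat.lor (Nat.lor (Nat.lor TT_p1735 (Nat.shiftLeft TT_p1736 15990)) (Nat.shiftLeft (Nat.lor TT_p1737 (Nat.shiftLeft (Nat.lor TT_p1738 (Nat.shiftLeft TT_p1739 15990)) 15990)) 31980)) (Nat.shiftLeft (Nat.lor (Nat.lor TT_p1740 (Nat.shiftLeft TT_p1741 15990)) (Nat.shiftLeft (Nat.lor TT_p1742 (Nat.shiftLeft (Nat.lor TT_p1743 (Nat.shiftLeft TT_p1744 15990)) 15990)) 31980)) 79950)) (Nat.shiftLeft (Nat.lor (Nat.lor (Nat.lor TT_p1745 (Nat.shiftLeft TT_p1746 15990)) (Nat.shiftLeft (Nat.lor TT_p1747 (Nat.shiftLeft (Nat.lor TT_p1748 (Nat.shiftLeft TT_p1749 15990)) 15990)) 31980)) (Nat.shiftLeft (Nat.lor (Nat.lor TT_p1750 (Nat.shiftLeft (Nat.lor TT_p1751 (Nat.shiftLeft TT_p1752 15990)) 15990)) (Nat.shiftLeft (Nat.lor TT_p1753 (Nat.shiftLeft (Nat.lor TT_p1754 (Nat.shiftLeft TT_p1755 15990)) 15990)) 47970)) 79950)) 159900)) 319800)) (Nat.shiftLeft (Nat.lor (Nat.lor (Nat.lor (Nat.lor (Nat.lor TT_p1756 (Nat.shiftLeft TT_p1757 15990)) (Nat.shiftLeft (Nat.lor TT_p1758 (Nat.shiftLeft (Nat.lor TT_p1759 (Nat.shiftLeft TT_p1760 15990)) 15990)) 31980)) (Nat.shiftLeft (Nat.lor (Nat.lor TT_p1761 (Nat.shiftLeft TT_p1762 15990)) (Nat.shiftLeft (Nat.lor TT_p1763 (Nat.shiftLeft (Nat.lor TT_p1764 (Nat.shiftLeft TT_p1765 15990)) 15990)) 31980)) 79950)) (Nat.shiftLeft (Nat.lor (Nat.lor (Nat.lor TT_p1766 (Nat.shiftLeft TT_p1767 15990)) (Nat.shiftLeft (Nat.lor TT_p1768 (Nat.shiftLeft (Nat.lor TT_p1769 (Nat.shiftLeft TT_p1770 15990)) 15990)) 31980)) (Nat.shiftLeft (Nat.lor (Nat.lor TT_p1771 (Nat.shiftLeft TT_p1772 15990)) (Nat.shiftLeft (Nat.lor TT_p1773 (Nat.shiftLeft (Nat.lor TT_p1774 (Nat.shiftLeft TT_p1775 15990)) 15990)) 31980)) 79950)) 159900)) (Nat.shiftLeft (Nat.lor (Nat.lor (Nat.lor (Nat.lor TT_p1776 (Nat.shiftLeft TT_p1777 15990)) (Nat.shiftLeft (Nat.lor TT_p1778 (Nat.shiftLeft (Nat.lor TT_p1779 (Nat.shiftLeft TT_p1780 15990)) 15990)) 31980)) (Nat.shiftLeft (Nat.lor (Nat.lor TT_p1781 (Nat.shiftLeft TT_p1782 15990)) (Nat.shiftLeft (Nat.lor TT_p1783 (Nat.shiftLeft (Nat.lor TT_p1784 (Nat.shiftLeft TT_p1785 15990)) 15990)) 31980)) 79950)) (Nat.shiftLeft (Nat.lor (Nat.lor (Nat.lor TT_p1786 (Nat.shiftLeft TT_p1787 15990)) (Nat.shiftLeft (Nat.lor TT_p1788 (Nat.shiftLeft (Nat.lor TT_p1789 (Nat.shiftLeft TT_p1790 15990)) 15990)) 31980)) (Nat.shiftLeft (Nat.lor (Nat.lor TT_p1791 (Nat.shiftLeft (Nat.lor TT_p1792 (Nat.shiftLeft TT_p1793 15990)) 15990)) (Nat.shiftLeft (Nat.lor TT_p1794 (Nat.shiftLeft (Nat.lor TT_p1795 (Nat.shiftLeft TT_p1796 15990)) 15990)) 47970)) 79950)) 159900)) 319800)) 655590)) 1295190)) (Nat.shiftLeft (Nat.lor (Nat.lor (Nat.lor (Nat.lor (Nat.lor (Nat.lor (Nat.lor TT_p1797 (Nat.shiftLeft TT_p1798 15990)) (Nat.shiftLeft (Nat.lor TT_p1799 (Nat.shiftLeft (Nat.lor TT_p1800 (Nat.shiftLeft TT_p1801 15990)) 15990)) 31980)) (Nat.shiftLeft (Nat.lor (Nat.lor TT_p1802 (Nat.shiftLeft TT_p1803 15990)) (Nat.shiftLeft (Nat.lor TT_p1804 (Nat.shiftLeft (Nat.lor TT_p1805 (Nat.shiftLeft TT_p1806 15990)) 15990)) 31980)) 79950)) (Nat.shiftLeft (Nat.lor (Nat.lor (Nat.lor TT_p1807 (Nat.shiftLeft TT_p1808 15990)) (Nat.shiftLeft (Nat.lor TT_p1809 (Nat.shiftLeft (Nat.lor TT_p1810 (Nat.shiftLeft TT_p1811 15990)) 15990)) 31980)) (Nat.shiftLeft (Nat.lor (Nat.lor TT_p1812 (Nat.shiftLeft TT_p1813 15990)) (Nat.shiftLeft (Nat.lor TT_p1814 (Nat.shiftLeft (Nat.lor TT_p1815 (Nat.shiftLeft TT_p1816 15990)) 15990)) 31980)) 79950)) 159900)) (Nat.shiftLeft (Nat.lor (Nat.lor (Nat.lor (Nat.lor TT_p1817 (Nat.shiftLeft TT_p1818 15990)) (Nat.shiftLeft (Nat.lor TT_p1819 (Nat.shiftLeft (Nat.lor TT_p1820 (Nat.shiftLeft TT_p1821 15990)) 15990)) 31980)) (Nat.shiftLeft (Nat.lor (Nat.lor TT_p1822 (Nat.shiftLeft TT_p1823 15990)) (Nat.shiftLeft (Nat.lor TT_p1824 (Nat.shiftLeft (Nat.lor TT_p1825 (Nat.shiftLeft TT_p1826 15990)) 15990)) 31980)) 79950)) (Nat.shiftLeft (Nat.lor (Nat.lor (Nat.lor TT_p1827 (Nat.shiftLeft TT_p1828 15990)) (Nat.shiftLeft (Nat.lor TT_p1829 (Nat.shiftLeft (Nat.lor TT_p1830 (Nat.shiftLeft TT_p1831 15990)) 15990)) 31980)) (Nat.shiftLeft (Nat.lor (Nat.lor TT_p1832 (Nat.shiftLeft (Nat.lor TT_p1833 (Nat.shiftLeft TT_p1834 15990)) 15990)) (Nat.shiftLeft (Nat.lor TT_p1835 (Nat.shiftLeft (Nat.lor TT_p1836 (Nat.shiftLeft TT_p1837 15990)) 15990)) 47970)) 79950)) 159900)) 319800)) (Nat.shiftLeft (Nat.lor (Nat.lor (Nat.lor (Nat.lor (Nat.lor TT_p1838 (Nat.shiftLeft TT_p1839 15990)) (Nat.shiftLeft (Nat.lor TT_p1840 (Nat.shiftLeft (Nat.lor TT_p1841 (Nat.shiftLeft TT_p1842 15990)) 15990)) 31980)) (Nat.shiftLeft (Nat.lor (Nat.lor TT_p1843 (Nat.shiftLeft TT_p1844 15990)) (Nat.shiftLeft (Nat.lor TT_p1845 (Nat.shiftLeft (Nat.lor TT_p1846 (Nat.shiftLeft TT_p1847 15990)) 15990)) 31980)) 79950)) (Nat.shiftLeft (Nat.lor (Nat.lor (Nat.lor TT_p1848 (Nat.shiftLeft TT_p1849 15990)) (Nat.shiftLeft (Nat.lor TT_p1850 (Nat.shiftLeft (Nat.lor TT_p1851 (Nat.shiftLeft TT_p1852 15990)) 15990)) 31980)) (Nat.shiftLeft (Nat.lor (Nat.lor TT_p1853 (Nat.shiftLeft TT_p1854 15990)) (Nat.shiftLeft (Nat.lor TT_p1855 (Nat.shiftLeft (Nat.lor TT_p1856 (Nat.shiftLeft TT_p1857 15990)) 15990)) 31980)) 79950)) 159900)) (Nat.shiftLeft (Nat.lor (Nat.lor (Nat.lor (Nat.lor TT_p1858 (Nat.shiftLeft TT_p1859 15990)) (Nat.shiftLeft (Nat.lor TT_p1860 (Nat.shiftLeft (Nat.lor TT_p1861 (Nat.shiftLeft TT_p1862 15990)) 15990)) 31980)) (Nat.shiftLeft (Nat.lor (Nat.lor TT_p1863 (Nat.shiftLeft TT_p1864 15990)) (Nat.shiftLeft (Nat.lor TT_p1865 (Nat.shiftLeft (Nat.lor TT_p1866 (Nat.shiftLeft TT_p1867 15990)) 15990)) 31980)) 79950)) (Nat.shiftLeft (Nat.lor (Nat.lor (Nat.lor TT_p1868 (Nat.shiftLeft TT_p1869 15990)) (Nat.shiftLeft (Nat.lor TT_p1870 (Nat.shiftLeft (Nat.lor TT_p1871 (Nat.shiftLeft TT_p1872 15990)) 15990)) 31980)) (Nat.shiftLeft (Nat.lor (Nat.lor TT_p1873 (Nat.shiftLeft (Nat.lor TT_p1874 (Nat.shiftLeft TT_p1875 15990)) 15990)) (Nat.shiftLeft (Nat.lor TT_p1876 (Nat.shiftLeft (Nat.lor TT_p1877 (Nat.shiftLeft TT_p1878 15990)) 15990)) 47970)) 79950)) 159900)) 319800)) 655590)) (Nat.shiftLeft (Nat.lor (Nat.lor (Nat.lor (Nat.lor (Nat.lor (Nat.lor TT_p1879 (Nat.shiftLeft TT_p1880 15990)) (Nat.shiftLeft (Nat.lor TT_p1881 (Nat.shiftLeft (Nat.lor TT_p1882 (Nat.shiftLeft TT_p1883 15990)) 15990)) 31980)) (Nat.shiftLeft (Nat.lor (Nat.lor TT_p1884 (Nat.shiftLeft TT_p1885 15990)) (Nat.shiftLeft (Nat.lor TT_p1886 (Nat.shiftLeft (Nat.lor TT_p1887 (Nat.shiftLeft TT_p1888 15990)) 15990)) 31980)) 79950)) (Nat.shiftLeft (Nat.lor (Nat.lor (Nat.lor TT_p1889 (Nat.shiftLeft TT_p1890 15990)) (Nat.shiftLeft (Nat.lor TT_p1891 (Nat.shiftLeft (Nat.lor TT_p1892 (Nat.shiftLeft TT_p1893 15990)) 15990)) 31980)) (Nat.shiftLeft (Nat.lor (Nat.lor TT_p1894 (Nat.shiftLeft TT_p1895 15990)) (Nat.shiftLeft (Nat.lor TT_p1896 (Nat.shiftLeft (Nat.lor TT_p1897 (Nat.shiftLeft TT_p1898 15990)) 15990)) 31980)) 79950)) 159900)) (Nat.shiftLeft (Nat.lor (Nat.lor (Nat.lor (Nat.lor TT_p1899 (Nat.shiftLeft TT_p1900 15990)) (Nat.shiftLeft (Nat.lor TT_p1901 (Nat.shiftLeft (Nat.lor TT_p1902 (Nat.shiftLeft TT_p1903 15990)) 15990)) 31980)) (Nat.shiftLeft (Nat.lor (Nat.lor TT_p1904 (Nat.shiftLeft TT_p1905 15990)) (Nat.shiftLeft (Nat.lor TT_p1906 (Nat.shiftLeft (Nat.lor TT_p1907 (Nat.shiftLeft TT_p1908 15990)) 15990)) 31980)) 79950)) (Nat.shiftLeft (Nat.lor (Nat.lor (Nat.lor TT_p1909 (Nat.shiftLeft TT_p1910 15990)) (Nat.shiftLeft (Nat.lor TT_p1911 (Nat.shiftLeft (Nat.lor TT_p1912 (Nat.shiftLeft TT_p1913 15990)) 15990)) 31980)) (Nat.shiftLeft (Nat.lor (Nat.lor TT_p1914 (Nat.shiftLeft (Nat.lor TT_p1915 (Nat.shiftLeft TT_p1916 15990)) 15990)) (Nat.shiftLeft (Nat.lor TT_p1917 (Nat.shiftLeft (Nat.lor TT_p1918 (Nat.shiftLeft TT_p1919 15990)) 15990)) 47970)) 79950)) 159900)) 319800)) (Nat.shiftLeft (Nat.lor (Nat.lor (Nat.lor (Nat.lor (Nat.lor TT_p1920 (Nat.shiftLeft TT_p1921 15990)) (Nat.shiftLeft (Nat.lor TT_p1922 (Nat.shiftLeft (Nat.lor TT_p1923 (Nat.shiftLeft TT_p1924 15990)) 15990)) 31980)) (Nat.shiftLeft (Nat.lor (Nat.lor TT_p1925 (Nat.shiftLeft TT_p1926 15990)) (Nat.shiftLeft (Nat.lor TT_p1927 (Nat.shiftLeft (Nat.lor TT_p1928 (Nat.shiftLeft TT_p1929 15990)) 15990)) 31980)) 79950)) (Nat.shiftLeft (Nat.lor (Nat.lor (Nat.lor TT_p1930 (Nat.shiftLeft TT_p1931 15990)) (Nat.shiftLeft (Nat.lor TT_p1932 (Nat.shiftLeft (Nat.lor TT_p1933 (Nat.shiftLeft TT_p1934 15990)) 15990)) 31980)) (Nat.shiftLeft (Nat.lor (Nat.lor TT_p1935 (Nat.shiftLeft TT_p1936 15990)) (Nat.shiftLeft (Nat.lor TT_p1937 (Nat.shiftLeft (Nat.lor TT_p1938 (Nat.shiftLeft TT_p1939 15990)) 15990)) 31980)) 79950)) 159900)) (Nat.shiftLeft (Nat.lor (Nat.lor (Nat.lor (Nat.lor TT_p1940 (Nat.shiftLeft TT_p1941 15990)) (Nat.shiftLeft (Nat.lor TT_p1942 (Nat.shiftLeft (Nat.lor TT_p1943 (Nat.shiftLeft TT_p1944 15990)) 15990)) 31980)) (Nat.shiftLeft (Nat.lor (Nat.lor TT_p1945 (Nat.shiftLeft TT_p1946 15990)) (Nat.shiftLeft (Nat.lor TT_p1947 (Nat.shiftLeft (Nat.lor TT_p1948 (Nat.shiftLeft TT_p1949 15990)) 15990)) 31980)) 79950)) (Nat.shiftLeft (Nat.lor (Nat.lor (Nat.lor TT_p1950 (Nat.shiftLeft TT_p1951 15990)) (Nat.shiftLeft (Nat.lor TT_p1952 (Nat.shiftLeft (Nat.lor TT_p1953 (Nat.shiftLeft TT_p1954 15990)) 15990)) 31980)) (Nat.shiftLeft (Nat.lor (Nat.lor TT_p1955 (Nat.shiftLeft (Nat.lor TT_p1956 (Nat.shiftLeft TT_p1957 15990)) 15990)) (Nat.shiftLeft (Nat.lor TT_p1958 (Nat.shiftLeft (Nat.lor TT_p1959 (Nat.shiftLeft TT_p1960 15990)) 15990)) 47970)) 79950)) 159900)) 319800)) 655590)) 1311180)) 2606370)) 5228730)) (Nat.shiftLeft (Nat.lor (Nat.lor (Nat.lor (Nat.lor (Nat.lor (Nat.lor (Nat.lor (Nat.lor (Nat.lor TT_p1961 (Nat.shiftLeft TT_p1962 15990)) (Nat.shiftLeft (Nat.lor TT_p1963 (Nat.shiftLeft (Nat.lor TT_p1964 (Nat.shiftLeft TT_p1965 15990)) 15990)) 31980)) (Nat.shiftLeft (Nat.lor (Nat.lor TT_p1966 (Nat.shiftLeft TT_p1967 15990)) (Nat.shiftLeft (Nat.lor TT_p1968 (Nat.shiftLeft (Nat.lor TT_p1969 (Nat.shiftLeft TT_p1970 15990)) 15990)) 31980)) 79950)) (Nat.shiftLeft (Nat.lor (Nat.lor (Nat.lor TT_p1971 (Nat.shiftLeft TT_p1972 15990)) (Nat.shiftLeft (Nat.lor TT_p1973 (Nat.shiftLeft (Nat.lor TT_p1974 (Nat.shiftLeft TT_p1975 15990)) 15990)) 31980)) (Nat.shiftLeft (Nat.lor (Nat.lor TT_p1976 (Nat.shiftLeft TT_p1977 15990)) (Nat.shiftLeft (Nat.lor TT_p1978 (Nat.shiftLeft (Nat.lor TT_p1979 (Nat.shiftLeft TT_p1980 15990)) 15990)) 31980)) 79950)) 159900)) (Nat.shiftLeft (Nat.lor (Nat.lor (Nat.lor (Nat.lor TT_p1981 (Nat.shiftLeft TT_p1982 15990)) (Nat.shiftLeft (Nat.lor TT_p1983 (Nat.shiftLeft (Nat.lor TT_p1984 (Nat.shiftLeft TT_p1985 15990)) 15990)) 31980)) (Nat.shiftLeft (Nat.lor (Nat.lor TT_p1986 (Nat.shiftLeft TT_p1987 15990)) (Nat.shiftLeft (Nat.lor TT_p1988 (Nat.shiftLeft (Nat.lor TT_p1989 (Nat.shiftLeft TT_p1990 15990)) 15990)) 31980)) 79950)) (Nat.shiftLeft (Nat.lor (Nat.lor (Nat.lor TT_p1991 (Nat.shiftLeft TT_p1992 15990)) (Nat.shiftLeft (Nat.lor TT_p1993 (Nat.shiftLeft (Nat.lor TT_p1994 (Nat.shiftLeft TT_p1995 15990)) 15990)) 31980)) (Nat.shiftLeft (Nat.lor (Nat.lor TT_p1996 (Nat.shiftLeft TT_p1997 15990)) (Nat.shiftLeft (Nat.lor TT_p1998 (Nat.shiftLeft (Nat.lor TT_p1999 (Nat.shiftLeft TT_p2000 15990)) 15990)) 31980)) 79950)) 159900)) 319800)) (Nat.shiftLeft (Nat.lor (Nat.lor (Nat.lor (Nat.lor (Nat.lor TT_p2001 (Nat.shiftLeft TT_p2002 15990)) (Nat.shiftLeft (Nat.lor TT_p2003 (Nat.shiftLeft (Nat.lor TT_p2004 (Nat.shiftLeft TT_p2005 15990)) 15990)) 31980)) (Nat.shiftLeft (Nat.lor (Nat.lor TT_p2006 (Nat.shiftLeft TT_p2007 15990)) (Nat.shiftLeft (Nat.lor TT_p2008 (Nat.shiftLeft (Nat.lor TT_p2009 (Nat.shiftLeft TT_p2010 15990)) 15990)) 31980)) 79950)) (Nat.shiftLeft (Nat.lor (Nat.lor (Nat.lor TT_p2011 (Nat.shiftLeft TT_p2012 15990)) (Nat.shiftLeft (Nat.lor TT_p2013 (Nat.shiftLeft (Nat.lor TT_p2014 (Nat.shiftLeft TT_p2015 15990)) 15990)) 31980)) (Nat.shiftLeft (Nat.lor (Nat.lor TT_p2016 (Nat.shiftLeft TT_p2017 15990)) (Nat.shiftLeft (Nat.lor TT_p2018 (Nat.shiftLeft (Nat.lor TT_p2019 (Nat.shiftLeft TT_p2020 15990)) 15990)) 31980)) 79950)) 159900)) (Nat.shiftLeft (Nat.lor (Nat.lor (Nat.lor (Nat.lor TT_p2021 (Nat.shiftLeft TT_p2022 15990)) (Nat.shiftLeft (Nat.lor TT_p2023 (Nat.shiftLeft (Nat.lor TT_p2024 (Nat.shiftLeft TT_p2025 15990)) 15990)) 31980)) (Nat.shiftLeft (Nat.lor (Nat.lor TT_p2026 (Nat.shiftLeft TT_p2027 15990)) (Nat.shiftLeft (Nat.lor TT_p2028 (Nat.shiftLeft (Nat.lor TT_p2029 (Nat.shiftLeft TT_p2030 15990)) 15990)) 31980)) 79950)) (Nat.shiftLeft (Nat.lor (Nat.lor (Nat.lor TT_p2031 (Nat.shiftLeft TT_p2032 15990)) (Nat.shiftLeft (Nat.lor TT_p2033 (Nat.shiftLeft (Nat.lor TT_p2034 (Nat.shiftLeft TT_p2035 15990)) 15990)) 31980)) (Nat.shiftLeft (Nat.lor (Nat.lor TT_p2036 (Nat.shiftLeft (Nat.lor TT_p2037 (Nat.shiftLeft TT_p2038 15990)) 15990)) (Nat.shiftLeft (Nat.lor TT_p2039 (Nat.shiftLeft (Nat.lor TT_p2040 (Nat.shiftLeft TT_p2041 15990)) 15990)) 47970)) 79950)) 159900)) 319800)) 639600)) (Nat.shiftLeft (Nat.lor (Nat.lor (Nat.lor (Nat.lor (Nat.lor (Nat.lor TT_p2042 (Nat.shiftLeft TT_p2043 15990)) (Nat.shiftLeft (Nat.lor TT_p2044 (Nat.shiftLeft (Nat.lor TT_p2045 (Nat.shiftLeft TT_p2046 15990)) 15990)) 31980)) (Nat.shiftLeft (Nat.lor (Nat.lor TT_p2047 (Nat.shiftLeft TT_p2048 15990)) (Nat.shiftLeft (Nat.lor TT_p2049 (Nat.shiftLeft (Nat.lor TT_p2050 (Nat.shiftLeft TT_p2051 15990)) 15990)) 31980)) 79950)) (Nat.shiftLeft (Nat.lor (Nat.lor (Nat.lor TT_p2052 (Nat.shiftLeft TT_p2053 15990)) (Nat.shiftLeft (Nat.lor TT_p2054 (Nat.shiftLeft (Nat.lor TT_p2055 (Nat.shiftLeft TT_p2056 15990)) 15990)) 31980)) (Nat.shiftLeft (Nat.lor (Nat.lor TT_p2057 (Nat.shiftLeft TT_p2058 15990)) (Nat.shiftLeft (Nat.lor TT_p2059 (Nat.shiftLeft (Nat.lor TT_p2060 (Nat.shiftLeft TT_p2061 15990)) 15990)) 31980)) 79950)) 159900)) (Nat.shiftLeft (Nat.lor (Nat.lor (Nat.lor (Nat.lor TT_p2062 (Nat.shiftLeft TT_p2063 15990)) (Nat.shiftLeft (Nat.lor TT_p2064 (Nat.shiftLeft (Nat.lor TT_p2065 (Nat.shiftLeft TT_p2066 15990)) 15990)) 31980)) (Nat.shiftLeft (Nat.lor (Nat.lor TT_p2067 (Nat.shiftLeft TT_p2068 15990)) (Nat.shiftLeft (Nat.lor TT_p2069 (Nat.shiftLeft (Nat.lor TT_p2070 (Nat.shiftLeft TT_p2071 15990)) 15990)) 31980)) 79950)) (Nat.shiftLeft (Nat.lor (Nat.lor (Nat.lor TT_p2072 (Nat.shiftLeft TT_p2073 15990)) (Nat.shiftLeft (Nat.lor TT_p2074 (Nat.shiftLeft (Nat.lor TT_p2075 (Nat.shiftLeft TT_p2076 15990)) 15990)) 31980)) (Nat.shiftLeft (Nat.lor (Nat.lor TT_p2077 (Nat.shiftLeft (Nat.lor TT_p2078 (Nat.shiftLeft TT_p2079 15990)) 15990)) (Nat.shiftLeft (Nat.lor TT_p2080 (Nat.shiftLeft (Nat.lor TT_p2081 (Nat.shiftLeft TT_p2082 15990)) 15990)) 47970)) 79950)) 159900)) 319800)) (Nat.shiftLeft (Nat.lor (Nat.lor (Nat.lor (Nat.lor (Nat.lor TT_p2083 (Nat.shiftLeft TT_p2084 15990)) (Nat.shiftLeft (Nat.lor TT_p2085 (Nat.shiftLeft (Nat.lor TT_p2086 (Nat.shiftLeft TT_p2087 15990)) 15990)) 31980)) (Nat.shiftLeft (Nat.lor (Nat.lor TT_p2088 (Nat.shiftLeft TT_p2089 15990)) (Nat.shiftLeft (Nat.lor TT_p2090 (Nat.shiftLeft (Nat.lor TT_p2091 (Nat.shiftLeft TT_p2092 15990)) 15990)) 31980)) 79950)) (Nat.shiftLeft (Nat.lor (Nat.lor (Nat.lor TT_p2093 (Nat.shiftLeft TT_p2094 15990)) (Nat.shiftLeft (Nat.lor TT_p2095 (Nat.shiftLeft (Nat.lor TT_p2096 (Nat.shiftLeft TT_p2097 15990)) 15990)) 31980)) (Nat.shiftLeft (Nat.lor (Nat.lor TT_p2098 (Nat.shiftLeft TT_p2099 15990)) (Nat.shiftLeft (Nat.lor TT_p2100 (Nat.shiftLeft (Nat.lor TT_p2101 (Nat.shiftLeft TT_p2102 15990)) 15990)) 31980)) 79950)) 159900)) (Nat.shiftLeft (Nat.lor (Nat.lor (Nat.lor (Nat.lor TT_p2103 (Nat.shiftLeft TT_p2104 15990)) (Nat.shiftLeft (Nat.lor TT_p2105 (Nat.shiftLeft (Nat.lor TT_p2106 (Nat.shiftLeft TT_p2107 15990)) 15990)) 31980)) (Nat.shiftLeft (Nat.lor (Nat.lor TT_p2108 (Nat.shiftLeft TT_p2109 15990)) (Nat.shiftLeft (Nat.lor TT_p2110 (Nat.shiftLeft (Nat.lor TT_p2111 (Nat.shiftLeft TT_p2112 15990)) 15990)) 31980)) 79950)) (Nat.shiftLeft (Nat.lor (Nat.lor (Nat.lor TT_p2113 (Nat.shiftLeft TT_p2114 15990)) (Nat.shiftLeft (Nat.lor TT_p2115 (Nat.shiftLeft (Nat.lor TT_p2116 (Nat.shiftLeft TT_p2117 15990)) 15990)) 31980)) (Nat.shiftLeft (Nat.lor (Nat.lor TT_p2118 (Nat.shiftLeft (Nat.lor TT_p2119 (Nat.shiftLeft TT_p2120 15990)) 15990)) (Nat.shiftLeft (Nat.lor TT_p2121 (Nat.shiftLeft (Nat.lor TT_p2122 (Nat.shiftLeft TT_p2123 15990)) 15990)) 47970)) 79950)) 159900)) 319800)) 655590)) 1295190)) (Nat.shiftLeft (Nat.lor (Nat.lor (Nat.lor (Nat.lor (Nat.lor (Nat.lor (Nat.lor TT_p2124 (Nat.shiftLeft TT_p2125 15990)) (Nat.shiftLeft (Nat.lor TT_p2126 (Nat.shiftLeft (Nat.lor TT_p2127 (Nat.shiftLeft TT_p2128 15990)) 15990)) 31980)) (Nat.shiftLeft (Nat.lor (Nat.lor TT_p2129 (Nat.shiftLeft TT_p2130 15990)) (Nat.shiftLeft (Nat.lor TT_p2131 (Nat.shiftLeft (Nat.lor TT_p2132 (Nat.shiftLeft TT_p2133 15990)) 15990)) 31980)) 79950)) (Nat.shiftLeft (Nat.lor (Nat.lor (Nat.lor TT_p2134 (Nat.shiftLeft TT_p2135 15990)) (Nat.shiftLeft (Nat.lor TT_p2136 (Nat.shiftLeft (Nat.lor TT_p2137 (Nat.shiftLeft TT_p2138 15990)) 15990)) 31980)) (Nat.shiftLeft (Nat.lor (Nat.lor TT_p2139 (Nat.shiftLeft TT_p2140 15990)) (Nat.shiftLeft (Nat.lor TT_p2141 (Nat.shiftLeft (Nat.lor TT_p2142 (Nat.shiftLeft TT_p2143 15990)) 15990)) 31980)) 79950)) 159900)) (Nat.shiftLeft (Nat.lor (Nat.lor (Nat.lor (Nat.lor TT_p2144 (Nat.shiftLeft TT_p2145 15990)) (Nat.shiftLeft (Nat.lor TT_p2146 (Nat.shiftLeft (Nat.lor TT_p2147 (Nat.shiftLeft TT_p2148 15990)) 15990)) 31980)) (Nat.shiftLeft (Nat.lor (Nat.lor TT_p2149 (Nat.shiftLeft TT_p2150 15990)) (Nat.shiftLeft (Nat.lor TT_p2151 (Nat.shiftLeft (Nat.lor TT_p2152 (Nat.shiftLeft TT_p2153 15990)) 15990)) 31980)) 79950)) (Nat.shiftLeft (Nat.lor (Nat.lor (Nat.lor TT_p2154 (Nat.shiftLeft TT_p2155 15990)) (Nat.shiftLeft (Nat.lor TT_p2156 (Nat.shiftLeft (Nat.lor TT_p2157 (Nat.shiftLeft TT_p2158 15990)) 15990)) 31980)) (Nat.shiftLeft (Nat.lor (Nat.lor TT_p2159 (Nat.shiftLeft (Nat.lor TT_p2160 (Nat.shiftLeft TT_p2161 15990)) 15990)) (Nat.shiftLeft (Nat.lor TT_p2162 (Nat.shiftLeft (Nat.lor TT_p2163 (Nat.shiftLeft TT_p2164 15990)) 15990)) 47970)) 79950)) 159900)) 319800)) (Nat.shiftLeft (Nat.lor (Nat.lor (Nat.lor (Nat.lor (Nat.lor TT_p2165 (Nat.shiftLeft TT_p2166 15990)) (Nat.shiftLeft (Nat.lor TT_p2167 (Nat.shiftLeft (Nat.lor TT_p2168 (Nat.shiftLeft TT_p2169 15990)) 15990)) 31980)) (Nat.shiftLeft (Nat.lor (Nat.lor TT_p2170 (Nat.shiftLeft TT_p2171 15990)) (Nat.shiftLeft (Nat.lor TT_p2172 (Nat.shiftLeft (Nat.lor TT_p2173 (Nat.shiftLeft TT_p2174 15990)) 15990)) 31980)) 79950)) (Nat.shiftLeft (Nat.lor (Nat.lor (Nat.lor TT_p2175 (Nat.shiftLeft TT_p2176 15990)) (Nat.shiftLeft (Nat.lor TT_p2177 (Nat.shiftLeft (Nat.lor TT_p2178 (Nat.shiftLeft TT_p2179 15990)) 15990)) 31980)) (Nat.shiftLeft (Nat.lor (Nat.lor TT_p2180 (Nat.shiftLeft TT_p2181 15990)) (Nat.shiftLeft (Nat.lor TT_p2182 (Nat.shiftLeft (Nat.lor TT_p2183 (Nat.shiftLeft TT_p2184 15990)) 15990)) 31980)) 79950)) 159900)) (Nat.shiftLeft (Nat.lor (Nat.lor (Nat.lor (Nat.lor TT_p2185 (Nat.shiftLeft TT_p2186 15990)) (Nat.shiftLeft (Nat.lor TT_p2187 (Nat.shiftLeft (Nat.lor TT_p2188 (Nat.shiftLeft TT_p2189 15990)) 15990)) 31980)) (Nat.shiftLeft (Nat.lor (Nat.lor TT_p2190 (Nat.shiftLeft TT_p2191 15990)) (Nat.shiftLeft (Nat.lor TT_p2192 (Nat.shiftLeft (Nat.lor TT_p2193 (Nat.shiftLeft TT_p2194 15990)) 15990)) 31980)) 79950)) (Nat.shiftLeft (Nat.lor (Nat.lor (Nat.lor TT_p2195 (Nat.shiftLeft TT_p2196 15990)) (Nat.shiftLeft (Nat.lor TT_p2197 (Nat.shiftLeft (Nat.lor TT_p2198 (Nat.shiftLeft TT_p2199 15990)) 15990)) 31980)) (Nat.shiftLeft (Nat.lor (Nat.lor TT_p2200 (Nat.shiftLeft (Nat.lor TT_p2201 (Nat.shiftLeft TT_p2202 15990)) 15990)) (Nat.shiftLeft (Nat.lor TT_p2203 (Nat.shiftLeft (Nat.lor TT_p2204 (Nat.shiftLeft TT_p2205 15990)) 15990)) 47970)) 79950)) 159900)) 319800)) 655590)) (Nat.shiftLeft (Nat.lor (Nat.lor (Nat.lor (Nat.lor (Nat.lor (Nat.lor TT_p2206 (Nat.shiftLeft TT_p2207 15990)) (Nat.shiftLeft (Nat.lor TT_p2208 (Nat.shiftLeft (Nat.lor TT_p2209 (Nat.shiftLeft TT_p2210 15990)) 15990)) 31980)) (Nat.shiftLeft (Nat.lor (Nat.lor TT_p2211 (Nat.shiftLeft TT_p2212 15990)) (Nat.shiftLeft (Nat.lor TT_p2213 (Nat.shiftLeft (Nat.lor TT_p2214 (Nat.shiftLeft TT_p2215 15990)) 15990)) 31980)) 79950)) (Nat.shiftLeft (Nat.lor (Nat.lor (Nat.lor TT_p2216 (Nat.shiftLeft TT_p2217 15990)) (Nat.shiftLeft (Nat.lor TT_p2218 (Nat.shiftLeft (Nat.lor TT_p2219 (Nat.shiftLeft TT_p2220 15990)) 15990)) 31980)) (Nat.shiftLeft (Nat.lor (Nat.lor TT_p2221 (Nat.shiftLeft TT_p2222 15990)) (Nat.shiftLeft (Nat.lor TT_p2223 (Nat.shiftLeft (Nat.lor TT_p2224 (Nat.shiftLeft TT_p2225 15990)) 15990)) 31980)) 79950)) 159900)) (Nat.shiftLeft (Nat.lor (Nat.lor (Nat.lor (Nat.lor TT_p2226 (Nat.shiftLeft TT_p2227 15990)) (Nat.shiftLeft (Nat.lor TT_p2228 (Nat.shiftLeft (Nat.lor TT_p2229 (Nat.shiftLeft TT_p2230 15990)) 15990)) 31980)) (Nat.shiftLeft (Nat.lor (Nat.lor TT_p2231 (Nat.shiftLeft TT_p2232 15990)) (Nat.shiftLeft (Nat.lor TT_p2233 (Nat.shiftLeft (Nat.lor TT_p2234 (Nat.shiftLeft TT_p2235 15990)) 15990)) 31980)) 79950)) (Nat.shiftLeft (Nat.lor (Nat.lor (Nat.lor TT_p2236 (Nat.shiftLeft TT_p2237 15990)) (Nat.shiftLeft (Nat.lor TT_p2238 (Nat.shiftLeft (Nat.lor TT_p2239 (Nat.shiftLeft TT_p2240 15990)) 15990)) 31980)) (Nat.shiftLeft (Nat.lor (Nat.lor TT_p2241 (Nat.shiftLeft (Nat.lor TT_p2242 (Nat.shiftLeft TT_p2243 15990)) 15990)) (Nat.shiftLeft (Nat.lor TT_p2244 (Nat.shiftLeft (Nat.lor TT_p2245 (Nat.shiftLeft TT_p2246 15990)) 15990)) 47970)) 79950)) 159900)) 319800)) (Nat.shiftLeft (Nat.lor (Nat.lor (Nat.lor (Nat.lor (Nat.lor TT_p2247 (Nat.shiftLeft TT_p2248 15990)) (Nat.shiftLeft (Nat.lor TT_p2249 (Nat.shiftLeft (Nat.lor TT_p2250 (Nat.shiftLeft TT_p2251 15990)) 15990)) 31980)) (Nat.shiftLeft (Nat.lor (Nat.lor TT_p2252 (Nat.shiftLeft TT_p2253 15990)) (Nat.shiftLeft (Nat.lor TT_p2254 (Nat.shiftLeft (Nat.lor TT_p2255 (Nat.shiftLeft TT_p2256 15990)) 15990)) 31980)) 79950)) (Nat.shiftLeft (Nat.lor (Nat.lor (Nat.lor TT_p2257 (Nat.shiftLeft TT_p2258 15990)) (Nat.shiftLeft (Nat.lor TT_p2259 (Nat.shiftLeft (Nat.lor TT_p2260 (Nat.shiftLeft TT_p2261 15990)) 15990)) 31980)) (Nat.shiftLeft (Nat.lor (Nat.lor TT_p2262 (Nat.shiftLeft TT_p2263 15990)) (Nat.shiftLeft (Nat.lor TT_p2264 (Nat.shiftLeft (Nat.lor TT_p2265 (Nat.shiftLeft TT_p2266 15990)) 15990)) 31980)) 79950)) 159900)) (Nat.shiftLeft (Nat.lor (Nat.lor (Nat.lor (Nat.lor TT_p2267 (Nat.shiftLeft TT_p2268 15990)) (Nat.shiftLeft (Nat.lor TT_p2269 (Nat.shiftLeft (Nat.lor TT_p2270 (Nat.shiftLeft TT_p2271 15990)) 15990)) 31980)) (Nat.shiftLeft (Nat.lor (Nat.lor TT_p2272 (Nat.shiftLeft TT_p2273 15990)) (Nat.shiftLeft (Nat.lor TT_p2274 (Nat.shiftLeft (Nat.lor TT_p2275 (Nat.shiftLeft TT_p2276 15990)) 15990)) 31980)) 79950)) (Nat.shiftLeft (Nat.lor (Nat.lor (Nat.lor TT_p2277 (Nat.shiftLeft TT_p2278 15990)) (Nat.shiftLeft (Nat.lor TT_p2279 (Nat.shiftLeft (Nat.lor TT_p2280 (Nat.shiftLeft TT_p2281 15990)) 15990)) 31980)) (Nat.shiftLeft (Nat.lor (Nat.lor TT_p2282 (Nat.shiftLeft (Nat.lor TT_p2283 (Nat.shiftLeft TT_p2284 15990)) 15990)) (Nat.shiftLeft (Nat.lor TT_p2285 (Nat.shiftLeft (Nat.lor TT_p2286 (Nat.shiftLeft TT_p2287 15990)) 15990)) 47970)) 79950)) 159900)) 319800)) 655590)) 1311180)) 2606370)) (Nat.shiftLeft (Nat.lor (Nat.lor (Nat.lor (Nat.lor (Nat.lor (Nat.lor (Nat.lor (Nat.lor TT_p2288 (Nat.shiftLeft TT_p2289 15990)) (Nat.shiftLeft (Nat.lor TT_p2290 (Nat.shiftLeft (Nat.lor TT_p2291 (Nat.shiftLeft TT_p2292 15990)) 15990)) 31980)) (Nat.shiftLeft (Nat.lor (Nat.lor TT_p2293 (Nat.shiftLeft TT_p2294 15990)) (Nat.shiftLeft (Nat.lor TT_p2295 (Nat.shiftLeft (Nat.lor TT_p2296 (Nat.shiftLeft TT_p2297 15990)) 15990)) 31980)) 79950)) (Nat.shiftLeft (Nat.lor (Nat.lor (Nat.lor TT_p2298 (Nat.shiftLeft TT_p2299 15990)) (Nat.shiftLeft (Nat.lor TT_p2300 (Nat.shiftLeft (Nat.lor TT_p2301 (Nat.shiftLeft TT_p2302 15990)) 15990)) 31980)) (Nat.shiftLeft (Nat.lor (Nat.lor TT_p2303 (Nat.shiftLeft TT_p2304 15990)) (Nat.shiftLeft (Nat.lor TT_p2305 (Nat.shiftLeft (Nat.lor TT_p2306 (Nat.shiftLeft TT_p2307 15990)) 15990)) 31980)) 79950)) 159900)) (Nat.shiftLeft (Nat.lor (Nat.lor (Nat.lor (Nat.lor TT_p2308 (Nat.shiftLeft TT_p2309 15990)) (Nat.shiftLeft (Nat.lor TT_p2310 (Nat.shiftLeft (Nat.lor TT_p2311 (Nat.shiftLeft TT_p2312 15990)) 15990)) 31980)) (Nat.shiftLeft (Nat.lor (Nat.lor TT_p2313 (Nat.shiftLeft TT_p2314 15990)) (Nat.shiftLeft (Nat.lor TT_p2315 (Nat.shiftLeft (Nat.lor TT_p2316 (Nat.shiftLeft TT_p2317 15990)) 15990)) 31980)) 79950)) (Nat.shiftLeft (Nat.lor (Nat.lor (Nat.lor TT_p2318 (Nat.shiftLeft TT_p2319 15990)) (Nat.shiftLeft (Nat.lor TT_p2320 (Nat.shiftLeft (Nat.lor TT_p2321 (Nat.shiftLeft TT_p2322 15990)) 15990)) 31980)) (Nat.shiftLeft (Nat.lor (Nat.lor TT_p2323 (Nat.shiftLeft TT_p2324 15990)) (Nat.shiftLeft (Nat.lor TT_p2325 (Nat.shiftLeft (Nat.lor TT_p2326 (Nat.shiftLeft TT_p2327 15990)) 15990)) 31980)) 79950)) 159900)) 319800)) (Nat.shiftLeft (Nat.lor (Nat.lor (Nat.lor (Nat.lor (Nat.lor TT_p2328 (Nat.shiftLeft TT_p2329 15990)) (Nat.shiftLeft (Nat.lor TT_p2330 (Nat.shiftLeft (Nat.lor TT_p2331 (Nat.shiftLeft TT_p2332 15990)) 15990)) 31980)) (Nat.shiftLeft (Nat.lor (Nat.lor TT_p2333 (Nat.shiftLeft TT_p2334 15990)) (Nat.shiftLeft (Nat.lor TT_p2335 (Nat.shiftLeft (Nat.lor TT_p2336 (Nat.shiftLeft TT_p2337 15990)) 15990)) 31980)) 79950)) (Nat.shiftLeft (Nat.lor (Nat.lor (Nat.lor TT_p2338 (Nat.shiftLeft TT_p2339 15990)) (Nat.shiftLeft (Nat.lor TT_p2340 (Nat.shiftLeft (Nat.lor TT_p2341 (Nat.shiftLeft TT_p2342 15990)) 15990)) 31980)) (Nat.shiftLeft (Nat.lor (Nat.lor TT_p2343 (Nat.shiftLeft TT_p2344 15990)) (Nat.shiftLeft (Nat.lor TT_p2345 (Nat.shiftLeft (Nat.lor TT_p2346 (Nat.shiftLeft TT_p2347 15990)) 15990)) 31980)) 79950)) 159900)) (Nat.shiftLeft (Nat.lor (Nat.lor (Nat.lor (Nat.lor TT_p2348 (Nat.shiftLeft TT_p2349 15990)) (Nat.shiftLeft (Nat.lor TT_p2350 (Nat.shiftLeft (Nat.lor TT_p2351 (Nat.shiftLeft TT_p2352 15990)) 15990)) 31980)) (Nat.shiftLeft (Nat.lor (Nat.lor TT_p2353 (Nat.shiftLeft TT_p2354 15990)) (Nat.shiftLeft (Nat.lor TT_p2355 (Nat.shiftLeft (Nat.lor TT_p2356 (Nat.shiftLeft TT_p2357 15990)) 15990)) 31980)) 79950)) (Nat.shiftLeft (Nat.lor (Nat.lor (Nat.lor TT_p2358 (Nat.shiftLeft TT_p2359 15990)) (Nat.shiftLeft (Nat.lor TT_p2360 (Nat.shiftLeft (Nat.lor TT_p2361 (Nat.shiftLeft TT_p2362 15990)) 15990)) 31980)) (Nat.shiftLeft (Nat.lor (Nat.lor TT_p2363 (Nat.shiftLeft (Nat.lor TT_p2364 (Nat.shiftLeft TT_p2365 15990)) 15990)) (Nat.shiftLeft (Nat.lor TT_p2366 (Nat.shiftLeft (Nat.lor TT_p2367 (Nat.shiftLeft TT_p2368 15990)) 15990)) 47970)) 79950)) 159900)) 319800)) 639600)) (Nat.shiftLeft (Nat.lor (Nat.lor (Nat.lor (Nat.lor (Nat.lor (Nat.lor TT_p2369 (Nat.shiftLeft TT_p2370 15990)) (Nat.shiftLeft (Nat.lor TT_p2371 (Nat.shiftLeft (Nat.lor TT_p2372 (Nat.shiftLeft TT_p2373 15990)) 15990)) 31980)) (Nat.shiftLeft (Nat.lor (Nat.lor TT_p2374 (Nat.shiftLeft TT_p2375 15990)) (Nat.shiftLeft (Nat.lor TT_p2376 (Nat.shiftLeft (Nat.lor TT_p2377 (Nat.shiftLeft TT_p2378 15990)) 15990)) 31980)) 79950)) (Nat.shiftLeft (Nat.lor (Nat.lor (Nat.lor TT_p2379 (Nat.shiftLeft TT_p2380 15990)) (Nat.shiftLeft (Nat.lor TT_p2381 (Nat.shiftLeft (Nat.lor TT_p2382 (Nat.shiftLeft TT_p2383 15990)) 15990)) 31980)) (Nat.shiftLeft (Nat.lor (Nat.lor TT_p2384 (Nat.shiftLeft TT_p2385 15990)) (Nat.shiftLeft (Nat.lor TT_p2386 (Nat.shiftLeft (Nat.lor TT_p2387 (Nat.shiftLeft TT_p2388 15990)) 15990)) 31980)) 79950)) 159900)) (Nat.shiftLeft (Nat.lor (Nat.lor (Nat.lor (Nat.lor TT_p2389 (Nat.shiftLeft TT_p2390 15990)) (Nat.shiftLeft (Nat.lor TT_p2391 (Nat.shiftLeft (Nat.lor TT_p2392 (Nat.shiftLeft TT_p2393 15990)) 15990)) 31980)) (Nat.shiftLeft (Nat.lor (Nat.lor TT_p2394 (Nat.shiftLeft TT_p2395 15990)) (Nat.shiftLeft (Nat.lor TT_p2396 (Nat.shiftLeft (Nat.lor TT_p2397 (Nat.shiftLeft TT_p2398 15990)) 15990)) 31980)) 79950)) (Nat.shiftLeft (Nat.lor (Nat.lor (Nat.lor TT_p2399 (Nat.shiftLeft TT_p2400 15990)) (Nat.shiftLeft (Nat.lor TT_p2401 (Nat.shiftLeft (Nat.lor TT_p2402 (Nat.shiftLeft TT_p2403 15990)) 15990)) 31980)) (Nat.shiftLeft (Nat.lor (Nat.lor TT_p2404 (Nat.shiftLeft (Nat.lor TT_p2405 (Nat.shiftLeft TT_p2406 15990)) 15990)) (Nat.shiftLeft (Nat.lor TT_p2407 (Nat.shiftLeft (Nat.lor TT_p2408 (Nat.shiftLeft TT_p2409 15990)) 15990)) 47970)) 79950)) 159900)) 319800)) (Nat.shiftLeft (Nat.lor (Nat.lor (Nat.lor (Nat.lor (Nat.lor TT_p2410 (Nat.shiftLeft TT_p2411 15990)) (Nat.shiftLeft (Nat.lor TT_p2412 (Nat.shiftLeft (Nat.lor TT_p2413 (Nat.shiftLeft TT_p2414 15990)) 15990)) 31980)) (Nat.shiftLeft (Nat.lor (Nat.lor TT_p2415 (Nat.shiftLeft TT_p2416 15990)) (Nat.shiftLeft (Nat.lor TT_p2417 (Nat.shiftLeft (Nat.lor TT_p2418 (Nat.shiftLeft TT_p2419 15990)) 15990)) 31980)) 79950)) (Nat.shiftLeft (Nat.lor (Nat.lor (Nat.lor TT_p2420 (Nat.shiftLeft TT_p2421 15990)) (Nat.shiftLeft (Nat.lor TT_p2422 (Nat.shiftLeft (Nat.lor TT_p2423 (Nat.shiftLeft TT_p2424 15990)) 15990)) 31980)) (Nat.shiftLeft (Nat.lor (Nat.lor TT_p2425 (Nat.shiftLeft TT_p2426 15990)) (Nat.shiftLeft (Nat.lor TT_p2427 (Nat.shiftLeft (Nat.lor TT_p2428 (Nat.shiftLeft TT_p2429 15990)) 15990)) 31980)) 79950)) 159900)) (Nat.shiftLeft (Nat.lor (Nat.lor (Nat.lor (Nat.lor TT_p2430 (Nat.shiftLeft TT_p2431 15990)) (Nat.shiftLeft (Nat.lor TT_p2432 (Nat.shiftLeft (Nat.lor TT_p2433 (Nat.shiftLeft TT_p2434 15990)) 15990)) 31980)) (Nat.shiftLeft (Nat.lor (Nat.lor TT_p2435 (Nat.shiftLeft TT_p2436 15990)) (Nat.shiftLeft (Nat.lor TT_p2437 (Nat.shiftLeft (Nat.lor TT_p2438 (Nat.shiftLeft TT_p2439 15990)) 15990)) 31980)) 79950)) (Nat.shiftLeft (Nat.lor (Nat.lor (Nat.lor TT_p2440 (Nat.shiftLeft TT_p2441 15990)) (Nat.shiftLeft (Nat.lor TT_p2442 (Nat.shiftLeft (Nat.lor TT_p2443 (Nat.shiftLeft TT_p2444 15990)) 15990)) 31980)) (Nat.shiftLeft (Nat.lor (Nat.lor TT_p2445 (Nat.shiftLeft (Nat.lor TT_p2446 (Nat.shiftLeft TT_p2447 15990)) 15990)) (Nat.shiftLeft (Nat.lor TT_p2448 (Nat.shiftLeft (Nat.lor TT_p2449 (Nat.shiftLeft TT_p2450 15990)) 15990)) 47970)) 79950)) 159900)) 319800)) 655590)) 1295190)) (Nat.shiftLeft (Nat.lor (Nat.lor (Nat.lor (Nat.lor (Nat.lor (Nat.lor (Nat.lor TT_p2451 (Nat.shiftLeft TT_p2452 15990)) (Nat.shiftLeft (Nat.lor TT_p2453 (Nat.shiftLeft (Nat.lor TT_p2454 (Nat.shiftLeft TT_p2455 15990)) 15990)) 31980)) (Nat.shiftLeft (Nat.lor (Nat.lor TT_p2456 (Nat.shiftLeft TT_p2457 15990)) (Nat.shiftLeft (Nat.lor TT_p2458 (Nat.shiftLeft (Nat.lor TT_p2459 (Nat.shiftLeft TT_p2460 15990)) 15990)) 31980)) 79950)) (Nat.shiftLeft (Nat.lor (Nat.lor (Nat.lor TT_p2461 (Nat.shiftLeft TT_p2462 15990)) (Nat.shiftLeft (Nat.lor TT_p2463 (Nat.shiftLeft (Nat.lor TT_p2464 (Nat.shiftLeft TT_p2465 15990)) 15990)) 31980)) (Nat.shiftLeft (Nat.lor (Nat.lor TT_p2466 (Nat.shiftLeft TT_p2467 15990)) (Nat.shiftLeft (Nat.lor TT_p2468 (Nat.shiftLeft (Nat.lor TT_p2469 (Nat.shiftLeft TT_p2470 15990)) 15990)) 31980)) 79950)) 159900)) (Nat.shiftLeft (Nat.lor (Nat.lor (Nat.lor (Nat.lor TT_p2471 (Nat.shiftLeft TT_p2472 15990)) (Nat.shiftLeft (Nat.lor TT_p2473 (Nat.shiftLeft (Nat.lor TT_p2474 (Nat.shiftLeft TT_p2475 15990)) 15990)) 31980)) (Nat.shiftLeft (Nat.lor (Nat.lor TT_p2476 (Nat.shiftLeft TT_p2477 15990)) (Nat.shiftLeft (Nat.lor TT_p2478 (Nat.shiftLeft (Nat.lor TT_p2479 (Nat.shiftLeft TT_p2480 15990)) 15990)) 31980)) 79950)) (Nat.shiftLeft (Nat.lor (Nat.lor (Nat.lor TT_p2481 (Nat.shiftLeft TT_p2482 15990)) (Nat.shiftLeft (Nat.lor TT_p2483 (Nat.shiftLeft (Nat.lor TT_p2484 (Nat.shiftLeft TT_p2485 15990)) 15990)) 31980)) (Nat.shiftLeft (Nat.lor (Nat.lor TT_p2486 (Nat.shiftLeft (Nat.lor TT_p2487 (Nat.shiftLeft TT_p2488 15990)) 15990)) (Nat.shiftLeft (Nat.lor TT_p2489 (Nat.shiftLeft (Nat.lor TT_p2490 (Nat.shiftLeft TT_p2491 15990)) 15990)) 47970)) 79950)) 159900)) 319800)) (Nat.shiftLeft (Nat.lor (Nat.lor (Nat.lor (Nat.lor (Nat.lor TT_p2492 (Nat.shiftLeft TT_p2493 15990)) (Nat.shiftLeft (Nat.lor TT_p2494 (Nat.shiftLeft (Nat.lor TT_p2495 (Nat.shiftLeft TT_p2496 15990)) 15990)) 31980)) (Nat.shiftLeft (Nat.lor (Nat.lor TT_p2497 (Nat.shiftLeft TT_p2498 15990)) (Nat.shiftLeft (Nat.lor TT_p2499 (Nat.shiftLeft (Nat.lor TT_p2500 (Nat.shiftLeft TT_p2501 15990)) 15990)) 31980)) 79950)) (Nat.shiftLeft (Nat.lor (Nat.lor (Nat.lor TT_p2502 (Nat.shiftLeft TT_p2503 15990)) (Nat.shiftLeft (Nat.lor TT_p2504 (Nat.shiftLeft (Nat.lor TT_p2505 (Nat.shiftLeft TT_p2506 15990)) 15990)) 31980)) (Nat.shiftLeft (Nat.lor (Nat.lor TT_p2507 (Nat.shiftLeft TT_p2508 15990)) (Nat.shiftLeft (Nat.lor TT_p2509 (Nat.shiftLeft (Nat.lor TT_p2510 (Nat.shiftLeft TT_p2511 15990)) 15990)) 31980)) 79950)) 159900)) (Nat.shiftLeft (Nat.lor (Nat.lor (Nat.lor (Nat.lor TT_p2512 (Nat.shiftLeft TT_p2513 15990)) (Nat.shiftLeft (Nat.lor TT_p2514 (Nat.shiftLeft (Nat.lor TT_p2515 (Nat.shiftLeft TT_p2516 15990)) 15990)) 31980)) (Nat.shiftLeft (Nat.lor (Nat.lor TT_p2517 (Nat.shiftLeft TT_p2518 15990)) (Nat.shiftLeft (Nat.lor TT_p2519 (Nat.shiftLeft (Nat.lor TT_p2520 (Nat.shiftLeft TT_p2521 15990)) 15990)) 31980)) 79950)) (Nat.shiftLeft (Nat.lor (Nat.lor (Nat.lor TT_p2522 (Nat.shiftLeft TT_p2523 15990)) (Nat.shiftLeft (Nat.lor TT_p2524 (Nat.shiftLeft (Nat.lor TT_p2525 (Nat.shiftLeft TT_p2526 15990)) 15990)) 31980)) (Nat.shiftLeft (Nat.lor (Nat.lor TT_p2527 (Nat.shiftLeft (Nat.lor TT_p2528 (Nat.shiftLeft TT_p2529 15990)) 15990)) (Nat.shiftLeft (Nat.lor TT_p2530 (Nat.shiftLeft (Nat.lor TT_p2531 (Nat.shiftLeft TT_p2532 15990)) 15990)) 47970)) 79950)) 159900)) 319800)) 655590)) (Nat.shiftLeft (Nat.lor (Nat.lor (Nat.lor (Nat.lor (Nat.lor (Nat.lor TT_p2533 (Nat.shiftLeft TT_p2534 15990)) (Nat.shiftLeft (Nat.lor TT_p2535 (Nat.shiftLeft (Nat.lor TT_p2536 (Nat.shiftLeft TT_p2537 15990)) 15990)) 31980)) (Nat.shiftLeft (Nat.lor (Nat.lor TT_p2538 (Nat.shiftLeft TT_p2539 15990)) (Nat.shiftLeft (Nat.lor TT_p2540 (Nat.shiftLeft (Nat.lor TT_p2541 (Nat.shiftLeft TT_p2542 15990)) 15990)) 31980)) 79950)) (Nat.shiftLeft (Nat.lor (Nat.lor (Nat.lor TT_p2543 (Nat.shiftLeft TT_p2544 15990)) (Nat.shiftLeft (Nat.lor TT_p2545 (Nat.shiftLeft (Nat.lor TT_p2546 (Nat.shiftLeft TT_p2547 15990)) 15990)) 31980)) (Nat.shiftLeft (Nat.lor (Nat.lor TT_p2548 (Nat.shiftLeft TT_p2549 15990)) (Nat.shiftLeft (Nat.lor TT_p2550 (Nat.shiftLeft (Nat.lor TT_p2551 (Nat.shiftLeft TT_p2552 15990)) 15990)) 31980)) 79950)) 159900)) (Nat.shiftLeft (Nat.lor (Nat.lor (Nat.lor (Nat.lor TT_p2553 (Nat.shiftLeft TT_p2554 15990)) (Nat.shiftLeft (Nat.lor TT_p2555 (Nat.shiftLeft (Nat.lor TT_p2556 (Nat.shiftLeft TT_p2557 15990)) 15990)) 31980)) (Nat.shiftLeft (Nat.lor (Nat.lor TT_p2558 (Nat.shiftLeft TT_p2559 15990)) (Nat.shiftLeft (Nat.lor TT_p2560 (Nat.shiftLeft (Nat.lor TT_p2561 (Nat.shiftLeft TT_p2562 15990)) 15990)) 31980)) 79950)) (Nat.shiftLeft (Nat.lor (Nat.lor (Nat.lor TT_p2563 (Nat.shiftLeft TT_p2564 15990)) (Nat.shiftLeft (Nat.lor TT_p2565 (Nat.shiftLeft (Nat.lor TT_p2566 (Nat.shiftLeft TT_p2567 15990)) 15990)) 31980)) (Nat.shiftLeft (Nat.lor (Nat.lor TT_p2568 (Nat.shiftLeft (Nat.lor TT_p2569 (Nat.shiftLeft TT_p2570 15990)) 15990)) (Nat.shiftLeft (Nat.lor TT_p2571 (Nat.shiftLeft (Nat.lor TT_p2572 (Nat.shiftLeft TT_p2573 15990)) 15990)) 47970)) 79950)) 159900)) 319800)) (Nat.shiftLeft (Nat.lor (Nat.lor (Nat.lor (Nat.lor (Nat.lor TT_p2574 (Nat.shiftLeft TT_p2575 15990)) (Nat.shiftLeft (Nat.lor TT_p2576 (Nat.shiftLeft (Nat.lor TT_p2577 (Nat.shiftLeft TT_p2578 15990)) 15990)) 31980)) (Nat.shiftLeft (Nat.lor (Nat.lor TT_p2579 (Nat.shiftLeft TT_p2580 15990)) (Nat.shiftLeft (Nat.lor TT_p2581 (Nat.shiftLeft (Nat.lor TT_p2582 (Nat.shiftLeft TT_p2583 15990)) 15990)) 31980)) 79950)) (Nat.shiftLeft (Nat.lor (Nat.lor (Nat.lor TT_p2584 (Nat.shiftLeft TT_p2585 15990)) (Nat.shiftLeft (Nat.lor TT_p2586 (Nat.shiftLeft (Nat.lor TT_p2587 (Nat.shiftLeft TT_p2588 15990)) 15990)) 31980)) (Nat.shiftLeft (Nat.lor (Nat.lor TT_p2589 (Nat.shiftLeft TT_p2590 15990)) (Nat.shiftLeft (Nat.lor TT_p2591 (Nat.shiftLeft (Nat.lor TT_p2592 (Nat.shiftLeft TT_p2593 15990)) 15990)) 31980)) 79950)) 159900)) (Nat.shiftLeft (Nat.lor (Nat.lor (Nat.lor (Nat.lor TT_p2594 (Nat.shiftLeft TT_p2595 15990)) (Nat.shiftLeft (Nat.lor TT_p2596 (Nat.shiftLeft (Nat.lor TT_p2597 (Nat.shiftLeft TT_p2598 15990)) 15990)) 31980)) (Nat.shiftLeft (Nat.lor (Nat.lor TT_p2599 (Nat.shiftLeft TT_p2600 15990)) (Nat.shiftLeft (Nat.lor TT_p2601 (Nat.shiftLeft (Nat.lor TT_p2602 (Nat.shiftLeft TT_p2603 15990)) 15990)) 31980)) 79950)) (Nat.shiftLeft (Nat.lor (Nat.lor (Nat.lor TT_p2604 (Nat.shiftLeft TT_p2605 15990)) (Nat.shiftLeft (Nat.lor TT_p2606 (Nat.shiftLeft (Nat.lor TT_p2607 (Nat.shiftLeft TT_p2608 15990)) 15990)) 31980)) (Nat.shiftLeft (Nat.lor (Nat.lor TT_p2609 (Nat.shiftLeft (Nat.lor TT_p2610 (Nat.shiftLeft TT_p2611 15990)) 15990)) (Nat.shiftLeft (Nat.lor TT_p2612 (Nat.shiftLeft (Nat.lor TT_p2613 (Nat.shiftLeft TT_p2614 15990)) 15990)) 47970)) 79950)) 159900)) 319800)) 655590)) 1311180)) 2606370)) 5228730)) 10457460)) 20898930))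
noncomputable def TT_M1 : Nat := Nat.sub (Nat.shiftLeft 1 983040) 1
noncomputable def TT_M2 : Nat := Nat.sub (Nat.shiftLeft 1 960) 1
noncomputable def TT (p : Nat) : Nat :=
  force (Nat.shiftRight p 16) fun b1 => force (Nat.land (Nat.shiftRight p 6) 1023) fun b2 =>
    Nat.land (Nat.shiftRight (Nat.land (Nat.shiftRight (Nat.land (Nat.shiftRight TT_T (Nat.mul b1 983040)) TT_M1) (Nat.mul b2 960)) TT_M2) (Nat.mul (Nat.land p 63) 15)) 32767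

noncomputable def F (g p : Nat) : Nat := TT (Nat.add (Nat.mul g 31671) p)

def progL : List (List Nat) := [
  [],
  [],
  [0, 1, 0, 1, 0, 0, 0, 0, 1, 0, 0, 1, 0, 0, 0, 1, 0, 0, 1, 1, 1, 0, 0, 0, 0, 0, 0, 1, 0, 0, 1],
  [0, 0, 1, 0, 1, 0, 1, 0, 0, 0, 0, 1, 0, 0, 0, 1, 0, 0, 1, 1, 1, 0, 0, 1, 0, 0, 0, 1, 0, 1],
  [3, 2, 3, 2, 2, 3, 2, 3, 3, 3, 2, 2, 3, 2, 3, 3, 2, 2, 2, 2, 3, 3, 3, 3, 2],
  [2, 2, 3, 3, 3, 2, 2, 3, 2, 2, 3, 3, 2, 2, 2, 3, 2, 2, 3, 2, 2, 3, 2, 2, 2],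
  [5, 5, 5, 4, 5, 5, 5, 4, 5, 4, 5, 4, 5, 4, 5, 4, 4, 4, 5, 5, 4, 5],
  [4, 4, 4, 5, 4, 5, 5, 5, 5, 4, 5, 5, 4, 5, 5, 5, 4, 4, 5, 5, 4, 4, 5, 5, 5, 4],
  [5, 5, 4, 4, 4, 5, 5, 5, 5, 4, 4, 5, 5, 4, 4, 5, 4, 4, 5, 4, 5, 4, 4, 4, 4],
  [6, 7, 8, 8, 6, 6, 8, 7, 7, 7, 7, 7, 6, 6, 8, 8, 7, 7, 8],
  [6, 7, 7, 6, 7, 7, 8, 8, 6, 8, 7, 7, 7, 6, 6, 7, 8, 6, 8, 6],
  [6, 6, 8, 6, 6, 6, 6, 8, 6, 8, 8, 8, 8, 8, 6, 7, 7, 7, 8, 8, 7],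
  [0, 0, 1, 1, 0, 1, 0, 0, 0, 0, 1, 1],
  [12, 12, 12, 12, 12, 12, 12, 12, 12, 12, 12, 12, 12, 12, 12, 12, 12, 12, 12],
  [1, 13, 1, 12],
  [0, 1, 0, 0, 0, 0, 1, 0, 1, 0, 0, 0],
  [15, 15, 15, 15, 15, 15, 15, 15, 15, 15, 15, 15, 15, 15, 15, 15],
  [1, 16, 1, 15],
  [14],
  [15, 17],
  [19, 19, 18, 19, 19, 19, 19, 19, 19, 19, 19, 19, 19, 19, 18, 19, 18, 18, 19, 19, 18, 18, 18, 18, 18, 19, 19],
  [19, 19, 19, 19, 18, 19, 18, 19, 19, 19, 18, 19, 18, 19, 18, 19, 18, 19, 18, 19, 19, 18, 18, 19, 18, 19, 19, 19, 19, 18],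
  [20, 21, 20, 21, 20, 21, 21, 20, 21, 21, 21, 20, 20, 21, 21, 21, 21, 20, 21, 20, 20, 20],
  [20, 21, 21, 21, 21, 20, 21, 20, 21, 20, 20, 20, 20, 21, 21, 20, 21, 20, 21, 21, 21, 21, 21, 20, 20, 21, 20],
  [20, 20, 21, 20, 21, 21, 21, 20, 21, 21, 20, 21, 20, 20, 20, 21, 20, 21, 20, 21, 20, 20, 20, 20, 21, 21],
  [23, 24, 22, 22, 22, 24, 24, 23, 24, 24, 24, 23, 24, 23, 22, 22, 24, 22, 22, 24],
  [23, 22, 22, 22, 22, 24, 23, 24, 22, 24, 22, 23, 23, 23, 22, 22, 22, 22, 23, 24, 23],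
  [23, 23, 22, 23, 22, 22, 23, 23, 22, 22, 22, 23, 23, 22, 23, 23, 24, 22],
  [1, 1, 1, 0, 0, 0, 1, 0, 0, 1, 1, 0],
  [1, 0, 1, 1, 1, 0, 0, 1, 0, 0, 1, 1],
  [0, 0, 0, 0, 0, 0, 1, 0, 1, 0, 0, 0],
  [1, 0, 1, 1, 1, 0, 0, 0, 0, 0, 1, 0],
  [0, 1, 0, 0, 1, 1, 1, 1, 0, 0, 1, 0],
  [0, 0, 1, 0, 0, 0, 1, 1, 0, 1, 1, 0],
  [1, 0, 0, 0, 1, 1, 0, 0, 0, 1, 0, 1],
  [1, 1, 0, 0, 1, 0, 1, 1, 0, 0, 0, 1],
  [28, 28, 28, 28, 28, 28, 28, 28, 28, 28, 28, 28, 28, 28, 28],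
  [29, 29, 29, 29, 29, 29, 29, 29, 29, 29],
  [30, 30, 30, 30, 30, 30, 30, 30, 30, 30, 30, 30, 30, 30, 30],
  [31, 31, 31, 31, 31, 31],
  [32, 32, 32, 32, 32, 32, 32, 32, 32, 32, 32, 32, 32, 32, 32, 32, 32, 32],
  [33, 33, 33, 33, 33, 33, 33, 33, 33, 33],
  [34, 34, 34, 34, 34, 34, 34, 34, 34, 34],
  [35, 35, 35, 35, 35, 35, 35, 35, 35, 35, 35, 35, 35, 35, 35, 35, 35, 35],
  [9, 9, 11, 11, 8, 8, 6, 7, 8, 8, 6, 4, 5, 4, 4, 5, 5, 5, 4, 4, 5, 4, 4, 5, 5, 5, 5],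
  [9, 10, 10, 11, 11, 6, 7, 7, 7, 7, 7, 8, 4, 4, 4, 5, 5, 5, 4, 5, 5, 4, 4, 4],
  [9, 9, 11, 11, 6, 7, 6, 6, 8, 6, 8, 6, 6, 5, 4, 5, 4, 5, 4, 4, 5, 4, 4, 4, 4, 5],
  [9, 10, 10, 11, 8, 7, 8, 7, 7, 7, 5, 5, 4, 4, 5, 4, 5, 4, 5, 5, 4, 5, 4, 3, 3, 3, 3, 2, 2, 3, 2, 2, 2, 2, 3, 3, 2, 2],
  [9, 7, 6, 6, 8, 8, 8, 6, 7, 4, 4, 5, 4, 5, 5, 4, 5, 4, 3, 3, 2, 3, 3, 3, 2, 2, 3, 3, 2, 3, 2],
  [11, 11, 7, 6, 7, 7, 7, 6, 6, 4, 4, 4, 5, 5, 4, 5, 5, 5, 4, 5, 4, 5, 4, 4, 3, 3, 2, 3, 3, 2, 3, 2],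
  [9, 9, 10, 10, 11, 6, 6, 8, 6, 8, 6, 8, 6, 7, 4, 5, 4, 5, 5, 5, 5, 4, 5, 4, 4, 4, 4, 5, 4, 5, 2, 2, 3, 3, 3, 3, 2, 3, 3, 2, 3, 3, 2, 2, 2],
  [9, 11, 6, 6, 7, 6, 6, 6, 6, 6, 6, 7, 5, 4, 4, 5, 4, 4, 4, 4, 5, 4, 4, 5, 2, 2, 2, 3, 2, 2, 2, 3, 3, 3, 3, 2, 2, 3, 2, 2, 3],
  [10, 11, 11, 6, 8, 8, 6, 8, 8, 7, 8, 8, 4, 5, 4, 4, 4, 5, 4, 5, 4, 5, 4, 4, 4, 4, 5, 3, 2, 2, 2, 2, 2, 3, 3, 3, 3, 2, 2, 3, 2],
  [9, 9, 10, 11, 6, 7, 8, 7, 6, 6, 8, 5, 5, 4, 5, 5, 4, 5, 5, 4, 4, 4, 5, 3, 2, 2, 3, 3, 3, 3, 2, 3, 3, 2, 2],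
  [9, 10, 11, 6, 7, 8, 7, 8, 6, 7, 6, 6, 4, 4, 4, 5, 5, 5, 5, 4, 5, 5, 4, 4, 4, 3, 3, 3, 2, 2, 2, 3, 2, 2, 3, 3, 3, 3, 3],
  [10, 6, 7, 7, 8, 8, 7, 8, 8, 6, 4, 4, 4, 5, 4, 5, 4, 5, 4, 5, 4, 5, 4, 5, 5, 2, 3, 2, 3, 2, 2, 3, 2, 2, 3, 3, 3, 2, 0, 0, 1, 0, 1, 0, 0, 0, 0, 0, 1, 0],
  [9, 9, 11, 6, 6, 8, 6, 7, 8, 7, 7, 8, 4, 4, 5, 4, 5, 4, 5, 4, 4, 5, 4, 5, 2, 3, 2, 3, 2, 2, 2, 3, 3, 2, 2, 2, 2, 3, 1, 0, 1, 0, 1, 0, 1, 0, 0, 0, 0, 0, 0, 0, 0, 0, 0, 0, 0],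
  [11, 11, 6, 7, 6, 6, 8, 8, 7, 5, 5, 4, 4, 5, 4, 4, 4, 5, 5, 5, 3, 2, 3, 3, 3, 3, 2, 3, 3, 3, 3, 3, 1, 0, 0, 0, 0, 0, 0, 1, 0, 1, 0, 1, 0, 1, 0, 0, 0, 1, 0, 1, 0, 1, 0],
  [9, 9, 10, 7, 8, 6, 7, 7, 8, 7, 8, 7, 4, 4, 4, 5, 4, 4, 5, 4, 5, 4, 2, 2, 3, 2, 2, 2, 3, 2, 3, 3, 3, 2, 3, 3, 3, 2, 3, 0, 0, 1, 0, 1, 0, 0, 1, 0, 0, 0, 0, 1, 0, 0, 0, 1, 0, 1],
  [11, 11, 6, 7, 7, 6, 8, 7, 6, 8, 6, 4, 5, 4, 5, 5, 5, 4, 4, 5, 4, 4, 5, 3, 3, 2, 2, 3, 2, 2, 3, 2, 3, 3, 2, 2, 2, 0, 0, 0, 1, 0, 0, 1, 0, 0, 0, 0, 0, 0, 1, 0, 0, 0, 1],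
  [9, 10, 10, 11, 7, 6, 6, 6, 8, 7, 8, 5, 4, 4, 4, 4, 4, 4, 5, 4, 5, 5, 5, 4, 2, 3, 3, 2, 3, 2, 3, 3, 3, 2, 3, 2, 2, 2, 2, 2, 0, 1, 0, 0, 0, 0, 0, 0, 1, 0, 1, 0, 0, 0, 0, 0, 0, 1, 0],
  [9, 11, 11, 6, 8, 6, 6, 8, 7, 7, 8, 7, 4, 4, 4, 5, 4, 4, 5, 5, 5, 4, 4, 5, 4, 5, 2, 3, 3, 3, 2, 3, 3, 3, 3, 2, 2, 0, 0, 0, 0, 0, 1, 0, 0, 0, 0, 0, 0, 0, 1, 0, 1, 0, 0, 1, 0, 1, 0, 0],
  [9, 9, 10, 10, 11, 6, 7, 8, 7, 8, 5, 4, 5, 5, 5, 5, 5, 4, 5, 5, 5, 4, 4, 5, 2, 2, 2, 3, 3, 2, 2, 2, 3, 3, 2, 3, 3, 3, 1, 0, 1, 0, 0, 1, 0, 0, 0, 0, 0, 1, 0, 0, 0, 0, 1, 0, 1],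
  [44],
  [47]]
def prog (g : Nat) : List Nat := progL.getD g []

def prog2L : List (List Nat) := [
  [],
  [],
  [],
  [],
  [],
  [],
  [],
  [],
  [],
  [],
  [71, 65, 68, 74, 73, 67, 72, 73, 70, 66, 74, 66, 68, 70, 73, 68, 67, 69, 67, 70, 66, 65, 73, 72, 68, 70, 74, 67, 73, 66, 68, 70, 69, 67, 65, 71, 72, 70, 71, 71],
  [75],
  [73, 65, 66, 73, 74, 73, 67, 70, 68, 69, 67, 73],
  [77, 77, 77, 77, 77, 77],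
  [71, 73, 66, 72, 66, 70, 69, 66, 67, 73, 69, 66],
  [79, 79],
  [72, 69, 73, 67, 73, 74, 66, 70, 66, 73, 74, 67],
  [81, 81, 81],
  [70, 72, 67, 68, 71, 67, 65, 69, 71, 72, 67, 70],
  [83, 83],
  [72, 71, 69, 71, 71, 71, 66, 71, 67, 73, 71, 66],
  [85],
  [78, 80, 82, 78, 84, 78, 80, 84, 86, 65, 86, 84, 80, 78, 84, 78, 82, 80, 78]]
def prog2 (g : Nat) : List Nat := prog2L.getD (g - 65) []

noncomputable def dL0_pt_T : Nat := (Nat.lor (Nat.lor (Nat.lor (Nat.lor dL0_pt_p0 (Nat.shiftLeft (Nat.lor dL0_pt_p1 (Nat.shiftLeft dL0_pt_p2 15990)) 15990)) (Nat.shiftLeft (Nat.lor (Nat.lor dL0_pt_p3 (Nat.shiftLeft dL0_pt_p4 15990)) (Nat.shiftLeft (Nat.lor dL0_pt_p5 (Nat.shiftLeft dL0_pt_p6 15990)) 31980)) 47970)) (Nat.shiftLeft (Nat.lor (Nat.lor (Nat.lor dL0_pt_p7 (Nat.shiftLeft dL0_pt_p8 15990)) (Nat.shiftLeft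 (Nat.lor dL0_pt_p9 (Nat.shiftLeft dL0_pt_p10 15990)) 31980)) (Nat.shiftLeft (Nat.lor (Nat.lor dL0_pt_p11 (Nat.shiftLeft dL0_pt_p12 15990)) (Nat.shiftLeft (Nat.lor dL0_pt_p13 (Nat.shiftLeft dL0_pt_p14 15990)) 31980)) 63960)) 111930)) (Nat.shiftLeft (Nat.lor (Nat.lor (Nat.lor dL0_pt_p15 (Nat.shiftLeft (Nat.lor dL0_pt_p16 (Nat.shiftLeft dL0_pt_p17 15990)) 15990)) (Nat.shiftLeft (Nat.lor (Nat.lor dL0_pt_p18 (Nat.shiftLeft dL0_pt_p19 15990)) (Nat.shiftLeft (Nat.lor dL0_pt_p20 (Nat.shiftLeft dL0_pt_p21 15990)) 31980)) 47970)) (Nat.shiftLeft (Nat.lor (Nat.lor (Nat.lor dL0_pt_p22 (Nat.shiftLeft dL0_pt_p23 15990)) (Nat.shiftLeft (Nat.lor dL0_pt_p24 (Nat.shiftLeft dL0_pt_p25 15990)) 31980)) (Nat.shiftLeft (Nat.lor (Nat.lor dL0_pt_p26 (Nat.shiftLeft dL0_pt_p27 15990)) (Nat.shiftLeft (Nat.lor dL0_pt_p28 (Nat.shiftLeft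 dL0_pt_p29 15990)) 31980)) 63960)) 111930)) 239850))
noncomputable def dL0_pt_M1 : Nat := Nat.sub (Nat.shiftLeft 1 61440) 1
noncomputable def dL0_pt_M2 : Nat := Nat.sub (Nat.shiftLeft 1 480) 1
noncomputable def dL0_pt (p : Nat) : Nat :=
  force (Nat.shiftRight p 12) fun b1 => force (Nat.land (Nat.shiftRight p 5) 127) fun b2 =>
    Nat.land (Nat.shiftRight (Nat.land (Nat.shiftRight (Nat.land (Nat.shiftRight dL0_pt_T (Nat.mul b1 61440)) dL0_pt_M1) (Nat.mul b2 480)) dL0_pt_M2) (Nat.mul (Nat.land p 31) 15)) 32767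

noncomputable def dL0_pi_T : Nat := (Nat.lor (Nat.lor (Nat.lor (Nat.lor dL0_pi_p0 (Nat.shiftLeft (Nat.lor dL0_pi_p1 (Nat.shiftLeft dL0_pi_p2 15990)) 15990)) (Nat.shiftLeft (Nat.lor (Nat.lor dL0_pi_p3 (Nat.shiftLeft dL0_pi_p4 15990)) (Nat.shiftLeft (Nat.lor dL0_pi_p5 (Nat.shiftLeft dL0_pi_p6 15990)) 31980)) 47970)) (Nat.shiftLeft (Nat.lor (Nat.lor (Nat.lor dL0_pi_p7 (Nat.shiftLeft dL0_pi_p8 15990)) (Nat.shiftLeft (Nat.lor dL0_pi_p9 (Nat.shiftLeft dL0_pi_p10 15990)) 31980)) (Nat.shiftLeft (Nat.lor (Nat.lor dL0_pi_p11 (Nat.shiftLeft dL0_pi_p12 15990)) (Nat.shiftLeft (Nat.lor dL0_pi_p13 (Nat.shiftLeft dL0_pi_p14 15990)) 31980)) 63960)) 111930)) (Nat.shiftLeft (Nat.lor (Nat.lor (Nat.lor dL0_pi_p15 (Nat.shiftLeft (Nat.lor dL0_pi_p16 (Nat.shiftLeft dL0_pi_p17 15990)) 15990)) (Nat.shiftLeft (Nat.lor (Nat.lor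 dL0_pi_p18 (Nat.shiftLeft dL0_pi_p19 15990)) (Nat.shiftLeft (Nat.lor dL0_pi_p20 (Nat.shiftLeft dL0_pi_p21 15990)) 31980)) 47970)) (Nat.shiftLeft (Nat.lor (Nat.lor (Nat.lor dL0_pi_p22 (Nat.shiftLeft dL0_pi_p23 15990)) (Nat.shiftLeft (Nat.lor dL0_pi_p24 (Nat.shiftLeft dL0_pi_p25 15990)) 31980)) (Nat.shiftLeft (Nat.lor (Nat.lor dL0_pi_p26 (Nat.shiftLeft dL0_pi_p27 15990)) (Nat.shiftLeft (Nat.lor dL0_pi_p28 (Nat.shiftLeft dL0_pi_p29 15990)) 31980)) 63960)) 111930)) 239850))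
noncomputable def dL0_pi_M1 : Nat := Nat.sub (Nat.shiftLeft 1 61440) 1
noncomputable def dL0_pi_M2 : Nat := Nat.sub (Nat.shiftLeft 1 480) 1
noncomputable def dL0_pi (p : Nat) : Nat :=
  force (Nat.shiftRight p 12) fun b1 => force (Nat.land (Nat.shiftRight p 5) 127) fun b2 =>
    Nat.land (Nat.shiftRight (Nat.land (Nat.shiftRight (Nat.land (Nat.shiftRight dL0_pi_T (Nat.mul b1 61440)) dL0_pi_M1) (Nat.mul b2 480)) dL0_pi_M2) (Nat.mul (Nat.land p 31) 15)) 32767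

noncomputable def dL0_tr_T : Nat := (Nat.lor (Nat.lor (Nat.lor (Nat.lor (Nat.lor dL0_tr_p0 (Nat.shiftLeft dL0_tr_p1 16000)) (Nat.shiftLeft (Nat.lor dL0_tr_p2 (Nat.shiftLeft dL0_tr_p3 16000)) 32000)) (Nat.shiftLeft (Nat.lor (Nat.lor dL0_tr_p4 (Nat.shiftLeft dL0_tr_p5 16000)) (Nat.shiftLeft (Nat.lor dL0_tr_p6 (Nat.shiftLeft dL0_tr_p7 16000)) 32000)) 64000)) (Nat.shiftLeft (Nat.lor (Nat.lor (Nat.lor dL0_tr_p8 (Nat.shiftLeft dL0_tr_p9 16000)) (Nat.shiftLeft (Nat.lor dL0_tr_p10 (Nat.shiftLeft dL0_tr_p11 16000)) 32000)) (Nat.shiftLeft (Nat.lor (Nat.lor dL0_tr_p12 (Nat.shiftLeft dL0_tr_p13 16000)) (Nat.shiftLeft (Nat.lor dL0_tr_p14 (Nat.shiftLeft dL0_tr_p15 16000)) 32000)) 64000)) 128000)) (Nat.shiftLeft (Nat.lor (Nat.lor (Nat.lor (Nat.lor dL0_tr_p16 (Nat.shiftLeft dL0_tr_p17 16000)) (Nat.shiftLeft (Nat.lor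 dL0_tr_p18 (Nat.shiftLeft dL0_tr_p19 16000)) 32000)) (Nat.shiftLeft (Nat.lor (Nat.lor dL0_tr_p20 (Nat.shiftLeft dL0_tr_p21 16000)) (Nat.shiftLeft (Nat.lor dL0_tr_p22 (Nat.shiftLeft dL0_tr_p23 16000)) 32000)) 64000)) (Nat.shiftLeft (Nat.lor (Nat.lor (Nat.lor dL0_tr_p24 (Nat.shiftLeft dL0_tr_p25 16000)) (Nat.shiftLeft (Nat.lor dL0_tr_p26 (Nat.shiftLeft dL0_tr_p27 16000)) 32000)) (Nat.shiftLeft (Nat.lor (Nat.lor dL0_tr_p28 (Nat.shiftLeft dL0_tr_p29 16000)) (Nat.shiftLeft (Nat.lor dL0_tr_p30 (Nat.shiftLeft dL0_tr_p31 16000)) 32000)) 64000)) 128000)) 256000))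
noncomputable def dL0_tr_M1 : Nat := Nat.sub (Nat.shiftLeft 1 65536) 1
noncomputable def dL0_tr_M2 : Nat := Nat.sub (Nat.shiftLeft 1 512) 1
noncomputable def dL0_tr (p : Nat) : Nat :=
  force (Nat.shiftRight p 12) fun b1 => force (Nat.land (Nat.shiftRight p 5) 127) fun b2 =>
    Nat.land (Nat.shiftRight (Nat.land (Nat.shiftRight (Nat.land (Nat.shiftRight dL0_tr_T (Nat.mul b1 65536)) dL0_tr_M1) (Nat.mul b2 512)) dL0_tr_M2) (Nat.mul (Nat.land p 31) 16)) 65535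

noncomputable def dL0 : LevD := ⟨0, 31671, 2, 0, dL0_pt, dL0_pi, dL0_tr⟩

noncomputable def dL1_pt_T : Nat := (Nat.lor (Nat.lor (Nat.lor (Nat.lor dL1_pt_p0 (Nat.shiftLeft (Nat.lor dL1_pt_p1 (Nat.shiftLeft dL1_pt_p2 15990)) 15990)) (Nat.shiftLeft (Nat.lor dL1_pt_p3 (Nat.shiftLeft (Nat.lor dL1_pt_p4 (Nat.shiftLeft dL1_pt_p5 15990)) 15990)) 47970)) (Nat.shiftLeft (Nat.lor (Nat.lor dL1_pt_p6 (Nat.shiftLeft (Nat.lor dL1_pt_p7 (Nat.shiftLeft dL1_pt_p8 15990)) 15990)) (Nat.shiftLeft (Nat.lor (Nat.lor dL1_pt_p9 (Nat.shiftLeft dL1_pt_p10 15990)) (Nat.shiftLeft (Nat.lor dL1_pt_p11 (Nat.shiftLeft dL1_pt_p12 15990)) 31980)) 47970)) 95940)) (Nat.shiftLeft (Nat.lor (Nat.lor (Nat.lor dL1_pt_p13 (Nat.shiftLeft (Nat.lor dL1_pt_p14 (Nat.shiftLeft dL1_pt_p15 15990)) 15990)) (Nat.shiftLeft (Nat.lor (Nat.lor dL1_pt_p16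 (Nat.shiftLeft dL1_pt_p17 15990)) (Nat.shiftLeft (Nat.lor dL1_pt_p18 (Nat.shiftLeft dL1_pt_p19 15990)) 31980)) 47970)) (Nat.shiftLeft (Nat.lor (Nat.lor dL1_pt_p20 (Nat.shiftLeft (Nat.lor dL1_pt_p21 (Nat.shiftLeft dL1_pt_p22 15990)) 15990)) (Nat.shiftLeft (Nat.lor (Nat.lor dL1_pt_p23 (Nat.shiftLeft dL1_pt_p24 15990)) (Nat.shiftLeft (Nat.lor dL1_pt_p25 (Nat.shiftLeft dL1_pt_p26 15990)) 31980)) 47970)) 111930)) 207870))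
noncomputable def dL1_pt_M1 : Nat := Nat.sub (Nat.shiftLeft 1 61440) 1
noncomputable def dL1_pt_M2 : Nat := Nat.sub (Nat.shiftLeft 1 480) 1
noncomputable def dL1_pt (p : Nat) : Nat :=
  force (Nat.shiftRight p 12) fun b1 => force (Nat.land (Nat.shiftRight p 5) 127) fun b2 =>
    Nat.land (Nat.shiftRight (Nat.land (Nat.shiftRight (Nat.land (Nat.shiftRight dL1_pt_T (Nat.mul b1 61440)) dL1_pt_M1) (Nat.mul b2 480)) dL1_pt_M2) (Nat.mul (Nat.land p 31) 15)) 32767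

noncomputable def dL1_pi_T : Nat := (Nat.lor (Nat.lor (Nat.lor (Nat.lor dL1_pi_p0 (Nat.shiftLeft (Nat.lor dL1_pi_p1 (Nat.shiftLeft dL1_pi_p2 15990)) 15990)) (Nat.shiftLeft (Nat.lor (Nat.lor dL1_pi_p3 (Nat.shiftLeft dL1_pi_p4 15990)) (Nat.shiftLeft (Nat.lor dL1_pi_p5 (Nat.shiftLeft dL1_pi_p6 15990)) 31980)) 47970)) (Nat.shiftLeft (Nat.lor (Nat.lor (Nat.lor dL1_pi_p7 (Nat.shiftLeft dL1_pi_p8 15990)) (Nat.shiftLeft (Nat.lor dL1_pi_p9 (Nat.shiftLeft dL1_pi_p10 15990)) 31980)) (Nat.shiftLeft (Nat.lor (Nat.lor dL1_pi_p11 (Nat.shiftLeft dL1_pi_p12 15990)) (Nat.shiftLeft (Nat.lor dL1_pi_p13 (Nat.shiftLeft dL1_pi_p14 15990)) 31980)) 63960)) 111930)) (Nat.shiftLeft (Nat.lor (Nat.lor (Nat.lor dL1_pi_p15 (Nat.shiftLeft (Nat.lor dL1_pi_p16 (Nat.shiftLeft dL1_pi_p17 15990)) 15990)) (Nat.shiftLeft (Nat.lor (Nat.lor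 dL1_pi_p18 (Nat.shiftLeft dL1_pi_p19 15990)) (Nat.shiftLeft (Nat.lor dL1_pi_p20 (Nat.shiftLeft dL1_pi_p21 15990)) 31980)) 47970)) (Nat.shiftLeft (Nat.lor (Nat.lor (Nat.lor dL1_pi_p22 (Nat.shiftLeft dL1_pi_p23 15990)) (Nat.shiftLeft (Nat.lor dL1_pi_p24 (Nat.shiftLeft dL1_pi_p25 15990)) 31980)) (Nat.shiftLeft (Nat.lor (Nat.lor dL1_pi_p26 (Nat.shiftLeft dL1_pi_p27 15990)) (Nat.shiftLeft (Nat.lor dL1_pi_p28 (Nat.shiftLeft dL1_pi_p29 15990)) 31980)) 63960)) 111930)) 239850))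
noncomputable def dL1_pi_M1 : Nat := Nat.sub (Nat.shiftLeft 1 61440) 1
noncomputable def dL1_pi_M2 : Nat := Nat.sub (Nat.shiftLeft 1 480) 1
noncomputable def dL1_pi (p : Nat) : Nat :=
  force (Nat.shiftRight p 12) fun b1 => force (Nat.land (Nat.shiftRight p 5) 127) fun b2 =>
    Nat.land (Nat.shiftRight (Nat.land (Nat.shiftRight (Nat.land (Nat.shiftRight dL1_pi_T (Nat.mul b1 61440)) dL1_pi_M1) (Nat.mul b2 480)) dL1_pi_M2) (Nat.mul (Nat.land p 31) 15)) 32767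

noncomputable def dL1_tr_T : Nat := (Nat.lor (Nat.lor (Nat.lor (Nat.lor dL1_tr_p0 (Nat.shiftLeft (Nat.lor dL1_tr_p1 (Nat.shiftLeft dL1_tr_p2 16000)) 16000)) (Nat.shiftLeft (Nat.lor (Nat.lor dL1_tr_p3 (Nat.shiftLeft dL1_tr_p4 16000)) (Nat.shiftLeft (Nat.lor dL1_tr_p5 (Nat.shiftLeft dL1_tr_p6 16000)) 32000)) 48000)) (Nat.shiftLeft (Nat.lor (Nat.lor dL1_tr_p7 (Nat.shiftLeft (Nat.lor dL1_tr_p8 (Nat.shiftLeft dL1_tr_p9 16000)) 16000)) (Nat.shiftLeft (Nat.lor (Nat.lor dL1_tr_p10 (Nat.shiftLeft dL1_tr_p11 16000)) (Nat.shiftLeft (Nat.lor dL1_tr_p12 (Nat.shiftLeft dL1_tr_p13 16000)) 32000)) 48000)) 112000)) (Nat.shiftLeft (Nat.lor (Nat.lor (Nat.lor dL1_tr_p14 (Nat.shiftLeft (Nat.lor dL1_tr_p15 (Nat.shiftLeft dL1_tr_p16 16000)) 16000)) (Nat.shiftLeft (Nat.lor (Nat.lor dL1_tr_p17 (Nat.shiftLeft dL1_tr_p18 16000))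 (Nat.shiftLeft (Nat.lor dL1_tr_p19 (Nat.shiftLeft dL1_tr_p20 16000)) 32000)) 48000)) (Nat.shiftLeft (Nat.lor (Nat.lor (Nat.lor dL1_tr_p21 (Nat.shiftLeft dL1_tr_p22 16000)) (Nat.shiftLeft (Nat.lor dL1_tr_p23 (Nat.shiftLeft dL1_tr_p24 16000)) 32000)) (Nat.shiftLeft (Nat.lor (Nat.lor dL1_tr_p25 (Nat.shiftLeft dL1_tr_p26 16000)) (Nat.shiftLeft (Nat.lor dL1_tr_p27 (Nat.shiftLeft dL1_tr_p28 16000)) 32000)) 64000)) 112000)) 224000))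
noncomputable def dL1_tr_M1 : Nat := Nat.sub (Nat.shiftLeft 1 65536) 1
noncomputable def dL1_tr_M2 : Nat := Nat.sub (Nat.shiftLeft 1 512) 1
noncomputable def dL1_tr (p : Nat) : Nat :=
  force (Nat.shiftRight p 12) fun b1 => force (Nat.land (Nat.shiftRight p 5) 127) fun b2 =>
    Nat.land (Nat.shiftRight (Nat.land (Nat.shiftRight (Nat.land (Nat.shiftRight dL1_tr_T (Nat.mul b1 65536)) dL1_tr_M1) (Nat.mul b2 512)) dL1_tr_M2) (Nat.mul (Nat.land p 31) 16)) 65535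

noncomputable def dL1 : LevD := ⟨1, 28160, 2, 2, dL1_pt, dL1_pi, dL1_tr⟩

noncomputable def dL2_pt_T : Nat := (Nat.lor (Nat.lor (Nat.lor (Nat.lor dL2_pt_p0 (Nat.shiftLeft dL2_pt_p1 15990)) (Nat.shiftLeft (Nat.lor dL2_pt_p2 (Nat.shiftLeft (Nat.lor dL2_pt_p3 (Nat.shiftLeft dL2_pt_p4 15990)) 15990)) 31980)) (Nat.shiftLeft (Nat.lor (Nat.lor dL2_pt_p5 (Nat.shiftLeft dL2_pt_p6 15990)) (Nat.shiftLeft (Nat.lor dL2_pt_p7 (Nat.shiftLeft (Nat.lor dL2_pt_p8 (Nat.shiftLeft dL2_pt_p9 15990)) 15990)) 31980)) 79950)) (Nat.shiftLeft (Nat.lor (Nat.lor (Nat.lor dL2_pt_p10 (Nat.shiftLeft dL2_pt_p11 15990)) (Nat.shiftLeft (Nat.lor dL2_pt_p12 (Nat.shiftLeft (Nat.lor dL2_pt_p13 (Nat.shiftLeft dL2_pt_p14 15990)) 15990)) 31980)) (Nat.shiftLeft (Nat.lor (Nat.lor dL2_pt_p15 (Nat.shiftLeft (Nat.lor dL2_pt_p16 (Nat.shiftLeft dL2_pt_p17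 15990)) 15990)) (Nat.shiftLeft (Nat.lor dL2_pt_p18 (Nat.shiftLeft (Nat.lor dL2_pt_p19 (Nat.shiftLeft dL2_pt_p20 15990)) 15990)) 47970)) 79950)) 159900))
noncomputable def dL2_pt_M1 : Nat := Nat.sub (Nat.shiftLeft 1 61440) 1
noncomputable def dL2_pt_M2 : Nat := Nat.sub (Nat.shiftLeft 1 480) 1
noncomputable def dL2_pt (p : Nat) : Nat :=
  force (Nat.shiftRight p 12) fun b1 => force (Nat.land (Nat.shiftRight p 5) 127) fun b2 =>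
    Nat.land (Nat.shiftRight (Nat.land (Nat.shiftRight (Nat.land (Nat.shiftRight dL2_pt_T (Nat.mul b1 61440)) dL2_pt_M1) (Nat.mul b2 480)) dL2_pt_M2) (Nat.mul (Nat.land p 31) 15)) 32767

noncomputable def dL2_pi_T : Nat := (Nat.lor (Nat.lor (Nat.lor (Nat.lor dL2_pi_p0 (Nat.shiftLeft (Nat.lor dL2_pi_p1 (Nat.shiftLeft dL2_pi_p2 15990)) 15990)) (Nat.shiftLeft (Nat.lor (Nat.lor dL2_pi_p3 (Nat.shiftLeft dL2_pi_p4 15990)) (Nat.shiftLeft (Nat.lor dL2_pi_p5 (Nat.shiftLeft dL2_pi_p6 15990)) 31980)) 47970)) (Nat.shiftLeft (Nat.lor (Nat.lor (Nat.lor dL2_pi_p7 (Nat.shiftLeft dL2_pi_p8 15990)) (Nat.shiftLeft (Nat.lor dL2_pi_p9 (Nat.shiftLeft dL2_pi_p10 15990)) 31980)) (Nat.shiftLeft (Nat.lor (Nat.lor dL2_pi_p11 (Nat.shiftLeft dL2_pi_p12 15990)) (Nat.shiftLeft (Nat.lor dL2_pi_p13 (Nat.shiftLeft dL2_pi_p14 15990))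 31980)) 63960)) 111930)) (Nat.shiftLeft (Nat.lor (Nat.lor (Nat.lor dL2_pi_p15 (Nat.shiftLeft (Nat.lor dL2_pi_p16 (Nat.shiftLeft dL2_pi_p17 15990)) 15990)) (Nat.shiftLeft (Nat.lor (Nat.lor dL2_pi_p18 (Nat.shiftLeft dL2_pi_p19 15990)) (Nat.shiftLeft (Nat.lor dL2_pi_p20 (Nat.shiftLeft dL2_pi_p21 15990)) 31980)) 47970)) (Nat.shiftLeft (Nat.lor (Nat.lor (Nat.lor dL2_pi_p22 (Nat.shiftLeft dL2_pi_p23 15990)) (Nat.shiftLeft (Nat.lor dL2_pi_p24 (Nat.shiftLeft dL2_pi_p25 15990)) 31980)) (Nat.shiftLeft (Nat.lor (Nat.lor dL2_pi_p26 (Nat.shiftLeft dL2_pi_p27 15990)) (Nat.shiftLeft (Nat.lor dL2_pi_p28 (Nat.shiftLeft dL2_pi_p29 15990)) 31980)) 63960)) 111930)) 239850))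
noncomputable def dL2_pi_M1 : Nat := Nat.sub (Nat.shiftLeft 1 61440) 1
noncomputable def dL2_pi_M2 : Nat := Nat.sub (Nat.shiftLeft 1 480) 1
noncomputable def dL2_pi (p : Nat) : Nat :=
  force (Nat.shiftRight p 12) fun b1 => force (Nat.land (Nat.shiftRight p 5) 127) fun b2 =>
    Nat.land (Nat.shiftRight (Nat.land (Nat.shiftRight (Nat.land (Nat.shiftRight dL2_pi_T (Nat.mul b1 61440)) dL2_pi_M1) (Nat.mul b2 480)) dL2_pi_M2) (Nat.mul (Nat.land p 31) 15)) 32767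

noncomputable def dL2_tr_T : Nat := (Nat.lor (Nat.lor (Nat.lor (Nat.lor dL2_tr_p0 (Nat.shiftLeft dL2_tr_p1 16000)) (Nat.shiftLeft (Nat.lor dL2_tr_p2 (Nat.shiftLeft (Nat.lor dL2_tr_p3 (Nat.shiftLeft dL2_tr_p4 16000)) 16000)) 32000)) (Nat.shiftLeft (Nat.lor (Nat.lor dL2_tr_p5 (Nat.shiftLeft (Nat.lor dL2_tr_p6 (Nat.shiftLeft dL2_tr_p7 16000)) 16000)) (Nat.shiftLeft (Nat.lor dL2_tr_p8 (Nat.shiftLeft (Nat.lor dL2_tr_p9 (Nat.shiftLeft dL2_tr_p10 16000)) 16000)) 48000)) 80000)) (Nat.shiftLeft (Nat.lor (Nat.lor (Nat.lor dL2_tr_p11 (Nat.shiftLeft dL2_tr_p12 16000)) (Nat.shiftLeft (Nat.lor dL2_tr_p13 (Nat.shiftLeft (Nat.lor dL2_tr_p14 (Nat.shiftLeft dL2_tr_p15 16000)) 16000)) 32000)) (Nat.shiftLeft (Nat.lor (Nat.lor dL2_tr_p16 (Nat.shiftLeft (Nat.lor dL2_tr_p17 (Nat.shiftLeft dL2_tr_p18 16000)) 16000)) (Nat.shiftLeft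 (Nat.lor dL2_tr_p19 (Nat.shiftLeft (Nat.lor dL2_tr_p20 (Nat.shiftLeft dL2_tr_p21 16000)) 16000)) 48000)) 80000)) 176000))
noncomputable def dL2_tr_M1 : Nat := Nat.sub (Nat.shiftLeft 1 65536) 1
noncomputable def dL2_tr_M2 : Nat := Nat.sub (Nat.shiftLeft 1 512) 1
noncomputable def dL2_tr (p : Nat) : Nat :=
  force (Nat.shiftRight p 12) fun b1 => force (Nat.land (Nat.shiftRight p 5) 127) fun b2 =>
    Nat.land (Nat.shiftRight (Nat.land (Nat.shiftRight (Nat.land (Nat.shiftRight dL2_tr_T (Nat.mul b1 65536)) dL2_tr_M1) (Nat.mul b2 512)) dL2_tr_M2) (Nat.mul (Nat.land p 31) 16)) 65535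

noncomputable def dL2 : LevD := ⟨224, 21840, 2, 4, dL2_pt, dL2_pi, dL2_tr⟩

noncomputable def dL3_pt_T : Nat := (Nat.lor (Nat.lor (Nat.lor dL3_pt_p0 (Nat.shiftLeft dL3_pt_p1 15990)) (Nat.shiftLeft (Nat.lor dL3_pt_p2 (Nat.shiftLeft dL3_pt_p3 15990)) 31980)) (Nat.shiftLeft (Nat.lor (Nat.lor dL3_pt_p4 (Nat.shiftLeft dL3_pt_p5 15990)) (Nat.shiftLeft (Nat.lor dL3_pt_p6 (Nat.shiftLeft dL3_pt_p7 15990)) 31980)) 63960))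
noncomputable def dL3_pt_M1 : Nat := Nat.sub (Nat.shiftLeft 1 61440) 1
noncomputable def dL3_pt_M2 : Nat := Nat.sub (Nat.shiftLeft 1 480) 1
noncomputable def dL3_pt (p : Nat) : Nat :=
  force (Nat.shiftRight p 12) fun b1 => force (Nat.land (Nat.shiftRight p 5) 127) fun b2 =>
    Nat.land (Nat.shiftRight (Nat.land (Nat.shiftRight (Nat.land (Nat.shiftRight dL3_pt_T (Nat.mul b1 61440)) dL3_pt_M1) (Nat.mul b2 480)) dL3_pt_M2) (Nat.mul (Nat.land p 31) 15)) 32767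

noncomputable def dL3_pi_T : Nat := (Nat.lor (Nat.lor (Nat.lor (Nat.lor dL3_pi_p0 (Nat.shiftLeft (Nat.lor dL3_pi_p1 (Nat.shiftLeft dL3_pi_p2 15990)) 15990)) (Nat.shiftLeft (Nat.lor dL3_pi_p3 (Nat.shiftLeft (Nat.lor dL3_pi_p4 (Nat.shiftLeft dL3_pi_p5 15990)) 15990)) 47970)) (Nat.shiftLeft (Nat.lor (Nat.lor dL3_pi_p6 (Nat.shiftLeft (Nat.lor dL3_pi_p7 (Nat.shiftLeft dL3_pi_p8 15990)) 15990)) (Nat.shiftLeft (Nat.lor (Nat.lor dL3_pi_p9 (Nat.shiftLeft dL3_pi_p10 15990)) (Nat.shiftLeft (Nat.lor dL3_pi_p11 (Nat.shiftLeft dL3_pi_p12 15990)) 31980)) 47970)) 95940)) (Nat.shiftLeft (Nat.lor (Nat.lor (Nat.lor dL3_pi_p13 (Nat.shiftLeft (Nat.lor dL3_pi_p14 (Nat.shiftLeft dL3_pi_p15 15990)) 15990)) (Nat.shiftLeft (Nat.lor dL3_pi_p16 (Nat.shiftLeft (Nat.lor dL3_pi_p17 (Nat.shiftLeft dL3_pi_p18 15990)) 15990)) 47970))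 (Nat.shiftLeft (Nat.lor (Nat.lor dL3_pi_p19 (Nat.shiftLeft (Nat.lor dL3_pi_p20 (Nat.shiftLeft dL3_pi_p21 15990)) 15990)) (Nat.shiftLeft (Nat.lor (Nat.lor dL3_pi_p22 (Nat.shiftLeft dL3_pi_p23 15990)) (Nat.shiftLeft (Nat.lor dL3_pi_p24 (Nat.shiftLeft dL3_pi_p25 15990)) 31980)) 47970)) 95940)) 207870))
noncomputable def dL3_pi_M1 : Nat := Nat.sub (Nat.shiftLeft 1 53248) 1
noncomputable def dL3_pi_M2 : Nat := Nat.sub (Nat.shiftLeft 1 416) 1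
noncomputable def dL3_pi (p : Nat) : Nat :=
  force (Nat.shiftRight p 12) fun b1 => force (Nat.land (Nat.shiftRight p 5) 127) fun b2 =>
    Nat.land (Nat.shiftRight (Nat.land (Nat.shiftRight (Nat.land (Nat.shiftRight dL3_pi_T (Nat.mul b1 53248)) dL3_pi_M1) (Nat.mul b2 416)) dL3_pi_M2) (Nat.mul (Nat.land p 31) 13)) 8191

noncomputable def dL3_tr_T : Nat := (Nat.lor (Nat.lor (Nat.lor dL3_tr_p0 (Nat.shiftLeft dL3_tr_p1 15990)) (Nat.shiftLeft (Nat.lor dL3_tr_p2 (Nat.shiftLeft dL3_tr_p3 15990)) 31980)) (Nat.shiftLeft (Nat.lor (Nat.lor dL3_tr_p4 (Nat.shiftLeft dL3_tr_p5 15990)) (Nat.shiftLeft (Nat.lor dL3_tr_p6 (Nat.shiftLeft dL3_tr_p7 15990)) 31980)) 63960))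
noncomputable def dL3_tr_M1 : Nat := Nat.sub (Nat.shiftLeft 1 61440) 1
noncomputable def dL3_tr_M2 : Nat := Nat.sub (Nat.shiftLeft 1 480) 1
noncomputable def dL3_tr (p : Nat) : Nat :=
  force (Nat.shiftRight p 12) fun b1 => force (Nat.land (Nat.shiftRight p 5) 127) fun b2 =>
    Nat.land (Nat.shiftRight (Nat.land (Nat.shiftRight (Nat.land (Nat.shiftRight dL3_tr_T (Nat.mul b1 61440)) dL3_tr_M1) (Nat.mul b2 480)) dL3_tr_M2) (Nat.mul (Nat.land p 31) 15)) 32767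

noncomputable def dL3 : LevD := ⟨1640, 7776, 3, 6, dL3_pt, dL3_pi, dL3_tr⟩

noncomputable def dL4_pt_T : Nat := dL4_pt_p0
noncomputable def dL4_pt_M1 : Nat := Nat.sub (Nat.shiftLeft 1 61440) 1
noncomputable def dL4_pt_M2 : Nat := Nat.sub (Nat.shiftLeft 1 480) 1
noncomputable def dL4_pt (p : Nat) : Nat :=
  force (Nat.shiftRight p 12) fun b1 => force (Nat.land (Nat.shiftRight p 5) 127) fun b2 =>
    Nat.land (Nat.shiftRight (Nat.land (Nat.shiftRight (Nat.land (Nat.shiftRight dL4_pt_T (Nat.mul b1 61440)) dL4_pt_M1) (Nat.mul b2 480)) dL4_pt_M2) (Nat.mul (Nat.land p 31) 15)) 32767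

noncomputable def dL4_pi_T : Nat := (Nat.lor (Nat.lor (Nat.lor dL4_pi_p0 (Nat.shiftLeft dL4_pi_p1 16000)) (Nat.shiftLeft (Nat.lor dL4_pi_p2 (Nat.shiftLeft (Nat.lor dL4_pi_p3 (Nat.shiftLeft dL4_pi_p4 16000)) 16000)) 32000)) (Nat.shiftLeft (Nat.lor (Nat.lor dL4_pi_p5 (Nat.shiftLeft dL4_pi_p6 16000)) (Nat.shiftLeft (Nat.lor dL4_pi_p7 (Nat.shiftLeft (Nat.lor dL4_pi_p8 (Nat.shiftLeft dL4_pi_p9 16000)) 16000)) 32000)) 80000))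
noncomputable def dL4_pi_M1 : Nat := Nat.sub (Nat.shiftLeft 1 20480) 1
noncomputable def dL4_pi_M2 : Nat := Nat.sub (Nat.shiftLeft 1 160) 1
noncomputable def dL4_pi (p : Nat) : Nat :=
  force (Nat.shiftRight p 12) fun b1 => force (Nat.land (Nat.shiftRight p 5) 127) fun b2 =>
    Nat.land (Nat.shiftRight (Nat.land (Nat.shiftRight (Nat.land (Nat.shiftRight dL4_pi_T (Nat.mul b1 20480)) dL4_pi_M1) (Nat.mul b2 160)) dL4_pi_M2) (Nat.mul (Nat.land p 31) 5)) 31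

noncomputable def dL4_tr_T : Nat := dL4_tr_p0
noncomputable def dL4_tr_M1 : Nat := Nat.sub (Nat.shiftLeft 1 28672) 1
noncomputable def dL4_tr_M2 : Nat := Nat.sub (Nat.shiftLeft 1 224) 1
noncomputable def dL4_tr (p : Nat) : Nat :=
  force (Nat.shiftRight p 12) fun b1 => force (Nat.land (Nat.shiftRight p 5) 127) fun b2 =>
    Nat.land (Nat.shiftRight (Nat.land (Nat.shiftRight (Nat.land (Nat.shiftRight dL4_tr_T (Nat.mul b1 28672)) dL4_tr_M1) (Nat.mul b2 224)) dL4_tr_M2) (Nat.mul (Nat.land p 31) 7)) 127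

noncomputable def dL4 : LevD := ⟨2, 27, 3, 9, dL4_pt, dL4_pi, dL4_tr⟩

noncomputable def cL0_pt_T : Nat := (Nat.lor (Nat.lor (Nat.lor (Nat.lor cL0_pt_p0 (Nat.shiftLeft (Nat.lor cL0_pt_p1 (Nat.shiftLeft cL0_pt_p2 15990)) 15990)) (Nat.shiftLeft (Nat.lor cL0_pt_p3 (Nat.shiftLeft (Nat.lor cL0_pt_p4 (Nat.shiftLeft cL0_pt_p5 15990)) 15990)) 47970)) (Nat.shiftLeft (Nat.lor (Nat.lor cL0_pt_p6 (Nat.shiftLeft (Nat.lor cL0_pt_p7 (Nat.shiftLeft cL0_pt_p8 15990)) 15990)) (Nat.shiftLeft (Nat.lor (Nat.lor cL0_pt_p9 (Nat.shiftLeft cL0_pt_p10 15990)) (Nat.shiftLeft (Nat.lor cL0_pt_p11 (Nat.shiftLeft cL0_pt_p12 15990)) 31980)) 47970)) 95940)) (Nat.shiftLeft (Nat.lor (Nat.lor (Nat.lor cL0_pt_p13 (Nat.shiftLeft (Nat.lor cL0_pt_p14 (Nat.shiftLeft cL0_pt_p15 15990)) 15990)) (Nat.shiftLeft (Nat.lor (Nat.lor cL0_pt_p16 (Nat.shiftLeft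 cL0_pt_p17 15990)) (Nat.shiftLeft (Nat.lor cL0_pt_p18 (Nat.shiftLeft cL0_pt_p19 15990)) 31980)) 47970)) (Nat.shiftLeft (Nat.lor (Nat.lor cL0_pt_p20 (Nat.shiftLeft (Nat.lor cL0_pt_p21 (Nat.shiftLeft cL0_pt_p22 15990)) 15990)) (Nat.shiftLeft (Nat.lor (Nat.lor cL0_pt_p23 (Nat.shiftLeft cL0_pt_p24 15990)) (Nat.shiftLeft (Nat.lor cL0_pt_p25 (Nat.shiftLeft cL0_pt_p26 15990)) 31980)) 47970)) 111930)) 207870))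
noncomputable def cL0_pt_M1 : Nat := Nat.sub (Nat.shiftLeft 1 61440) 1
noncomputable def cL0_pt_M2 : Nat := Nat.sub (Nat.shiftLeft 1 480) 1
noncomputable def cL0_pt (p : Nat) : Nat :=
  force (Nat.shiftRight p 12) fun b1 => force (Nat.land (Nat.shiftRight p 5) 127) fun b2 =>
    Nat.land (Nat.shiftRight (Nat.land (Nat.shiftRight (Nat.land (Nat.shiftRight cL0_pt_T (Nat.mul b1 61440)) cL0_pt_M1) (Nat.mul b2 480)) cL0_pt_M2) (Nat.mul (Nat.land p 31) 15)) 32767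

noncomputable def cL0_pi_T : Nat := (Nat.lor (Nat.lor (Nat.lor (Nat.lor cL0_pi_p0 (Nat.shiftLeft (Nat.lor cL0_pi_p1 (Nat.shiftLeft cL0_pi_p2 15990)) 15990)) (Nat.shiftLeft (Nat.lor (Nat.lor cL0_pi_p3 (Nat.shiftLeft cL0_pi_p4 15990)) (Nat.shiftLeft (Nat.lor cL0_pi_p5 (Nat.shiftLeft cL0_pi_p6 15990)) 31980)) 47970)) (Nat.shiftLeft (Nat.lor (Nat.lor (Nat.lor cL0_pi_p7 (Nat.shiftLeft cL0_pi_p8 15990)) (Nat.shiftLeft (Nat.lor cL0_pi_p9 (Nat.shiftLeft cL0_pi_p10 15990)) 31980)) (Nat.shiftLeft (Nat.lor (Nat.lor cL0_pi_p11 (Nat.shiftLeft cL0_pi_p12 15990)) (Nat.shiftLeft (Nat.lor cL0_pi_p13 (Nat.shiftLeft cL0_pi_p14 15990)) 31980)) 63960)) 111930)) (Nat.shiftLeft (Nat.lor (Nat.lor (Nat.lor cL0_pi_p15 (Nat.shiftLeft (Nat.lor cL0_pi_p16 (Nat.shiftLeft cL0_pi_p17 15990)) 15990)) (Nat.shiftLeft (Nat.lor (Nat.lor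 cL0_pi_p18 (Nat.shiftLeft cL0_pi_p19 15990)) (Nat.shiftLeft (Nat.lor cL0_pi_p20 (Nat.shiftLeft cL0_pi_p21 15990)) 31980)) 47970)) (Nat.shiftLeft (Nat.lor (Nat.lor (Nat.lor cL0_pi_p22 (Nat.shiftLeft cL0_pi_p23 15990)) (Nat.shiftLeft (Nat.lor cL0_pi_p24 (Nat.shiftLeft cL0_pi_p25 15990)) 31980)) (Nat.shiftLeft (Nat.lor (Nat.lor cL0_pi_p26 (Nat.shiftLeft cL0_pi_p27 15990)) (Nat.shiftLeft (Nat.lor cL0_pi_p28 (Nat.shiftLeft cL0_pi_p29 15990)) 31980)) 63960)) 111930)) 239850))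
noncomputable def cL0_pi_M1 : Nat := Nat.sub (Nat.shiftLeft 1 61440) 1
noncomputable def cL0_pi_M2 : Nat := Nat.sub (Nat.shiftLeft 1 480) 1
noncomputable def cL0_pi (p : Nat) : Nat :=
  force (Nat.shiftRight p 12) fun b1 => force (Nat.land (Nat.shiftRight p 5) 127) fun b2 =>
    Nat.land (Nat.shiftRight (Nat.land (Nat.shiftRight (Nat.land (Nat.shiftRight cL0_pi_T (Nat.mul b1 61440)) cL0_pi_M1) (Nat.mul b2 480)) cL0_pi_M2) (Nat.mul (Nat.land p 31) 15)) 32767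

noncomputable def cL0_tr_T : Nat := (Nat.lor (Nat.lor (Nat.lor (Nat.lor cL0_tr_p0 (Nat.shiftLeft (Nat.lor cL0_tr_p1 (Nat.shiftLeft cL0_tr_p2 16000)) 16000)) (Nat.shiftLeft (Nat.lor (Nat.lor cL0_tr_p3 (Nat.shiftLeft cL0_tr_p4 16000)) (Nat.shiftLeft (Nat.lor cL0_tr_p5 (Nat.shiftLeft cL0_tr_p6 16000)) 32000)) 48000)) (Nat.shiftLeft (Nat.lor (Nat.lor cL0_tr_p7 (Nat.shiftLeft (Nat.lor cL0_tr_p8 (Nat.shiftLeft cL0_tr_p9 16000)) 16000)) (Nat.shiftLeft (Nat.lor (Nat.lor cL0_tr_p10 (Nat.shiftLeft cL0_tr_p11 16000)) (Nat.shiftLeft (Nat.lor cL0_tr_p12 (Nat.shiftLeft cL0_tr_p13 16000)) 32000)) 48000)) 112000)) (Nat.shiftLeft (Nat.lor (Nat.lor (Nat.lor cL0_tr_p14 (Nat.shiftLeft (Nat.lor cL0_tr_p15 (Nat.shiftLeft cL0_tr_p16 16000)) 16000)) (Nat.shiftLeft (Nat.lor (Nat.lor cL0_tr_p17 (Nat.shiftLeft cL0_tr_p18 16000))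 (Nat.shiftLeft (Nat.lor cL0_tr_p19 (Nat.shiftLeft cL0_tr_p20 16000)) 32000)) 48000)) (Nat.shiftLeft (Nat.lor (Nat.lor (Nat.lor cL0_tr_p21 (Nat.shiftLeft cL0_tr_p22 16000)) (Nat.shiftLeft (Nat.lor cL0_tr_p23 (Nat.shiftLeft cL0_tr_p24 16000)) 32000)) (Nat.shiftLeft (Nat.lor (Nat.lor cL0_tr_p25 (Nat.shiftLeft cL0_tr_p26 16000)) (Nat.shiftLeft (Nat.lor cL0_tr_p27 (Nat.shiftLeft cL0_tr_p28 16000)) 32000)) 64000)) 112000)) 224000))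
noncomputable def cL0_tr_M1 : Nat := Nat.sub (Nat.shiftLeft 1 65536) 1
noncomputable def cL0_tr_M2 : Nat := Nat.sub (Nat.shiftLeft 1 512) 1
noncomputable def cL0_tr (p : Nat) : Nat :=
  force (Nat.shiftRight p 12) fun b1 => force (Nat.land (Nat.shiftRight p 5) 127) fun b2 =>
    Nat.land (Nat.shiftRight (Nat.land (Nat.shiftRight (Nat.land (Nat.shiftRight cL0_tr_T (Nat.mul b1 65536)) cL0_tr_M1) (Nat.mul b2 512)) cL0_tr_M2) (Nat.mul (Nat.land p 31) 16)) 65535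

noncomputable def cL0 : LevD := ⟨0, 28160, 2, 18, cL0_pt, cL0_pi, cL0_tr⟩

noncomputable def cL1_pt_T : Nat := (Nat.lor (Nat.lor (Nat.lor (Nat.lor cL1_pt_p0 (Nat.shiftLeft cL1_pt_p1 15990)) (Nat.shiftLeft (Nat.lor cL1_pt_p2 (Nat.shiftLeft (Nat.lor cL1_pt_p3 (Nat.shiftLeft cL1_pt_p4 15990)) 15990)) 31980)) (Nat.shiftLeft (Nat.lor (Nat.lor cL1_pt_p5 (Nat.shiftLeft cL1_pt_p6 15990)) (Nat.shiftLeft (Nat.lor cL1_pt_p7 (Nat.shiftLeft (Nat.lor cL1_pt_p8 (Nat.shiftLeft cL1_pt_p9 15990)) 15990)) 31980)) 79950)) (Nat.shiftLeft (Nat.lor (Nat.lor (Nat.lor cL1_pt_p10 (Nat.shiftLeft cL1_pt_p11 15990)) (Nat.shiftLeft (Nat.lor cL1_pt_p12 (Nat.shiftLeft (Nat.lor cL1_pt_p13 (Nat.shiftLeft cL1_pt_p14 15990)) 15990)) 31980)) (Nat.shiftLeft (Nat.lor (Nat.lor cL1_pt_p15 (Nat.shiftLeft (Nat.lor cL1_pt_p16 (Nat.shiftLeft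 cL1_pt_p17 15990)) 15990)) (Nat.shiftLeft (Nat.lor cL1_pt_p18 (Nat.shiftLeft (Nat.lor cL1_pt_p19 (Nat.shiftLeft cL1_pt_p20 15990)) 15990)) 47970)) 79950)) 159900))
noncomputable def cL1_pt_M1 : Nat := Nat.sub (Nat.shiftLeft 1 61440) 1
noncomputable def cL1_pt_M2 : Nat := Nat.sub (Nat.shiftLeft 1 480) 1
noncomputable def cL1_pt (p : Nat) : Nat :=
  force (Nat.shiftRight p 12) fun b1 => force (Nat.land (Nat.shiftRight p 5) 127) fun b2 =>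
    Nat.land (Nat.shiftRight (Nat.land (Nat.shiftRight (Nat.land (Nat.shiftRight cL1_pt_T (Nat.mul b1 61440)) cL1_pt_M1) (Nat.mul b2 480)) cL1_pt_M2) (Nat.mul (Nat.land p 31) 15)) 32767

noncomputable def cL1_pi_T : Nat := (Nat.lor (Nat.lor (Nat.lor (Nat.lor cL1_pi_p0 (Nat.shiftLeft (Nat.lor cL1_pi_p1 (Nat.shiftLeft cL1_pi_p2 15990)) 15990)) (Nat.shiftLeft (Nat.lor (Nat.lor cL1_pi_p3 (Nat.shiftLeft cL1_pi_p4 15990)) (Nat.shiftLeft (Nat.lor cL1_pi_p5 (Nat.shiftLeft cL1_pi_p6 15990)) 31980)) 47970)) (Nat.shiftLeft (Nat.lor (Nat.lor (Nat.lor cL1_pi_p7 (Nat.shiftLeft cL1_pi_p8 15990)) (Nat.shiftLeft (Nat.lor cL1_pi_p9 (Nat.shiftLeft cL1_pi_p10 15990)) 31980)) (Nat.shiftLeft (Nat.lor (Nat.lor cL1_pi_p11 (Nat.shiftLeft cL1_pi_p12 15990)) (Nat.shiftLeft (Nat.lor cL1_pi_p13 (Nat.shiftLeft cL1_pi_p14 15990))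 31980)) 63960)) 111930)) (Nat.shiftLeft (Nat.lor (Nat.lor (Nat.lor cL1_pi_p15 (Nat.shiftLeft (Nat.lor cL1_pi_p16 (Nat.shiftLeft cL1_pi_p17 15990)) 15990)) (Nat.shiftLeft (Nat.lor (Nat.lor cL1_pi_p18 (Nat.shiftLeft cL1_pi_p19 15990)) (Nat.shiftLeft (Nat.lor cL1_pi_p20 (Nat.shiftLeft cL1_pi_p21 15990)) 31980)) 47970)) (Nat.shiftLeft (Nat.lor (Nat.lor (Nat.lor cL1_pi_p22 (Nat.shiftLeft cL1_pi_p23 15990)) (Nat.shiftLeft (Nat.lor cL1_pi_p24 (Nat.shiftLeft cL1_pi_p25 15990)) 31980)) (Nat.shiftLeft (Nat.lor (Nat.lor cL1_pi_p26 (Nat.shiftLeft cL1_pi_p27 15990)) (Nat.shiftLeft (Nat.lor cL1_pi_p28 (Nat.shiftLeft cL1_pi_p29 15990)) 31980)) 63960)) 111930)) 239850))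
noncomputable def cL1_pi_M1 : Nat := Nat.sub (Nat.shiftLeft 1 61440) 1
noncomputable def cL1_pi_M2 : Nat := Nat.sub (Nat.shiftLeft 1 480) 1
noncomputable def cL1_pi (p : Nat) : Nat :=
  force (Nat.shiftRight p 12) fun b1 => force (Nat.land (Nat.shiftRight p 5) 127) fun b2 =>
    Nat.land (Nat.shiftRight (Nat.land (Nat.shiftRight (Nat.land (Nat.shiftRight cL1_pi_T (Nat.mul b1 61440)) cL1_pi_M1) (Nat.mul b2 480)) cL1_pi_M2) (Nat.mul (Nat.land p 31) 15)) 32767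

noncomputable def cL1_tr_T : Nat := (Nat.lor (Nat.lor (Nat.lor (Nat.lor cL1_tr_p0 (Nat.shiftLeft cL1_tr_p1 16000)) (Nat.shiftLeft (Nat.lor cL1_tr_p2 (Nat.shiftLeft (Nat.lor cL1_tr_p3 (Nat.shiftLeft cL1_tr_p4 16000)) 16000)) 32000)) (Nat.shiftLeft (Nat.lor (Nat.lor cL1_tr_p5 (Nat.shiftLeft (Nat.lor cL1_tr_p6 (Nat.shiftLeft cL1_tr_p7 16000)) 16000)) (Nat.shiftLeft (Nat.lor cL1_tr_p8 (Nat.shiftLeft (Nat.lor cL1_tr_p9 (Nat.shiftLeft cL1_tr_p10 16000)) 16000)) 48000)) 80000)) (Nat.shiftLeft (Nat.lor (Nat.lor (Nat.lor cL1_tr_p11 (Nat.shiftLeft cL1_tr_p12 16000)) (Nat.shiftLeft (Nat.lor cL1_tr_p13 (Nat.shiftLeft (Nat.lor cL1_tr_p14 (Nat.shiftLeft cL1_tr_p15 16000)) 16000)) 32000)) (Nat.shiftLeft (Nat.lor (Nat.lor cL1_tr_p16 (Nat.shiftLeft (Nat.lor cL1_tr_p17 (Nat.shiftLeft cL1_tr_p18 16000)) 16000)) (Nat.shiftLeft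 (Nat.lor cL1_tr_p19 (Nat.shiftLeft (Nat.lor cL1_tr_p20 (Nat.shiftLeft cL1_tr_p21 16000)) 16000)) 48000)) 80000)) 176000))
noncomputable def cL1_tr_M1 : Nat := Nat.sub (Nat.shiftLeft 1 65536) 1
noncomputable def cL1_tr_M2 : Nat := Nat.sub (Nat.shiftLeft 1 512) 1
noncomputable def cL1_tr (p : Nat) : Nat :=
  force (Nat.shiftRight p 12) fun b1 => force (Nat.land (Nat.shiftRight p 5) 127) fun b2 =>
    Nat.land (Nat.shiftRight (Nat.land (Nat.shiftRight (Nat.land (Nat.shiftRight cL1_tr_T (Nat.mul b1 65536)) cL1_tr_M1) (Nat.mul b2 512)) cL1_tr_M2) (Nat.mul (Nat.land p 31) 16)) 65535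

noncomputable def cL1 : LevD := ⟨2, 21840, 2, 20, cL1_pt, cL1_pi, cL1_tr⟩

noncomputable def cL2_pt_T : Nat := (Nat.lor (Nat.lor (Nat.lor cL2_pt_p0 (Nat.shiftLeft cL2_pt_p1 15990)) (Nat.shiftLeft (Nat.lor cL2_pt_p2 (Nat.shiftLeft cL2_pt_p3 15990)) 31980)) (Nat.shiftLeft (Nat.lor (Nat.lor cL2_pt_p4 (Nat.shiftLeft cL2_pt_p5 15990)) (Nat.shiftLeft (Nat.lor cL2_pt_p6 (Nat.shiftLeft cL2_pt_p7 15990)) 31980)) 63960))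
noncomputable def cL2_pt_M1 : Nat := Nat.sub (Nat.shiftLeft 1 61440) 1
noncomputable def cL2_pt_M2 : Nat := Nat.sub (Nat.shiftLeft 1 480) 1
noncomputable def cL2_pt (p : Nat) : Nat :=
  force (Nat.shiftRight p 12) fun b1 => force (Nat.land (Nat.shiftRight p 5) 127) fun b2 =>
    Nat.land (Nat.shiftRight (Nat.land (Nat.shiftRight (Nat.land (Nat.shiftRight cL2_pt_T (Nat.mul b1 61440)) cL2_pt_M1) (Nat.mul b2 480)) cL2_pt_M2) (Nat.mul (Nat.land p 31) 15)) 32767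

noncomputable def cL2_pi_T : Nat := (Nat.lor (Nat.lor (Nat.lor (Nat.lor cL2_pi_p0 (Nat.shiftLeft (Nat.lor cL2_pi_p1 (Nat.shiftLeft cL2_pi_p2 15990)) 15990)) (Nat.shiftLeft (Nat.lor cL2_pi_p3 (Nat.shiftLeft (Nat.lor cL2_pi_p4 (Nat.shiftLeft cL2_pi_p5 15990)) 15990)) 47970)) (Nat.shiftLeft (Nat.lor (Nat.lor cL2_pi_p6 (Nat.shiftLeft (Nat.lor cL2_pi_p7 (Nat.shiftLeft cL2_pi_p8 15990)) 15990)) (Nat.shiftLeft (Nat.lor (Nat.lor cL2_pi_p9 (Nat.shiftLeft cL2_pi_p10 15990)) (Nat.shiftLeft (Nat.lor cL2_pi_p11 (Nat.shiftLeft cL2_pi_p12 15990)) 31980)) 47970)) 95940)) (Nat.shiftLeft (Nat.lor (Nat.lor (Nat.lor cL2_pi_p13 (Nat.shiftLeft (Nat.lor cL2_pi_p14 (Nat.shiftLeft cL2_pi_p15 15990)) 15990)) (Nat.shiftLeft (Nat.lor cL2_pi_p16 (Nat.shiftLeft (Nat.lor cL2_pi_p17 (Nat.shiftLeft cL2_pi_p18 15990)) 15990)) 47970))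 (Nat.shiftLeft (Nat.lor (Nat.lor cL2_pi_p19 (Nat.shiftLeft (Nat.lor cL2_pi_p20 (Nat.shiftLeft cL2_pi_p21 15990)) 15990)) (Nat.shiftLeft (Nat.lor (Nat.lor cL2_pi_p22 (Nat.shiftLeft cL2_pi_p23 15990)) (Nat.shiftLeft (Nat.lor cL2_pi_p24 (Nat.shiftLeft cL2_pi_p25 15990)) 31980)) 47970)) 95940)) 207870))
noncomputable def cL2_pi_M1 : Nat := Nat.sub (Nat.shiftLeft 1 53248) 1
noncomputable def cL2_pi_M2 : Nat := Nat.sub (Nat.shiftLeft 1 416) 1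
noncomputable def cL2_pi (p : Nat) : Nat :=
  force (Nat.shiftRight p 12) fun b1 => force (Nat.land (Nat.shiftRight p 5) 127) fun b2 =>
    Nat.land (Nat.shiftRight (Nat.land (Nat.shiftRight (Nat.land (Nat.shiftRight cL2_pi_T (Nat.mul b1 53248)) cL2_pi_M1) (Nat.mul b2 416)) cL2_pi_M2) (Nat.mul (Nat.land p 31) 13)) 8191

noncomputable def cL2_tr_T : Nat := (Nat.lor (Nat.lor (Nat.lor cL2_tr_p0 (Nat.shiftLeft cL2_tr_p1 15990)) (Nat.shiftLeft (Nat.lor cL2_tr_p2 (Nat.shiftLeft cL2_tr_p3 15990)) 31980)) (Nat.shiftLeft (Nat.lor (Nat.lor cL2_tr_p4 (Nat.shiftLeft cL2_tr_p5 15990)) (Nat.shiftLeft (Nat.lor cL2_tr_p6 (Nat.shiftLeft cL2_tr_p7 15990)) 31980)) 63960))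
noncomputable def cL2_tr_M1 : Nat := Nat.sub (Nat.shiftLeft 1 61440) 1
noncomputable def cL2_tr_M2 : Nat := Nat.sub (Nat.shiftLeft 1 480) 1
noncomputable def cL2_tr (p : Nat) : Nat :=
  force (Nat.shiftRight p 12) fun b1 => force (Nat.land (Nat.shiftRight p 5) 127) fun b2 =>
    Nat.land (Nat.shiftRight (Nat.land (Nat.shiftRight (Nat.land (Nat.shiftRight cL2_tr_T (Nat.mul b1 61440)) cL2_tr_M1) (Nat.mul b2 480)) cL2_tr_M2) (Nat.mul (Nat.land p 31) 15)) 32767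

noncomputable def cL2 : LevD := ⟨153, 7776, 3, 22, cL2_pt, cL2_pi, cL2_tr⟩

noncomputable def cL3_pt_T : Nat := cL3_pt_p0
noncomputable def cL3_pt_M1 : Nat := Nat.sub (Nat.shiftLeft 1 61440) 1
noncomputable def cL3_pt_M2 : Nat := Nat.sub (Nat.shiftLeft 1 480) 1
noncomputable def cL3_pt (p : Nat) : Nat :=
  force (Nat.shiftRight p 12) fun b1 => force (Nat.land (Nat.shiftRight p 5) 127) fun b2 =>
    Nat.land (Nat.shiftRight (Nat.land (Nat.shiftRight (Nat.land (Nat.shiftRight cL3_pt_T (Nat.mul b1 61440)) cL3_pt_M1) (Nat.mul b2 480)) cL3_pt_M2) (Nat.mul (Nat.land p 31) 15)) 32767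

noncomputable def cL3_pi_T : Nat := (Nat.lor (Nat.lor (Nat.lor cL3_pi_p0 (Nat.shiftLeft cL3_pi_p1 16000)) (Nat.shiftLeft (Nat.lor cL3_pi_p2 (Nat.shiftLeft (Nat.lor cL3_pi_p3 (Nat.shiftLeft cL3_pi_p4 16000)) 16000)) 32000)) (Nat.shiftLeft (Nat.lor (Nat.lor cL3_pi_p5 (Nat.shiftLeft cL3_pi_p6 16000)) (Nat.shiftLeft (Nat.lor cL3_pi_p7 (Nat.shiftLeft (Nat.lor cL3_pi_p8 (Nat.shiftLeft cL3_pi_p9 16000)) 16000)) 32000)) 80000))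
noncomputable def cL3_pi_M1 : Nat := Nat.sub (Nat.shiftLeft 1 20480) 1
noncomputable def cL3_pi_M2 : Nat := Nat.sub (Nat.shiftLeft 1 160) 1
noncomputable def cL3_pi (p : Nat) : Nat :=
  force (Nat.shiftRight p 12) fun b1 => force (Nat.land (Nat.shiftRight p 5) 127) fun b2 =>
    Nat.land (Nat.shiftRight (Nat.land (Nat.shiftRight (Nat.land (Nat.shiftRight cL3_pi_T (Nat.mul b1 20480)) cL3_pi_M1) (Nat.mul b2 160)) cL3_pi_M2) (Nat.mul (Nat.land p 31) 5)) 31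

noncomputable def cL3_tr_T : Nat := cL3_tr_p0
noncomputable def cL3_tr_M1 : Nat := Nat.sub (Nat.shiftLeft 1 28672) 1
noncomputable def cL3_tr_M2 : Nat := Nat.sub (Nat.shiftLeft 1 224) 1
noncomputable def cL3_tr (p : Nat) : Nat :=
  force (Nat.shiftRight p 12) fun b1 => force (Nat.land (Nat.shiftRight p 5) 127) fun b2 =>
    Nat.land (Nat.shiftRight (Nat.land (Nat.shiftRight (Nat.land (Nat.shiftRight cL3_tr_T (Nat.mul b1 28672)) cL3_tr_M1) (Nat.mul b2 224)) cL3_tr_M2) (Nat.mul (Nat.land p 31) 7)) 127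

noncomputable def cL3 : LevD := ⟨1, 27, 3, 25, cL3_pt, cL3_pi, cL3_tr⟩

noncomputable def ds : List LevD := [dL0, dL1, dL2, dL3, dL4]
noncomputable def cs : List LevD := [cL0, cL1, cL2, cL3]

noncomputable def FPL_T : Nat := (Nat.lor (Nat.lor (Nat.lor (Nat.lor (Nat.lor FPL_p0 (Nat.shiftLeft FPL_p1 15984)) (Nat.shiftLeft (Nat.lor FPL_p2 (Nat.shiftLeft FPL_p3 15984)) 31968)) (Nat.shiftLeft (Nat.lor (Nat.lor FPL_p4 (Nat.shiftLeft FPL_p5 15984)) (Nat.shiftLeft (Nat.lor FPL_p6 (Nat.shiftLeft (Nat.lor FPL_p7 (Nat.shiftLeft FPL_p8 15984)) 15984)) 31968)) 63936)) (Nat.shiftLeft (Nat.lor (Nat.lor (Nat.lor FPL_p9 (Nat.shiftLeft FPL_p10 15984)) (Nat.shiftLeft (Nat.lor FPL_p11 (Nat.shiftLeft FPL_p12 15984)) 31968)) (Nat.shiftLeft (Nat.lor (Nat.lor FPL_p13 (Nat.shiftLeft FPL_p14 15984)) (Nat.shiftLeft (Nat.lor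 FPL_p15 (Nat.shiftLeft (Nat.lor FPL_p16 (Nat.shiftLeft FPL_p17 15984)) 15984)) 31968)) 63936)) 143856)) (Nat.shiftLeft (Nat.lor (Nat.lor (Nat.lor (Nat.lor FPL_p18 (Nat.shiftLeft FPL_p19 15984)) (Nat.shiftLeft (Nat.lor FPL_p20 (Nat.shiftLeft FPL_p21 15984)) 31968)) (Nat.shiftLeft (Nat.lor (Nat.lor FPL_p22 (Nat.shiftLeft FPL_p23 15984)) (Nat.shiftLeft (Nat.lor FPL_p24 (Nat.shiftLeft (Nat.lor FPL_p25 (Nat.shiftLeft FPL_p26 15984)) 15984)) 31968)) 63936)) (Nat.shiftLeft (Nat.lor (Nat.lor (Nat.lor FPL_p27 (Nat.shiftLeft FPL_p28 15984)) (Nat.shiftLeft (Nat.lor FPL_p29 (Nat.shiftLeft FPL_p30 15984)) 31968)) (Nat.shiftLeft (Nat.lor (Nat.lor FPL_p31 (Nat.shiftLeft FPL_p32 15984)) (Nat.shiftLeft (Nat.lor FPL_p33 (Nat.shiftLeft (Nat.lor FPL_p34 (Nat.shiftLeft FPL_p35 15984)) 15984)) 31968)) 63936)) 143856)) 287712))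
noncomputable def FPL_M1 : Nat := Nat.sub (Nat.shiftLeft 1 73728) 1
noncomputable def FPL_M2 : Nat := Nat.sub (Nat.shiftLeft 1 576) 1
noncomputable def FPL (p : Nat) : Nat :=
  force (Nat.shiftRight p 12) fun b1 => force (Nat.land (Nat.shiftRight p 5) 127) fun b2 =>
    Nat.land (Nat.shiftRight (Nat.land (Nat.shiftRight (Nat.land (Nat.shiftRight FPL_T (Nat.mul b1 73728)) FPL_M1) (Nat.mul b2 576)) FPL_M2) (Nat.mul (Nat.land p 31) 18)) 262143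

noncomputable def DD : Frs := ⟨1, 29598, FPL, 8, 36, 7, 31671, [28172, 21948, 5414, 8366]⟩

noncomputable def SPK_T : Nat := (Nat.lor (Nat.lor (Nat.lor (Nat.lor (Nat.lor (Nat.lor (Nat.lor (Nat.lor (Nat.lor SPK_p0 (Nat.shiftLeft SPK_p1 15990)) (Nat.shiftLeft (Nat.lor SPK_p2 (Nat.shiftLeft (Nat.lor SPK_p3 (Nat.shiftLeft SPK_p4 15990)) 15990)) 31980)) (Nat.shiftLeft (Nat.lor (Nat.lor SPK_p5 (Nat.shiftLeft SPK_p6 15990)) (Nat.shiftLeft (Nat.lor SPK_p7 (Nat.shiftLeft (Nat.lor SPK_p8 (Nat.shiftLeft SPK_p9 15990)) 15990)) 31980)) 79950)) (Nat.shiftLeft (Nat.lor (Nat.lor (Nat.lor SPK_p10 (Nat.shiftLeft SPK_p11 15990)) (Nat.shiftLeft (Nat.lor SPK_p12 (Nat.shiftLeft (Nat.lor SPK_p13 (Nat.shiftLeft SPK_p14 15990)) 15990)) 31980)) (Nat.shiftLeft (Nat.lor (Nat.lor SPK_p15 (Nat.shiftLeft SPK_p16 15990)) (Nat.shiftLeft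 (Nat.lor SPK_p17 (Nat.shiftLeft (Nat.lor SPK_p18 (Nat.shiftLeft SPK_p19 15990)) 15990)) 31980)) 79950)) 159900)) (Nat.shiftLeft (Nat.lor (Nat.lor (Nat.lor (Nat.lor SPK_p20 (Nat.shiftLeft SPK_p21 15990)) (Nat.shiftLeft (Nat.lor SPK_p22 (Nat.shiftLeft (Nat.lor SPK_p23 (Nat.shiftLeft SPK_p24 15990)) 15990)) 31980)) (Nat.shiftLeft (Nat.lor (Nat.lor SPK_p25 (Nat.shiftLeft SPK_p26 15990)) (Nat.shiftLeft (Nat.lor SPK_p27 (Nat.shiftLeft (Nat.lor SPK_p28 (Nat.shiftLeft SPK_p29 15990)) 15990)) 31980)) 79950)) (Nat.shiftLeft (Nat.lor (Nat.lor (Nat.lor SPK_p30 (Nat.shiftLeft SPK_p31 15990)) (Nat.shiftLeft (Nat.lor SPK_p32 (Nat.shiftLeft (Nat.lor SPK_p33 (Nat.shiftLeft SPK_p34 15990)) 15990)) 31980)) (Nat.shiftLeft (Nat.lor (Nat.lor SPK_p35 (Nat.shiftLeft SPK_p36 15990)) (Nat.shiftLeft (Nat.lor SPK_p37 (Nat.shiftLeft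 (Nat.lor SPK_p38 (Nat.shiftLeft SPK_p39 15990)) 15990)) 31980)) 79950)) 159900)) 319800)) (Nat.shiftLeft (Nat.lor (Nat.lor (Nat.lor (Nat.lor (Nat.lor SPK_p40 (Nat.shiftLeft SPK_p41 15990)) (Nat.shiftLeft (Nat.lor SPK_p42 (Nat.shiftLeft (Nat.lor SPK_p43 (Nat.shiftLeft SPK_p44 15990)) 15990)) 31980)) (Nat.shiftLeft (Nat.lor (Nat.lor SPK_p45 (Nat.shiftLeft SPK_p46 15990)) (Nat.shiftLeft (Nat.lor SPK_p47 (Nat.shiftLeft (Nat.lor SPK_p48 (Nat.shiftLeft SPK_p49 15990)) 15990)) 31980)) 79950)) (Nat.shiftLeft (Nat.lor (Nat.lor (Nat.lor SPK_p50 (Nat.shiftLeft SPK_p51 15990)) (Nat.shiftLeft (Nat.lor SPK_p52 (Nat.shiftLeft (Nat.lor SPK_p53 (Nat.shiftLeft SPK_p54 15990)) 15990)) 31980)) (Nat.shiftLeft (Nat.lor (Nat.lor SPK_p55 (Nat.shiftLeft SPK_p56 15990)) (Nat.shiftLeft (Nat.lor SPK_p57 (Nat.shiftLeft (Nat.lor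 SPK_p58 (Nat.shiftLeft SPK_p59 15990)) 15990)) 31980)) 79950)) 159900)) (Nat.shiftLeft (Nat.lor (Nat.lor (Nat.lor (Nat.lor SPK_p60 (Nat.shiftLeft SPK_p61 15990)) (Nat.shiftLeft (Nat.lor SPK_p62 (Nat.shiftLeft (Nat.lor SPK_p63 (Nat.shiftLeft SPK_p64 15990)) 15990)) 31980)) (Nat.shiftLeft (Nat.lor (Nat.lor SPK_p65 (Nat.shiftLeft SPK_p66 15990)) (Nat.shiftLeft (Nat.lor SPK_p67 (Nat.shiftLeft (Nat.lor SPK_p68 (Nat.shiftLeft SPK_p69 15990)) 15990)) 31980)) 79950)) (Nat.shiftLeft (Nat.lor (Nat.lor (Nat.lor SPK_p70 (Nat.shiftLeft SPK_p71 15990)) (Nat.shiftLeft (Nat.lor SPK_p72 (Nat.shiftLeft (Nat.lor SPK_p73 (Nat.shiftLeft SPK_p74 15990)) 15990)) 31980)) (Nat.shiftLeft (Nat.lor (Nat.lor SPK_p75 (Nat.shiftLeft SPK_p76 15990)) (Nat.shiftLeft (Nat.lor SPK_p77 (Nat.shiftLeft (Nat.lor SPK_p78 (Nat.shiftLeft SPK_p79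 15990)) 15990)) 31980)) 79950)) 159900)) 319800)) 639600)) (Nat.shiftLeft (Nat.lor (Nat.lor (Nat.lor (Nat.lor (Nat.lor (Nat.lor SPK_p80 (Nat.shiftLeft SPK_p81 15990)) (Nat.shiftLeft (Nat.lor SPK_p82 (Nat.shiftLeft (Nat.lor SPK_p83 (Nat.shiftLeft SPK_p84 15990)) 15990)) 31980)) (Nat.shiftLeft (Nat.lor (Nat.lor SPK_p85 (Nat.shiftLeft SPK_p86 15990)) (Nat.shiftLeft (Nat.lor SPK_p87 (Nat.shiftLeft (Nat.lor SPK_p88 (Nat.shiftLeft SPK_p89 15990)) 15990)) 31980)) 79950)) (Nat.shiftLeft (Nat.lor (Nat.lor (Nat.lor SPK_p90 (Nat.shiftLeft SPK_p91 15990)) (Nat.shiftLeft (Nat.lor SPK_p92 (Nat.shiftLeft (Nat.lor SPK_p93 (Nat.shiftLeft SPK_p94 15990)) 15990)) 31980)) (Nat.shiftLeft (Nat.lor (Nat.lor SPK_p95 (Nat.shiftLeft SPK_p96 15990)) (Nat.shiftLeft (Nat.lor SPK_p97 (Nat.shiftLeft (Nat.lor SPK_p98 (Nat.shiftLeft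 SPK_p99 15990)) 15990)) 31980)) 79950)) 159900)) (Nat.shiftLeft (Nat.lor (Nat.lor (Nat.lor (Nat.lor SPK_p100 (Nat.shiftLeft SPK_p101 15990)) (Nat.shiftLeft (Nat.lor SPK_p102 (Nat.shiftLeft (Nat.lor SPK_p103 (Nat.shiftLeft SPK_p104 15990)) 15990)) 31980)) (Nat.shiftLeft (Nat.lor (Nat.lor SPK_p105 (Nat.shiftLeft SPK_p106 15990)) (Nat.shiftLeft (Nat.lor SPK_p107 (Nat.shiftLeft (Nat.lor SPK_p108 (Nat.shiftLeft SPK_p109 15990)) 15990)) 31980)) 79950)) (Nat.shiftLeft (Nat.lor (Nat.lor (Nat.lor SPK_p110 (Nat.shiftLeft SPK_p111 15990)) (Nat.shiftLeft (Nat.lor SPK_p112 (Nat.shiftLeft (Nat.lor SPK_p113 (Nat.shiftLeft SPK_p114 15990)) 15990)) 31980)) (Nat.shiftLeft (Nat.lor (Nat.lor SPK_p115 (Nat.shiftLeft SPK_p116 15990)) (Nat.shiftLeft (Nat.lor SPK_p117 (Nat.shiftLeft (Nat.lor SPK_p118 (Nat.shiftLeft SPK_p119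 15990)) 15990)) 31980)) 79950)) 159900)) 319800)) (Nat.shiftLeft (Nat.lor (Nat.lor (Nat.lor (Nat.lor (Nat.lor SPK_p120 (Nat.shiftLeft SPK_p121 15990)) (Nat.shiftLeft (Nat.lor SPK_p122 (Nat.shiftLeft (Nat.lor SPK_p123 (Nat.shiftLeft SPK_p124 15990)) 15990)) 31980)) (Nat.shiftLeft (Nat.lor (Nat.lor SPK_p125 (Nat.shiftLeft SPK_p126 15990)) (Nat.shiftLeft (Nat.lor SPK_p127 (Nat.shiftLeft (Nat.lor SPK_p128 (Nat.shiftLeft SPK_p129 15990)) 15990)) 31980)) 79950)) (Nat.shiftLeft (Nat.lor (Nat.lor (Nat.lor SPK_p130 (Nat.shiftLeft SPK_p131 15990)) (Nat.shiftLeft (Nat.lor SPK_p132 (Nat.shiftLeft (Nat.lor SPK_p133 (Nat.shiftLeft SPK_p134 15990)) 15990)) 31980)) (Nat.shiftLeft (Nat.lor (Nat.lor SPK_p135 (Nat.shiftLeft SPK_p136 15990)) (Nat.shiftLeft (Nat.lor SPK_p137 (Nat.shiftLeft (Nat.lor SPK_p138 (Nat.shiftLeft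 SPK_p139 15990)) 15990)) 31980)) 79950)) 159900)) (Nat.shiftLeft (Nat.lor (Nat.lor (Nat.lor (Nat.lor SPK_p140 (Nat.shiftLeft SPK_p141 15990)) (Nat.shiftLeft (Nat.lor SPK_p142 (Nat.shiftLeft (Nat.lor SPK_p143 (Nat.shiftLeft SPK_p144 15990)) 15990)) 31980)) (Nat.shiftLeft (Nat.lor (Nat.lor SPK_p145 (Nat.shiftLeft SPK_p146 15990)) (Nat.shiftLeft (Nat.lor SPK_p147 (Nat.shiftLeft (Nat.lor SPK_p148 (Nat.shiftLeft SPK_p149 15990)) 15990)) 31980)) 79950)) (Nat.shiftLeft (Nat.lor (Nat.lor (Nat.lor SPK_p150 (Nat.shiftLeft SPK_p151 15990)) (Nat.shiftLeft (Nat.lor SPK_p152 (Nat.shiftLeft (Nat.lor SPK_p153 (Nat.shiftLeft SPK_p154 15990)) 15990)) 31980)) (Nat.shiftLeft (Nat.lor (Nat.lor SPK_p155 (Nat.shiftLeft SPK_p156 15990)) (Nat.shiftLeft (Nat.lor SPK_p157 (Nat.shiftLeft (Nat.lor SPK_p158 (Nat.shiftLeft SPK_p159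 15990)) 15990)) 31980)) 79950)) 159900)) 319800)) 639600)) 1279200)) (Nat.shiftLeft (Nat.lor (Nat.lor (Nat.lor (Nat.lor (Nat.lor (Nat.lor (Nat.lor SPK_p160 (Nat.shiftLeft SPK_p161 15990)) (Nat.shiftLeft (Nat.lor SPK_p162 (Nat.shiftLeft (Nat.lor SPK_p163 (Nat.shiftLeft SPK_p164 15990)) 15990)) 31980)) (Nat.shiftLeft (Nat.lor (Nat.lor SPK_p165 (Nat.shiftLeft SPK_p166 15990)) (Nat.shiftLeft (Nat.lor SPK_p167 (Nat.shiftLeft (Nat.lor SPK_p168 (Nat.shiftLeft SPK_p169 15990)) 15990)) 31980)) 79950)) (Nat.shiftLeft (Nat.lor (Nat.lor (Nat.lor SPK_p170 (Nat.shiftLeft SPK_p171 15990)) (Nat.shiftLeft (Nat.lor SPK_p172 (Nat.shiftLeft (Nat.lor SPK_p173 (Nat.shiftLeft SPK_p174 15990)) 15990)) 31980)) (Nat.shiftLeft (Nat.lor (Nat.lor SPK_p175 (Nat.shiftLeft SPK_p176 15990)) (Nat.shiftLeft (Nat.lor SPK_p177 (Nat.shiftLeft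 (Nat.lor SPK_p178 (Nat.shiftLeft SPK_p179 15990)) 15990)) 31980)) 79950)) 159900)) (Nat.shiftLeft (Nat.lor (Nat.lor (Nat.lor (Nat.lor SPK_p180 (Nat.shiftLeft SPK_p181 15990)) (Nat.shiftLeft (Nat.lor SPK_p182 (Nat.shiftLeft (Nat.lor SPK_p183 (Nat.shiftLeft SPK_p184 15990)) 15990)) 31980)) (Nat.shiftLeft (Nat.lor (Nat.lor SPK_p185 (Nat.shiftLeft SPK_p186 15990)) (Nat.shiftLeft (Nat.lor SPK_p187 (Nat.shiftLeft (Nat.lor SPK_p188 (Nat.shiftLeft SPK_p189 15990)) 15990)) 31980)) 79950)) (Nat.shiftLeft (Nat.lor (Nat.lor (Nat.lor SPK_p190 (Nat.shiftLeft SPK_p191 15990)) (Nat.shiftLeft (Nat.lor SPK_p192 (Nat.shiftLeft (Nat.lor SPK_p193 (Nat.shiftLeft SPK_p194 15990)) 15990)) 31980)) (Nat.shiftLeft (Nat.lor (Nat.lor SPK_p195 (Nat.shiftLeft SPK_p196 15990)) (Nat.shiftLeft (Nat.lor SPK_p197 (Nat.shiftLeft (Nat.lor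 SPK_p198 (Nat.shiftLeft SPK_p199 15990)) 15990)) 31980)) 79950)) 159900)) 319800)) (Nat.shiftLeft (Nat.lor (Nat.lor (Nat.lor (Nat.lor (Nat.lor SPK_p200 (Nat.shiftLeft SPK_p201 15990)) (Nat.shiftLeft (Nat.lor SPK_p202 (Nat.shiftLeft (Nat.lor SPK_p203 (Nat.shiftLeft SPK_p204 15990)) 15990)) 31980)) (Nat.shiftLeft (Nat.lor (Nat.lor SPK_p205 (Nat.shiftLeft SPK_p206 15990)) (Nat.shiftLeft (Nat.lor SPK_p207 (Nat.shiftLeft (Nat.lor SPK_p208 (Nat.shiftLeft SPK_p209 15990)) 15990)) 31980)) 79950)) (Nat.shiftLeft (Nat.lor (Nat.lor (Nat.lor SPK_p210 (Nat.shiftLeft SPK_p211 15990)) (Nat.shiftLeft (Nat.lor SPK_p212 (Nat.shiftLeft (Nat.lor SPK_p213 (Nat.shiftLeft SPK_p214 15990)) 15990)) 31980)) (Nat.shiftLeft (Nat.lor (Nat.lor SPK_p215 (Nat.shiftLeft SPK_p216 15990)) (Nat.shiftLeft (Nat.lor SPK_p217 (Nat.shiftLeft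 (Nat.lor SPK_p218 (Nat.shiftLeft SPK_p219 15990)) 15990)) 31980)) 79950)) 159900)) (Nat.shiftLeft (Nat.lor (Nat.lor (Nat.lor (Nat.lor SPK_p220 (Nat.shiftLeft SPK_p221 15990)) (Nat.shiftLeft (Nat.lor SPK_p222 (Nat.shiftLeft (Nat.lor SPK_p223 (Nat.shiftLeft SPK_p224 15990)) 15990)) 31980)) (Nat.shiftLeft (Nat.lor (Nat.lor SPK_p225 (Nat.shiftLeft SPK_p226 15990)) (Nat.shiftLeft (Nat.lor SPK_p227 (Nat.shiftLeft (Nat.lor SPK_p228 (Nat.shiftLeft SPK_p229 15990)) 15990)) 31980)) 79950)) (Nat.shiftLeft (Nat.lor (Nat.lor (Nat.lor SPK_p230 (Nat.shiftLeft SPK_p231 15990)) (Nat.shiftLeft (Nat.lor SPK_p232 (Nat.shiftLeft (Nat.lor SPK_p233 (Nat.shiftLeft SPK_p234 15990)) 15990)) 31980)) (Nat.shiftLeft (Nat.lor (Nat.lor SPK_p235 (Nat.shiftLeft SPK_p236 15990)) (Nat.shiftLeft (Nat.lor SPK_p237 (Nat.shiftLeft (Nat.lor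 SPK_p238 (Nat.shiftLeft SPK_p239 15990)) 15990)) 31980)) 79950)) 159900)) 319800)) 639600)) (Nat.shiftLeft (Nat.lor (Nat.lor (Nat.lor (Nat.lor (Nat.lor (Nat.lor SPK_p240 (Nat.shiftLeft SPK_p241 15990)) (Nat.shiftLeft (Nat.lor SPK_p242 (Nat.shiftLeft (Nat.lor SPK_p243 (Nat.shiftLeft SPK_p244 15990)) 15990)) 31980)) (Nat.shiftLeft (Nat.lor (Nat.lor SPK_p245 (Nat.shiftLeft SPK_p246 15990)) (Nat.shiftLeft (Nat.lor SPK_p247 (Nat.shiftLeft (Nat.lor SPK_p248 (Nat.shiftLeft SPK_p249 15990)) 15990)) 31980)) 79950)) (Nat.shiftLeft (Nat.lor (Nat.lor (Nat.lor SPK_p250 (Nat.shiftLeft SPK_p251 15990)) (Nat.shiftLeft (Nat.lor SPK_p252 (Nat.shiftLeft (Nat.lor SPK_p253 (Nat.shiftLeft SPK_p254 15990)) 15990)) 31980)) (Nat.shiftLeft (Nat.lor (Nat.lor SPK_p255 (Nat.shiftLeft SPK_p256 15990)) (Nat.shiftLeft (Nat.lor SPK_p257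 (Nat.shiftLeft (Nat.lor SPK_p258 (Nat.shiftLeft SPK_p259 15990)) 15990)) 31980)) 79950)) 159900)) (Nat.shiftLeft (Nat.lor (Nat.lor (Nat.lor (Nat.lor SPK_p260 (Nat.shiftLeft SPK_p261 15990)) (Nat.shiftLeft (Nat.lor SPK_p262 (Nat.shiftLeft (Nat.lor SPK_p263 (Nat.shiftLeft SPK_p264 15990)) 15990)) 31980)) (Nat.shiftLeft (Nat.lor (Nat.lor SPK_p265 (Nat.shiftLeft SPK_p266 15990)) (Nat.shiftLeft (Nat.lor SPK_p267 (Nat.shiftLeft (Nat.lor SPK_p268 (Nat.shiftLeft SPK_p269 15990)) 15990)) 31980)) 79950)) (Nat.shiftLeft (Nat.lor (Nat.lor (Nat.lor SPK_p270 (Nat.shiftLeft SPK_p271 15990)) (Nat.shiftLeft (Nat.lor SPK_p272 (Nat.shiftLeft (Nat.lor SPK_p273 (Nat.shiftLeft SPK_p274 15990)) 15990)) 31980)) (Nat.shiftLeft (Nat.lor (Nat.lor SPK_p275 (Nat.shiftLeft SPK_p276 15990)) (Nat.shiftLeft (Nat.lor SPK_p277 (Nat.shiftLeft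 (Nat.lor SPK_p278 (Nat.shiftLeft SPK_p279 15990)) 15990)) 31980)) 79950)) 159900)) 319800)) (Nat.shiftLeft (Nat.lor (Nat.lor (Nat.lor (Nat.lor (Nat.lor SPK_p280 (Nat.shiftLeft SPK_p281 15990)) (Nat.shiftLeft (Nat.lor SPK_p282 (Nat.shiftLeft (Nat.lor SPK_p283 (Nat.shiftLeft SPK_p284 15990)) 15990)) 31980)) (Nat.shiftLeft (Nat.lor (Nat.lor SPK_p285 (Nat.shiftLeft SPK_p286 15990)) (Nat.shiftLeft (Nat.lor SPK_p287 (Nat.shiftLeft (Nat.lor SPK_p288 (Nat.shiftLeft SPK_p289 15990)) 15990)) 31980)) 79950)) (Nat.shiftLeft (Nat.lor (Nat.lor (Nat.lor SPK_p290 (Nat.shiftLeft SPK_p291 15990)) (Nat.shiftLeft (Nat.lor SPK_p292 (Nat.shiftLeft (Nat.lor SPK_p293 (Nat.shiftLeft SPK_p294 15990)) 15990)) 31980)) (Nat.shiftLeft (Nat.lor (Nat.lor SPK_p295 (Nat.shiftLeft SPK_p296 15990)) (Nat.shiftLeft (Nat.lor SPK_p297 (Nat.shiftLeft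 (Nat.lor SPK_p298 (Nat.shiftLeft SPK_p299 15990)) 15990)) 31980)) 79950)) 159900)) (Nat.shiftLeft (Nat.lor (Nat.lor (Nat.lor (Nat.lor SPK_p300 (Nat.shiftLeft SPK_p301 15990)) (Nat.shiftLeft (Nat.lor SPK_p302 (Nat.shiftLeft (Nat.lor SPK_p303 (Nat.shiftLeft SPK_p304 15990)) 15990)) 31980)) (Nat.shiftLeft (Nat.lor (Nat.lor SPK_p305 (Nat.shiftLeft SPK_p306 15990)) (Nat.shiftLeft (Nat.lor SPK_p307 (Nat.shiftLeft (Nat.lor SPK_p308 (Nat.shiftLeft SPK_p309 15990)) 15990)) 31980)) 79950)) (Nat.shiftLeft (Nat.lor (Nat.lor (Nat.lor SPK_p310 (Nat.shiftLeft SPK_p311 15990)) (Nat.shiftLeft (Nat.lor SPK_p312 (Nat.shiftLeft (Nat.lor SPK_p313 (Nat.shiftLeft SPK_p314 15990)) 15990)) 31980)) (Nat.shiftLeft (Nat.lor (Nat.lor SPK_p315 (Nat.shiftLeft SPK_p316 15990)) (Nat.shiftLeft (Nat.lor SPK_p317 (Nat.shiftLeft (Nat.lor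 SPK_p318 (Nat.shiftLeft SPK_p319 15990)) 15990)) 31980)) 79950)) 159900)) 319800)) 639600)) 1279200)) 2558400)) (Nat.shiftLeft (Nat.lor (Nat.lor (Nat.lor (Nat.lor (Nat.lor (Nat.lor (Nat.lor (Nat.lor SPK_p320 (Nat.shiftLeft SPK_p321 15990)) (Nat.shiftLeft (Nat.lor SPK_p322 (Nat.shiftLeft (Nat.lor SPK_p323 (Nat.shiftLeft SPK_p324 15990)) 15990)) 31980)) (Nat.shiftLeft (Nat.lor (Nat.lor SPK_p325 (Nat.shiftLeft SPK_p326 15990)) (Nat.shiftLeft (Nat.lor SPK_p327 (Nat.shiftLeft (Nat.lor SPK_p328 (Nat.shiftLeft SPK_p329 15990)) 15990)) 31980)) 79950)) (Nat.shiftLeft (Nat.lor (Nat.lor (Nat.lor SPK_p330 (Nat.shiftLeft SPK_p331 15990)) (Nat.shiftLeft (Nat.lor SPK_p332 (Nat.shiftLeft (Nat.lor SPK_p333 (Nat.shiftLeft SPK_p334 15990)) 15990)) 31980)) (Nat.shiftLeft (Nat.lor (Nat.lor SPK_p335 (Nat.shiftLeft SPK_p336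 15990)) (Nat.shiftLeft (Nat.lor SPK_p337 (Nat.shiftLeft (Nat.lor SPK_p338 (Nat.shiftLeft SPK_p339 15990)) 15990)) 31980)) 79950)) 159900)) (Nat.shiftLeft (Nat.lor (Nat.lor (Nat.lor (Nat.lor SPK_p340 (Nat.shiftLeft SPK_p341 15990)) (Nat.shiftLeft (Nat.lor SPK_p342 (Nat.shiftLeft (Nat.lor SPK_p343 (Nat.shiftLeft SPK_p344 15990)) 15990)) 31980)) (Nat.shiftLeft (Nat.lor (Nat.lor SPK_p345 (Nat.shiftLeft SPK_p346 15990)) (Nat.shiftLeft (Nat.lor SPK_p347 (Nat.shiftLeft (Nat.lor SPK_p348 (Nat.shiftLeft SPK_p349 15990)) 15990)) 31980)) 79950)) (Nat.shiftLeft (Nat.lor (Nat.lor (Nat.lor SPK_p350 (Nat.shiftLeft SPK_p351 15990)) (Nat.shiftLeft (Nat.lor SPK_p352 (Nat.shiftLeft (Nat.lor SPK_p353 (Nat.shiftLeft SPK_p354 15990)) 15990)) 31980)) (Nat.shiftLeft (Nat.lor (Nat.lor SPK_p355 (Nat.shiftLeft SPK_p356 15990))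 (Nat.shiftLeft (Nat.lor SPK_p357 (Nat.shiftLeft (Nat.lor SPK_p358 (Nat.shiftLeft SPK_p359 15990)) 15990)) 31980)) 79950)) 159900)) 319800)) (Nat.shiftLeft (Nat.lor (Nat.lor (Nat.lor (Nat.lor (Nat.lor SPK_p360 (Nat.shiftLeft SPK_p361 15990)) (Nat.shiftLeft (Nat.lor SPK_p362 (Nat.shiftLeft (Nat.lor SPK_p363 (Nat.shiftLeft SPK_p364 15990)) 15990)) 31980)) (Nat.shiftLeft (Nat.lor (Nat.lor SPK_p365 (Nat.shiftLeft SPK_p366 15990)) (Nat.shiftLeft (Nat.lor SPK_p367 (Nat.shiftLeft (Nat.lor SPK_p368 (Nat.shiftLeft SPK_p369 15990)) 15990)) 31980)) 79950)) (Nat.shiftLeft (Nat.lor (Nat.lor (Nat.lor SPK_p370 (Nat.shiftLeft SPK_p371 15990)) (Nat.shiftLeft (Nat.lor SPK_p372 (Nat.shiftLeft (Nat.lor SPK_p373 (Nat.shiftLeft SPK_p374 15990)) 15990)) 31980)) (Nat.shiftLeft (Nat.lor (Nat.lor SPK_p375 (Nat.shiftLeft SPK_p376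 15990)) (Nat.shiftLeft (Nat.lor SPK_p377 (Nat.shiftLeft (Nat.lor SPK_p378 (Nat.shiftLeft SPK_p379 15990)) 15990)) 31980)) 79950)) 159900)) (Nat.shiftLeft (Nat.lor (Nat.lor (Nat.lor (Nat.lor SPK_p380 (Nat.shiftLeft SPK_p381 15990)) (Nat.shiftLeft (Nat.lor SPK_p382 (Nat.shiftLeft (Nat.lor SPK_p383 (Nat.shiftLeft SPK_p384 15990)) 15990)) 31980)) (Nat.shiftLeft (Nat.lor (Nat.lor SPK_p385 (Nat.shiftLeft SPK_p386 15990)) (Nat.shiftLeft (Nat.lor SPK_p387 (Nat.shiftLeft (Nat.lor SPK_p388 (Nat.shiftLeft SPK_p389 15990)) 15990)) 31980)) 79950)) (Nat.shiftLeft (Nat.lor (Nat.lor (Nat.lor SPK_p390 (Nat.shiftLeft SPK_p391 15990)) (Nat.shiftLeft (Nat.lor SPK_p392 (Nat.shiftLeft (Nat.lor SPK_p393 (Nat.shiftLeft SPK_p394 15990)) 15990)) 31980)) (Nat.shiftLeft (Nat.lor (Nat.lor SPK_p395 (Nat.shiftLeft SPK_p396 15990))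 (Nat.shiftLeft (Nat.lor SPK_p397 (Nat.shiftLeft (Nat.lor SPK_p398 (Nat.shiftLeft SPK_p399 15990)) 15990)) 31980)) 79950)) 159900)) 319800)) 639600)) (Nat.shiftLeft (Nat.lor (Nat.lor (Nat.lor (Nat.lor (Nat.lor (Nat.lor SPK_p400 (Nat.shiftLeft SPK_p401 15990)) (Nat.shiftLeft (Nat.lor SPK_p402 (Nat.shiftLeft (Nat.lor SPK_p403 (Nat.shiftLeft SPK_p404 15990)) 15990)) 31980)) (Nat.shiftLeft (Nat.lor (Nat.lor SPK_p405 (Nat.shiftLeft SPK_p406 15990)) (Nat.shiftLeft (Nat.lor SPK_p407 (Nat.shiftLeft (Nat.lor SPK_p408 (Nat.shiftLeft SPK_p409 15990)) 15990)) 31980)) 79950)) (Nat.shiftLeft (Nat.lor (Nat.lor (Nat.lor SPK_p410 (Nat.shiftLeft SPK_p411 15990)) (Nat.shiftLeft (Nat.lor SPK_p412 (Nat.shiftLeft (Nat.lor SPK_p413 (Nat.shiftLeft SPK_p414 15990)) 15990)) 31980)) (Nat.shiftLeft (Nat.lor (Nat.lor SPK_p415 (Nat.shiftLeft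 SPK_p416 15990)) (Nat.shiftLeft (Nat.lor SPK_p417 (Nat.shiftLeft (Nat.lor SPK_p418 (Nat.shiftLeft SPK_p419 15990)) 15990)) 31980)) 79950)) 159900)) (Nat.shiftLeft (Nat.lor (Nat.lor (Nat.lor (Nat.lor SPK_p420 (Nat.shiftLeft SPK_p421 15990)) (Nat.shiftLeft (Nat.lor SPK_p422 (Nat.shiftLeft (Nat.lor SPK_p423 (Nat.shiftLeft SPK_p424 15990)) 15990)) 31980)) (Nat.shiftLeft (Nat.lor (Nat.lor SPK_p425 (Nat.shiftLeft SPK_p426 15990)) (Nat.shiftLeft (Nat.lor SPK_p427 (Nat.shiftLeft (Nat.lor SPK_p428 (Nat.shiftLeft SPK_p429 15990)) 15990)) 31980)) 79950)) (Nat.shiftLeft (Nat.lor (Nat.lor (Nat.lor SPK_p430 (Nat.shiftLeft SPK_p431 15990)) (Nat.shiftLeft (Nat.lor SPK_p432 (Nat.shiftLeft (Nat.lor SPK_p433 (Nat.shiftLeft SPK_p434 15990)) 15990)) 31980)) (Nat.shiftLeft (Nat.lor (Nat.lor SPK_p435 (Nat.shiftLeft SPK_p436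 15990)) (Nat.shiftLeft (Nat.lor SPK_p437 (Nat.shiftLeft (Nat.lor SPK_p438 (Nat.shiftLeft SPK_p439 15990)) 15990)) 31980)) 79950)) 159900)) 319800)) (Nat.shiftLeft (Nat.lor (Nat.lor (Nat.lor (Nat.lor (Nat.lor SPK_p440 (Nat.shiftLeft SPK_p441 15990)) (Nat.shiftLeft (Nat.lor SPK_p442 (Nat.shiftLeft (Nat.lor SPK_p443 (Nat.shiftLeft SPK_p444 15990)) 15990)) 31980)) (Nat.shiftLeft (Nat.lor (Nat.lor SPK_p445 (Nat.shiftLeft SPK_p446 15990)) (Nat.shiftLeft (Nat.lor SPK_p447 (Nat.shiftLeft (Nat.lor SPK_p448 (Nat.shiftLeft SPK_p449 15990)) 15990)) 31980)) 79950)) (Nat.shiftLeft (Nat.lor (Nat.lor (Nat.lor SPK_p450 (Nat.shiftLeft SPK_p451 15990)) (Nat.shiftLeft (Nat.lor SPK_p452 (Nat.shiftLeft (Nat.lor SPK_p453 (Nat.shiftLeft SPK_p454 15990)) 15990)) 31980)) (Nat.shiftLeft (Nat.lor (Nat.lor SPK_p455 (Nat.shiftLeft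 SPK_p456 15990)) (Nat.shiftLeft (Nat.lor SPK_p457 (Nat.shiftLeft (Nat.lor SPK_p458 (Nat.shiftLeft SPK_p459 15990)) 15990)) 31980)) 79950)) 159900)) (Nat.shiftLeft (Nat.lor (Nat.lor (Nat.lor (Nat.lor SPK_p460 (Nat.shiftLeft SPK_p461 15990)) (Nat.shiftLeft (Nat.lor SPK_p462 (Nat.shiftLeft (Nat.lor SPK_p463 (Nat.shiftLeft SPK_p464 15990)) 15990)) 31980)) (Nat.shiftLeft (Nat.lor (Nat.lor SPK_p465 (Nat.shiftLeft SPK_p466 15990)) (Nat.shiftLeft (Nat.lor SPK_p467 (Nat.shiftLeft (Nat.lor SPK_p468 (Nat.shiftLeft SPK_p469 15990)) 15990)) 31980)) 79950)) (Nat.shiftLeft (Nat.lor (Nat.lor (Nat.lor SPK_p470 (Nat.shiftLeft SPK_p471 15990)) (Nat.shiftLeft (Nat.lor SPK_p472 (Nat.shiftLeft (Nat.lor SPK_p473 (Nat.shiftLeft SPK_p474 15990)) 15990)) 31980)) (Nat.shiftLeft (Nat.lor (Nat.lor SPK_p475 (Nat.shiftLeft SPK_p476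 15990)) (Nat.shiftLeft (Nat.lor SPK_p477 (Nat.shiftLeft (Nat.lor SPK_p478 (Nat.shiftLeft SPK_p479 15990)) 15990)) 31980)) 79950)) 159900)) 319800)) 639600)) 1279200)) (Nat.shiftLeft (Nat.lor (Nat.lor (Nat.lor (Nat.lor (Nat.lor (Nat.lor (Nat.lor SPK_p480 (Nat.shiftLeft SPK_p481 15990)) (Nat.shiftLeft (Nat.lor SPK_p482 (Nat.shiftLeft (Nat.lor SPK_p483 (Nat.shiftLeft SPK_p484 15990)) 15990)) 31980)) (Nat.shiftLeft (Nat.lor (Nat.lor SPK_p485 (Nat.shiftLeft SPK_p486 15990)) (Nat.shiftLeft (Nat.lor SPK_p487 (Nat.shiftLeft (Nat.lor SPK_p488 (Nat.shiftLeft SPK_p489 15990)) 15990)) 31980)) 79950)) (Nat.shiftLeft (Nat.lor (Nat.lor (Nat.lor SPK_p490 (Nat.shiftLeft SPK_p491 15990)) (Nat.shiftLeft (Nat.lor SPK_p492 (Nat.shiftLeft (Nat.lor SPK_p493 (Nat.shiftLeft SPK_p494 15990)) 15990)) 31980)) (Nat.shiftLeft (Nat.lor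 (Nat.lor SPK_p495 (Nat.shiftLeft SPK_p496 15990)) (Nat.shiftLeft (Nat.lor SPK_p497 (Nat.shiftLeft (Nat.lor SPK_p498 (Nat.shiftLeft SPK_p499 15990)) 15990)) 31980)) 79950)) 159900)) (Nat.shiftLeft (Nat.lor (Nat.lor (Nat.lor (Nat.lor SPK_p500 (Nat.shiftLeft SPK_p501 15990)) (Nat.shiftLeft (Nat.lor SPK_p502 (Nat.shiftLeft (Nat.lor SPK_p503 (Nat.shiftLeft SPK_p504 15990)) 15990)) 31980)) (Nat.shiftLeft (Nat.lor (Nat.lor SPK_p505 (Nat.shiftLeft SPK_p506 15990)) (Nat.shiftLeft (Nat.lor SPK_p507 (Nat.shiftLeft (Nat.lor SPK_p508 (Nat.shiftLeft SPK_p509 15990)) 15990)) 31980)) 79950)) (Nat.shiftLeft (Nat.lor (Nat.lor (Nat.lor SPK_p510 (Nat.shiftLeft SPK_p511 15990)) (Nat.shiftLeft (Nat.lor SPK_p512 (Nat.shiftLeft (Nat.lor SPK_p513 (Nat.shiftLeft SPK_p514 15990)) 15990)) 31980)) (Nat.shiftLeft (Nat.lor (Nat.lor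 SPK_p515 (Nat.shiftLeft SPK_p516 15990)) (Nat.shiftLeft (Nat.lor SPK_p517 (Nat.shiftLeft (Nat.lor SPK_p518 (Nat.shiftLeft SPK_p519 15990)) 15990)) 31980)) 79950)) 159900)) 319800)) (Nat.shiftLeft (Nat.lor (Nat.lor (Nat.lor (Nat.lor (Nat.lor SPK_p520 (Nat.shiftLeft SPK_p521 15990)) (Nat.shiftLeft (Nat.lor SPK_p522 (Nat.shiftLeft (Nat.lor SPK_p523 (Nat.shiftLeft SPK_p524 15990)) 15990)) 31980)) (Nat.shiftLeft (Nat.lor (Nat.lor SPK_p525 (Nat.shiftLeft SPK_p526 15990)) (Nat.shiftLeft (Nat.lor SPK_p527 (Nat.shiftLeft (Nat.lor SPK_p528 (Nat.shiftLeft SPK_p529 15990)) 15990)) 31980)) 79950)) (Nat.shiftLeft (Nat.lor (Nat.lor (Nat.lor SPK_p530 (Nat.shiftLeft SPK_p531 15990)) (Nat.shiftLeft (Nat.lor SPK_p532 (Nat.shiftLeft (Nat.lor SPK_p533 (Nat.shiftLeft SPK_p534 15990)) 15990)) 31980)) (Nat.shiftLeft (Nat.lor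 (Nat.lor SPK_p535 (Nat.shiftLeft SPK_p536 15990)) (Nat.shiftLeft (Nat.lor SPK_p537 (Nat.shiftLeft (Nat.lor SPK_p538 (Nat.shiftLeft SPK_p539 15990)) 15990)) 31980)) 79950)) 159900)) (Nat.shiftLeft (Nat.lor (Nat.lor (Nat.lor (Nat.lor SPK_p540 (Nat.shiftLeft SPK_p541 15990)) (Nat.shiftLeft (Nat.lor SPK_p542 (Nat.shiftLeft (Nat.lor SPK_p543 (Nat.shiftLeft SPK_p544 15990)) 15990)) 31980)) (Nat.shiftLeft (Nat.lor (Nat.lor SPK_p545 (Nat.shiftLeft SPK_p546 15990)) (Nat.shiftLeft (Nat.lor SPK_p547 (Nat.shiftLeft (Nat.lor SPK_p548 (Nat.shiftLeft SPK_p549 15990)) 15990)) 31980)) 79950)) (Nat.shiftLeft (Nat.lor (Nat.lor (Nat.lor SPK_p550 (Nat.shiftLeft SPK_p551 15990)) (Nat.shiftLeft (Nat.lor SPK_p552 (Nat.shiftLeft (Nat.lor SPK_p553 (Nat.shiftLeft SPK_p554 15990)) 15990)) 31980)) (Nat.shiftLeft (Nat.lor (Nat.lor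 SPK_p555 (Nat.shiftLeft SPK_p556 15990)) (Nat.shiftLeft (Nat.lor SPK_p557 (Nat.shiftLeft (Nat.lor SPK_p558 (Nat.shiftLeft SPK_p559 15990)) 15990)) 31980)) 79950)) 159900)) 319800)) 639600)) (Nat.shiftLeft (Nat.lor (Nat.lor (Nat.lor (Nat.lor (Nat.lor (Nat.lor SPK_p560 (Nat.shiftLeft SPK_p561 15990)) (Nat.shiftLeft (Nat.lor SPK_p562 (Nat.shiftLeft (Nat.lor SPK_p563 (Nat.shiftLeft SPK_p564 15990)) 15990)) 31980)) (Nat.shiftLeft (Nat.lor (Nat.lor SPK_p565 (Nat.shiftLeft SPK_p566 15990)) (Nat.shiftLeft (Nat.lor SPK_p567 (Nat.shiftLeft (Nat.lor SPK_p568 (Nat.shiftLeft SPK_p569 15990)) 15990)) 31980)) 79950)) (Nat.shiftLeft (Nat.lor (Nat.lor (Nat.lor SPK_p570 (Nat.shiftLeft SPK_p571 15990)) (Nat.shiftLeft (Nat.lor SPK_p572 (Nat.shiftLeft (Nat.lor SPK_p573 (Nat.shiftLeft SPK_p574 15990)) 15990)) 31980)) (Nat.shiftLeft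 (Nat.lor (Nat.lor SPK_p575 (Nat.shiftLeft SPK_p576 15990)) (Nat.shiftLeft (Nat.lor SPK_p577 (Nat.shiftLeft (Nat.lor SPK_p578 (Nat.shiftLeft SPK_p579 15990)) 15990)) 31980)) 79950)) 159900)) (Nat.shiftLeft (Nat.lor (Nat.lor (Nat.lor (Nat.lor SPK_p580 (Nat.shiftLeft SPK_p581 15990)) (Nat.shiftLeft (Nat.lor SPK_p582 (Nat.shiftLeft (Nat.lor SPK_p583 (Nat.shiftLeft SPK_p584 15990)) 15990)) 31980)) (Nat.shiftLeft (Nat.lor (Nat.lor SPK_p585 (Nat.shiftLeft SPK_p586 15990)) (Nat.shiftLeft (Nat.lor SPK_p587 (Nat.shiftLeft (Nat.lor SPK_p588 (Nat.shiftLeft SPK_p589 15990)) 15990)) 31980)) 79950)) (Nat.shiftLeft (Nat.lor (Nat.lor (Nat.lor SPK_p590 (Nat.shiftLeft SPK_p591 15990)) (Nat.shiftLeft (Nat.lor SPK_p592 (Nat.shiftLeft (Nat.lor SPK_p593 (Nat.shiftLeft SPK_p594 15990)) 15990)) 31980)) (Nat.shiftLeft (Nat.lor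 (Nat.lor SPK_p595 (Nat.shiftLeft SPK_p596 15990)) (Nat.shiftLeft (Nat.lor SPK_p597 (Nat.shiftLeft (Nat.lor SPK_p598 (Nat.shiftLeft SPK_p599 15990)) 15990)) 31980)) 79950)) 159900)) 319800)) (Nat.shiftLeft (Nat.lor (Nat.lor (Nat.lor (Nat.lor (Nat.lor SPK_p600 (Nat.shiftLeft SPK_p601 15990)) (Nat.shiftLeft (Nat.lor SPK_p602 (Nat.shiftLeft (Nat.lor SPK_p603 (Nat.shiftLeft SPK_p604 15990)) 15990)) 31980)) (Nat.shiftLeft (Nat.lor (Nat.lor SPK_p605 (Nat.shiftLeft SPK_p606 15990)) (Nat.shiftLeft (Nat.lor SPK_p607 (Nat.shiftLeft (Nat.lor SPK_p608 (Nat.shiftLeft SPK_p609 15990)) 15990)) 31980)) 79950)) (Nat.shiftLeft (Nat.lor (Nat.lor (Nat.lor SPK_p610 (Nat.shiftLeft SPK_p611 15990)) (Nat.shiftLeft (Nat.lor SPK_p612 (Nat.shiftLeft (Nat.lor SPK_p613 (Nat.shiftLeft SPK_p614 15990)) 15990)) 31980)) (Nat.shiftLeft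 (Nat.lor (Nat.lor SPK_p615 (Nat.shiftLeft SPK_p616 15990)) (Nat.shiftLeft (Nat.lor SPK_p617 (Nat.shiftLeft (Nat.lor SPK_p618 (Nat.shiftLeft SPK_p619 15990)) 15990)) 31980)) 79950)) 159900)) (Nat.shiftLeft (Nat.lor (Nat.lor (Nat.lor (Nat.lor SPK_p620 (Nat.shiftLeft SPK_p621 15990)) (Nat.shiftLeft (Nat.lor SPK_p622 (Nat.shiftLeft (Nat.lor SPK_p623 (Nat.shiftLeft SPK_p624 15990)) 15990)) 31980)) (Nat.shiftLeft (Nat.lor (Nat.lor SPK_p625 (Nat.shiftLeft SPK_p626 15990)) (Nat.shiftLeft (Nat.lor SPK_p627 (Nat.shiftLeft (Nat.lor SPK_p628 (Nat.shiftLeft SPK_p629 15990)) 15990)) 31980)) 79950)) (Nat.shiftLeft (Nat.lor (Nat.lor (Nat.lor SPK_p630 (Nat.shiftLeft SPK_p631 15990)) (Nat.shiftLeft (Nat.lor SPK_p632 (Nat.shiftLeft (Nat.lor SPK_p633 (Nat.shiftLeft SPK_p634 15990)) 15990)) 31980)) (Nat.shiftLeft (Nat.lor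 (Nat.lor SPK_p635 (Nat.shiftLeft SPK_p636 15990)) (Nat.shiftLeft (Nat.lor SPK_p637 (Nat.shiftLeft (Nat.lor SPK_p638 (Nat.shiftLeft SPK_p639 15990)) 15990)) 31980)) 79950)) 159900)) 319800)) 639600)) 1279200)) 2558400)) 5116800))
noncomputable def SPK_M1 : Nat := Nat.sub (Nat.shiftLeft 1 159744) 1
noncomputable def SPK_M2 : Nat := Nat.sub (Nat.shiftLeft 1 1248) 1
noncomputable def SPK (p : Nat) : Nat :=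
  force (Nat.shiftRight p 12) fun b1 => force (Nat.land (Nat.shiftRight p 5) 127) fun b2 =>
    Nat.land (Nat.shiftRight (Nat.land (Nat.shiftRight (Nat.land (Nat.shiftRight SPK_T (Nat.mul b1 159744)) SPK_M1) (Nat.mul b2 1248)) SPK_M2) (Nat.mul (Nat.land p 31) 39)) 549755813887

noncomputable def SCN_T : Nat := SCN_p0
noncomputable def SCN_M1 : Nat := Nat.sub (Nat.shiftLeft 1 69632) 1
noncomputable def SCN_M2 : Nat := Nat.sub (Nat.shiftLeft 1 544) 1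
noncomputable def SCN (p : Nat) : Nat :=
  force (Nat.shiftRight p 12) fun b1 => force (Nat.land (Nat.shiftRight p 5) 127) fun b2 =>
    Nat.land (Nat.shiftRight (Nat.land (Nat.shiftRight (Nat.land (Nat.shiftRight SCN_T (Nat.mul b1 69632)) SCN_M1) (Nat.mul b2 544)) SCN_M2) (Nat.mul (Nat.land p 31) 17)) 131071

noncomputable def WPT_T : Nat := WPT_p0
noncomputable def WPT_M1 : Nat := Nat.sub (Nat.shiftLeft 1 61440) 1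
noncomputable def WPT_M2 : Nat := Nat.sub (Nat.shiftLeft 1 480) 1
noncomputable def WPT (p : Nat) : Nat :=
  force (Nat.shiftRight p 12) fun b1 => force (Nat.land (Nat.shiftRight p 5) 127) fun b2 =>
    Nat.land (Nat.shiftRight (Nat.land (Nat.shiftRight (Nat.land (Nat.shiftRight WPT_T (Nat.mul b1 61440)) WPT_M1) (Nat.mul b2 480)) WPT_M2) (Nat.mul (Nat.land p 31) 15)) 32767

noncomputable def WPI_T : Nat := (Nat.lor (Nat.lor (Nat.lor (Nat.lor (Nat.lor WPI_p0 (Nat.shiftLeft (Nat.lor WPI_p1 (Nat.shiftLeft WPI_p2 15993)) 15993)) (Nat.shiftLeft (Nat.lor WPI_p3 (Nat.shiftLeft (Nat.lor WPI_p4 (Nat.shiftLeft WPI_p5 15993)) 15993)) 47979)) (Nat.shiftLeft (Nat.lor (Nat.lor WPI_p6 (Nat.shiftLeft (Nat.lor WPI_p7 (Nat.shiftLeft WPI_p8 15993)) 15993)) (Nat.shiftLeft (Nat.lor (Nat.lor WPI_p9 (Nat.shiftLeft WPI_p10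 15993)) (Nat.shiftLeft (Nat.lor WPI_p11 (Nat.shiftLeft WPI_p12 15993)) 31986)) 47979)) 95958)) (Nat.shiftLeft (Nat.lor (Nat.lor (Nat.lor WPI_p13 (Nat.shiftLeft (Nat.lor WPI_p14 (Nat.shiftLeft WPI_p15 15993)) 15993)) (Nat.shiftLeft (Nat.lor (Nat.lor WPI_p16 (Nat.shiftLeft WPI_p17 15993)) (Nat.shiftLeft (Nat.lor WPI_p18 (Nat.shiftLeft WPI_p19 15993)) 31986)) 47979)) (Nat.shiftLeft (Nat.lor (Nat.lor WPI_p20 (Nat.shiftLeft (Nat.lor WPI_p21 (Nat.shiftLeft WPI_p22 15993)) 15993)) (Nat.shiftLeft (Nat.lor (Nat.lor WPI_p23 (Nat.shiftLeft WPI_p24 15993)) (Nat.shiftLeft (Nat.lor WPI_p25 (Nat.shiftLeft WPI_p26 15993)) 31986)) 47979)) 111951)) 207909)) (Nat.shiftLeft (Nat.lor (Nat.lor (Nat.lor (Nat.lor WPI_p27 (Nat.shiftLeft (Nat.lor WPI_p28 (Nat.shiftLeft WPI_p29 15993)) 15993)) (Nat.shiftLeft (Nat.lor WPI_p30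 (Nat.shiftLeft (Nat.lor WPI_p31 (Nat.shiftLeft WPI_p32 15993)) 15993)) 47979)) (Nat.shiftLeft (Nat.lor (Nat.lor WPI_p33 (Nat.shiftLeft (Nat.lor WPI_p34 (Nat.shiftLeft WPI_p35 15993)) 15993)) (Nat.shiftLeft (Nat.lor (Nat.lor WPI_p36 (Nat.shiftLeft WPI_p37 15993)) (Nat.shiftLeft (Nat.lor WPI_p38 (Nat.shiftLeft WPI_p39 15993)) 31986)) 47979)) 95958)) (Nat.shiftLeft (Nat.lor (Nat.lor (Nat.lor WPI_p40 (Nat.shiftLeft (Nat.lor WPI_p41 (Nat.shiftLeft WPI_p42 15993)) 15993)) (Nat.shiftLeft (Nat.lor (Nat.lor WPI_p43 (Nat.shiftLeft WPI_p44 15993)) (Nat.shiftLeft (Nat.lor WPI_p45 (Nat.shiftLeft WPI_p46 15993)) 31986)) 47979)) (Nat.shiftLeft (Nat.lor (Nat.lor WPI_p47 (Nat.shiftLeft (Nat.lor WPI_p48 (Nat.shiftLeft WPI_p49 15993)) 15993)) (Nat.shiftLeft (Nat.lor (Nat.lor WPI_p50 (Nat.shiftLeft WPI_p51 15993)) (Nat.shiftLeft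 (Nat.lor WPI_p52 (Nat.shiftLeft WPI_p53 15993)) 31986)) 47979)) 111951)) 207909)) 431811))
noncomputable def WPI_M1 : Nat := Nat.sub (Nat.shiftLeft 1 36864) 1
noncomputable def WPI_M2 : Nat := Nat.sub (Nat.shiftLeft 1 288) 1
noncomputable def WPI (p : Nat) : Nat :=
  force (Nat.shiftRight p 12) fun b1 => force (Nat.land (Nat.shiftRight p 5) 127) fun b2 =>
    Nat.land (Nat.shiftRight (Nat.land (Nat.shiftRight (Nat.land (Nat.shiftRight WPI_T (Nat.mul b1 36864)) WPI_M1) (Nat.mul b2 288)) WPI_M2) (Nat.mul (Nat.land p 31) 9)) 511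

def sqL : List Nat := [0, 0, 1, 0, 0, 0, 0, 0, 8, 88, 8, 0, 0, 0, 0, 0, 10496, 90456]
def wlL : List Nat := [0, 0, 0, 1, 1, 1, 1, 1, 1, 1, 1, 2, 2, 2, 2, 2, 2, 2]
def wsL : List Nat := [1, 2, 4, 1, 2, 4, 8, 16, 32, 64, 128, 1, 2, 4, 8, 16, 32, 64]
def wbL : List Nat := [224, 1, 0]
def wmL : List Nat := [8, 256, 128]
noncomputable def SS : PcD where
  off := 44
  a := 18
  sq := fun k => sqL.getD k 0
  cn := SCN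
  wl := fun k => wlL.getD k 0
  ws := fun k => wsL.getD k 0
  wb := fun k => wbL.getD k 0
  wpt := fun l i => WPT (Nat.add (Nat.mul l 256) i)
  wpi := fun l q => WPI (Nat.add (Nat.mul l 31671) q)
  wm := fun k => wmL.getD k 0
  lv := 3
  pk := SPK

noncomputable def OPL0_T : Nat := (Nat.lor (Nat.lor (Nat.lor (Nat.lor (Nat.lor OPL0_p0 (Nat.shiftLeft OPL0_p1 15984)) (Nat.shiftLeft (Nat.lor OPL0_p2 (Nat.shiftLeft OPL0_p3 15984)) 31968)) (Nat.shiftLeft (Nat.lor (Nat.lor OPL0_p4 (Nat.shiftLeft OPL0_p5 15984)) (Nat.shiftLeft (Nat.lor OPL0_p6 (Nat.shiftLeft (Nat.lor OPL0_p7 (Nat.shiftLeft OPL0_p8 15984)) 15984)) 31968)) 63936)) (Nat.shiftLeft (Nat.lor (Nat.lor (Nat.lor OPL0_p9 (Nat.shiftLeft OPL0_p10 15984)) (Nat.shiftLeft (Nat.lor OPL0_p11 (Nat.shiftLeft OPL0_p12 15984)) 31968)) (Nat.shiftLeft (Nat.lor (Nat.lor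 OPL0_p13 (Nat.shiftLeft OPL0_p14 15984)) (Nat.shiftLeft (Nat.lor OPL0_p15 (Nat.shiftLeft (Nat.lor OPL0_p16 (Nat.shiftLeft OPL0_p17 15984)) 15984)) 31968)) 63936)) 143856)) (Nat.shiftLeft (Nat.lor (Nat.lor (Nat.lor (Nat.lor OPL0_p18 (Nat.shiftLeft OPL0_p19 15984)) (Nat.shiftLeft (Nat.lor OPL0_p20 (Nat.shiftLeft OPL0_p21 15984)) 31968)) (Nat.shiftLeft (Nat.lor (Nat.lor OPL0_p22 (Nat.shiftLeft OPL0_p23 15984)) (Nat.shiftLeft (Nat.lor OPL0_p24 (Nat.shiftLeft (Nat.lor OPL0_p25 (Nat.shiftLeft OPL0_p26 15984)) 15984)) 31968)) 63936)) (Nat.shiftLeft (Nat.lor (Nat.lor (Nat.lor OPL0_p27 (Nat.shiftLeft OPL0_p28 15984)) (Nat.shiftLeft (Nat.lor OPL0_p29 (Nat.shiftLeft OPL0_p30 15984)) 31968)) (Nat.shiftLeft (Nat.lor (Nat.lor OPL0_p31 (Nat.shiftLeft OPL0_p32 15984)) (Nat.shiftLeft (Nat.lor OPL0_p33 (Nat.shiftLeft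 (Nat.lor OPL0_p34 (Nat.shiftLeft OPL0_p35 15984)) 15984)) 31968)) 63936)) 143856)) 287712))
noncomputable def OPL0_M1 : Nat := Nat.sub (Nat.shiftLeft 1 73728) 1
noncomputable def OPL0_M2 : Nat := Nat.sub (Nat.shiftLeft 1 576) 1
noncomputable def OPL0 (p : Nat) : Nat :=
  force (Nat.shiftRight p 12) fun b1 => force (Nat.land (Nat.shiftRight p 5) 127) fun b2 =>
    Nat.land (Nat.shiftRight (Nat.land (Nat.shiftRight (Nat.land (Nat.shiftRight OPL0_T (Nat.mul b1 73728)) OPL0_M1) (Nat.mul b2 576)) OPL0_M2) (Nat.mul (Nat.land p 31) 18)) 262143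

noncomputable def OO0 : Frs := ⟨63, 14079, OPL0, 8, 36, 6, 31675, [3799, 12094, 15065]⟩

noncomputable def OPL1_T : Nat := (Nat.lor (Nat.lor (Nat.lor (Nat.lor (Nat.lor OPL1_p0 (Nat.shiftLeft OPL1_p1 15984)) (Nat.shiftLeft (Nat.lor OPL1_p2 (Nat.shiftLeft OPL1_p3 15984)) 31968)) (Nat.shiftLeft (Nat.lor (Nat.lor OPL1_p4 (Nat.shiftLeft OPL1_p5 15984)) (Nat.shiftLeft (Nat.lor OPL1_p6 (Nat.shiftLeft (Nat.lor OPL1_p7 (Nat.shiftLeft OPL1_p8 15984)) 15984)) 31968)) 63936)) (Nat.shiftLeft (Nat.lor (Nat.lor (Nat.lor OPL1_p9 (Nat.shiftLeft OPL1_p10 15984)) (Nat.shiftLeft (Nat.lor OPL1_p11 (Nat.shiftLeft OPL1_p12 15984)) 31968)) (Nat.shiftLeft (Nat.lor (Nat.lor OPL1_p13 (Nat.shiftLeft OPL1_p14 15984)) (Nat.shiftLeft (Nat.lor OPL1_p15 (Nat.shiftLeft (Nat.lor OPL1_p16 (Nat.shiftLeft OPL1_p17 15984)) 15984)) 31968))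 63936)) 143856)) (Nat.shiftLeft (Nat.lor (Nat.lor (Nat.lor (Nat.lor OPL1_p18 (Nat.shiftLeft OPL1_p19 15984)) (Nat.shiftLeft (Nat.lor OPL1_p20 (Nat.shiftLeft OPL1_p21 15984)) 31968)) (Nat.shiftLeft (Nat.lor (Nat.lor OPL1_p22 (Nat.shiftLeft OPL1_p23 15984)) (Nat.shiftLeft (Nat.lor OPL1_p24 (Nat.shiftLeft (Nat.lor OPL1_p25 (Nat.shiftLeft OPL1_p26 15984)) 15984)) 31968)) 63936)) (Nat.shiftLeft (Nat.lor (Nat.lor (Nat.lor OPL1_p27 (Nat.shiftLeft OPL1_p28 15984)) (Nat.shiftLeft (Nat.lor OPL1_p29 (Nat.shiftLeft OPL1_p30 15984)) 31968)) (Nat.shiftLeft (Nat.lor (Nat.lor OPL1_p31 (Nat.shiftLeft OPL1_p32 15984)) (Nat.shiftLeft (Nat.lor OPL1_p33 (Nat.shiftLeft (Nat.lor OPL1_p34 (Nat.shiftLeft OPL1_p35 15984)) 15984)) 31968)) 63936)) 143856)) 287712))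
noncomputable def OPL1_M1 : Nat := Nat.sub (Nat.shiftLeft 1 73728) 1
noncomputable def OPL1_M2 : Nat := Nat.sub (Nat.shiftLeft 1 576) 1
noncomputable def OPL1 (p : Nat) : Nat :=
  force (Nat.shiftRight p 12) fun b1 => force (Nat.land (Nat.shiftRight p 5) 127) fun b2 =>
    Nat.land (Nat.shiftRight (Nat.land (Nat.shiftRight (Nat.land (Nat.shiftRight OPL1_T (Nat.mul b1 73728)) OPL1_M1) (Nat.mul b2 576)) OPL1_M2) (Nat.mul (Nat.land p 31) 18)) 262143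

noncomputable def OO1 : Frs := ⟨64, 7639, OPL1, 8, 36, 6, 31674, [9959, 14745, 14203]⟩

noncomputable def Os : List Frs := [OO0, OO1]

def wdsL : List (List Nat) := [
  [],
  [10, 11, 8, 7, 6, 6, 6, 7, 8, 7, 5, 4, 5, 4, 5, 4, 4, 4, 5, 4, 4, 4, 5, 2, 2, 2, 2, 2, 2, 2, 2, 3, 2, 3, 3, 2, 0, 1, 0, 0, 0, 0, 0, 0, 1, 0, 1, 0, 1, 0, 0, 1, 0, 1, 0, 1, 0, 1],
  [9, 9, 10, 10, 11, 8, 8, 6, 6, 6, 7, 7, 5, 4, 5, 4, 4, 4, 4, 4, 4, 5, 5, 4, 4, 5, 2, 3, 3, 2, 3, 3, 2, 2, 1, 0, 1, 0, 1, 0, 1, 0, 1, 0, 0, 1, 0, 1, 0, 0, 0, 0, 1],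
  [],
  [9, 10, 10, 7, 6, 8, 6, 8, 6, 8, 5, 4, 5, 5, 4, 4, 4, 4, 5, 4, 5, 5, 4, 3, 2, 2, 2, 3, 3, 3, 3, 3, 2, 2, 2, 3, 2, 3, 0, 1, 0, 1, 0, 0, 0, 0, 1, 0, 0, 1, 0, 0, 0, 1, 0, 0, 0, 0, 0, 0, 0],
  [9, 11, 7, 8, 8, 8, 6, 8, 7, 6, 6, 4, 4, 4, 5, 4, 4, 4, 4, 5, 5, 5, 5, 4, 5, 4, 3, 3, 2, 3, 2, 2, 2, 2, 3, 3, 3, 2, 1, 0, 0, 0, 0, 0, 1, 0, 1, 0, 1, 0, 0, 1, 0, 0, 0, 1],
  [9, 11, 11, 7, 6, 6, 6, 7, 6, 6, 8, 5, 5, 5, 4, 5, 5, 5, 4, 5, 4, 4, 4, 5, 5, 2, 3, 3, 2, 2, 2, 2, 2, 3, 2, 3, 3, 3, 2, 0, 0, 0, 0, 0, 0, 1, 0, 0, 0, 0, 1, 0, 0, 0, 1, 0, 1, 0, 0],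
  [10, 10, 6, 6, 8, 6, 6, 8, 8, 7, 8, 5, 4, 4, 4, 5, 5, 5, 4, 5, 5, 4, 4, 2, 3, 3, 3, 3, 2, 3, 3, 2, 3, 3, 2, 2, 3, 3, 1, 0, 1, 0, 0, 1, 0, 0, 0, 0, 0, 1, 0, 1, 0, 1, 0, 0, 0, 0, 1, 0],
  [10, 11, 8, 6, 7, 6, 6, 7, 7, 7, 4, 5, 5, 5, 5, 4, 5, 4, 5, 4, 5, 5, 3, 2, 2, 3, 3, 2, 2, 2, 2, 3, 2, 2, 3, 0, 0, 0, 0, 0, 0, 0, 1, 0, 1, 0, 0, 0, 0, 0, 0, 0, 0, 1],
  [9, 9, 10, 11, 7, 6, 6, 6, 6, 7, 8, 6, 8, 4, 5, 5, 4, 5, 4, 4, 4, 4, 4, 5, 4, 4, 2, 2, 2, 2, 3, 3, 2, 3, 2, 3, 3, 2, 3, 2, 2, 0, 1, 0, 0, 0, 1, 0, 1, 0, 0, 0, 1, 0, 0, 0, 0, 0, 0, 0, 0, 1],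
  [9, 11, 7, 7, 8, 8, 6, 6, 6, 7, 5, 4, 5, 5, 5, 4, 5, 4, 4, 5, 5, 5, 3, 2, 3, 3, 2, 2, 3, 3, 2, 2, 2, 2, 3, 0, 1, 0, 0, 0, 0, 0, 0, 0, 1, 0, 0, 0, 1, 0, 1, 0, 1],
  [9, 11, 11, 6, 7, 7, 7, 6, 6, 8, 5, 5, 4, 5, 4, 4, 4, 4, 5, 5, 5, 4, 5, 2, 3, 3, 3, 2, 2, 3, 3, 2, 2, 3, 3, 3, 1, 0, 1, 0, 0, 0, 0, 1, 0, 0, 1, 0, 0, 1, 0, 1, 0, 0, 0, 0, 1, 0, 1, 0],
  [9, 10, 6, 6, 7, 8, 7, 8, 8, 4, 4, 5, 4, 4, 4, 5, 4, 4, 5, 5, 4, 4, 5, 5, 3, 3, 2, 3, 3, 2, 2, 2, 3, 3, 3, 3, 2, 2, 3, 1, 0, 0, 0, 0, 0, 0, 0, 1, 0, 1, 0, 0, 0, 1, 0, 1, 0, 0, 0],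
  [10, 10, 11, 11, 7, 8, 6, 7, 7, 6, 6, 5, 4, 4, 5, 4, 5, 5, 4, 5, 5, 4, 5, 3, 2, 2, 2, 2, 2, 2, 2, 2, 3, 3, 2, 2, 2, 0, 1, 0, 1, 0, 1, 0, 1, 0, 0, 1, 0, 1, 0, 1, 0, 0, 0],
  [11, 6, 7, 7, 8, 7, 6, 7, 7, 4, 4, 4, 4, 4, 4, 4, 5, 4, 5, 4, 5, 5, 4, 2, 2, 3, 3, 2, 3, 3, 3, 2, 2, 3, 2, 2, 0, 1, 0, 1, 0, 1, 0, 0, 1, 0, 1, 0, 0, 1, 0, 1, 0, 0, 0, 1, 0, 0, 0],
  [8, 8, 7, 8, 6, 6, 6, 8, 4, 4, 5, 5, 4, 4, 5, 4, 4, 4, 4, 5, 5, 4, 2, 2, 3, 2, 3, 2, 3, 2, 3, 2, 3, 3, 2, 3, 3, 0, 0, 0, 0, 1, 0, 1, 0, 0, 0, 1, 0, 1, 0, 0, 0, 0, 0, 1],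
  [8, 7, 7, 6, 8, 8, 6, 8, 4, 4, 4, 5, 5, 4, 4, 5, 5, 4, 5, 4, 4, 4, 5, 2, 3, 3, 3, 3, 2, 2, 2, 2, 3, 3, 2, 3, 2, 3, 1, 0, 0, 0, 0, 0, 0, 0, 0, 0, 0, 0, 1, 0, 1, 0, 1, 0, 0, 0, 0],
  [10, 11, 6, 7, 8, 7, 6, 7, 6, 7, 8, 4, 5, 5, 5, 5, 5, 4, 5, 5, 4, 5, 5, 5, 5, 3, 3, 2, 3, 3, 2, 3, 2, 3, 2, 2, 3, 3, 2, 0, 1, 0, 0, 0, 0, 1, 0, 0, 1, 0, 0, 0, 1, 0, 0, 0, 1, 0, 1, 0, 0, 1, 0, 1],
  [9, 9, 10, 7, 7, 7, 7, 8, 6, 8, 8, 5, 4, 5, 4, 4, 4, 5, 5, 4, 2, 3, 2, 3, 2, 3, 2, 2, 2, 3, 3, 3, 3, 3, 2, 0, 0, 1, 0, 1, 0, 0, 0, 0, 0, 1, 0],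
  [10, 10, 8, 6, 7, 8, 8, 8, 7, 6, 5, 5, 5, 4, 5, 4, 5, 4, 5, 5, 3, 3, 2, 2, 2, 3, 2, 3, 3, 3, 3, 3, 3, 1, 0, 0, 1, 0, 0, 0, 0, 0, 0, 0, 0, 0, 0, 0, 0, 0, 0, 0, 1],
  [9, 10, 11, 7, 8, 7, 8, 7, 6, 4, 4, 4, 4, 4, 4, 4, 5, 5, 5, 4, 4, 5, 2, 3, 3, 3, 2, 3, 2, 3, 3, 2, 3, 3, 2, 3, 0, 1, 0, 0, 1, 0, 1, 0, 0, 0, 1, 0, 0, 0, 0, 1, 0, 1, 0, 1, 0, 0, 0],
  [8, 7, 6, 7, 7, 6, 8, 6, 4, 5, 4, 5, 5, 5, 4, 4, 4, 4, 5, 5, 5, 4, 2, 2, 3, 3, 2, 3, 3, 3, 2, 2, 2, 2, 2, 3, 3, 0, 0, 0, 0, 0, 0, 1, 0, 1, 0, 0, 0, 0, 0, 0, 0, 0, 0, 0, 1, 0],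
  [11, 11, 7, 8, 8, 8, 6, 6, 7, 4, 5, 5, 5, 4, 4, 5, 4, 4, 5, 5, 5, 4, 2, 2, 3, 2, 3, 3, 2, 2, 2, 2, 2, 3, 2, 2, 2, 0, 0, 1, 0, 0, 0, 0, 1, 0, 0, 1, 0, 1, 0, 0, 0],
  [9, 10, 10, 11, 11, 6, 6, 6, 7, 7, 6, 8, 6, 6, 6, 5, 4, 4, 4, 4, 5, 5, 4, 4, 5, 4, 5, 5, 5, 4, 3, 3, 2, 2, 3, 3, 3, 3, 2, 3, 3, 3, 2, 3, 1, 0, 1, 0, 1, 0, 0, 0, 0, 0, 0, 0, 0, 0, 1, 0, 0, 0, 0, 0, 0, 1, 0, 1, 0],
  [11, 11, 6, 8, 8, 8, 6, 6, 6, 4, 5, 4, 5, 5, 5, 5, 5, 4, 5, 4, 3, 3, 3, 2, 2, 3, 2, 3, 3, 3, 2, 3, 2, 2, 3, 2, 1, 0, 0, 0, 1, 0, 1, 0, 0, 0, 0, 0, 1, 0, 0, 0, 1, 0, 0, 1],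
  [9, 10, 10, 11, 8, 7, 6, 6, 8, 6, 8, 7, 6, 5, 5, 4, 4, 5, 5, 4, 5, 5, 5, 5, 3, 3, 2, 2, 3, 2, 2, 3, 3, 3, 3, 3, 2, 3, 0, 0, 1, 0, 0, 0, 1, 0, 0, 0, 0, 1, 0, 0, 0, 0, 1, 0, 0, 0, 1, 0, 0],
  [10, 10, 11, 11, 8, 6, 6, 6, 7, 7, 6, 6, 5, 5, 4, 4, 5, 5, 4, 4, 5, 4, 4, 2, 2, 2, 3, 3, 2, 3, 2, 3, 2, 2, 3, 2, 3, 3, 0, 0, 0, 0, 0, 1, 0, 0, 1, 0, 1, 0, 0],
  [10, 11, 7, 8, 6, 8, 7, 6, 6, 6, 4, 4, 5, 5, 5, 5, 5, 4, 5, 4, 5, 2, 2, 3, 3, 3, 2, 3, 2, 3, 3, 3, 2, 2, 3, 3, 2, 1, 0, 0, 1, 0, 0, 1, 0, 0, 1, 0, 0, 0, 0, 0, 1, 0, 0, 0, 0, 0, 0],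
  [9, 9, 10, 6, 7, 7, 7, 8, 8, 7, 7, 8, 4, 4, 5, 4, 4, 5, 4, 5, 5, 4, 4, 5, 4, 4, 5, 3, 3, 2, 2, 3, 3, 3, 3, 3, 3, 2, 2, 1, 0, 1, 0, 0, 0, 0, 0, 1, 0, 0, 0, 1, 0, 1, 0, 1, 0, 0],
  [9, 9, 10, 10, 11, 8, 8, 6, 7, 6, 8, 8, 6, 6, 5, 4, 4, 5, 4, 5, 5, 4, 4, 4, 3, 2, 2, 2, 3, 3, 2, 3, 3, 3, 2, 3, 2, 2, 1, 0, 0, 1, 0, 0, 0, 0, 0, 0, 0, 0, 0, 1, 0, 1, 0, 1, 0, 0, 0],
  [9, 10, 6, 7, 7, 7, 6, 8, 6, 5, 4, 5, 4, 4, 5, 4, 4, 4, 4, 4, 4, 5, 4, 2, 3, 3, 2, 3, 3, 3, 2, 3, 2, 3, 3, 2, 0, 0, 0, 0, 0, 0, 0, 1, 0, 0, 0, 0, 0, 0, 0, 0, 0, 1, 0, 1],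
  [9, 10, 11, 11, 6, 8, 8, 8, 8, 7, 7, 8, 7, 5, 5, 5, 5, 4, 5, 5, 4, 5, 4, 5, 4, 5, 5, 5, 2, 2, 2, 2, 3, 3, 3, 2, 3, 2, 3, 3, 2, 3, 0, 1, 0, 0, 1, 0, 0, 1, 0, 1, 0, 0, 0, 0, 0, 0, 1, 0, 1, 0],
  [9, 10, 10, 11, 7, 6, 7, 6, 7, 6, 6, 4, 4, 5, 4, 4, 5, 4, 4, 5, 4, 4, 4, 5, 3, 3, 2, 3, 2, 3, 3, 3, 2, 3, 3, 3, 1, 0, 1, 0, 0, 1, 0, 1, 0, 1, 0, 0],
  [9, 9, 8, 7, 8, 7, 7, 8, 7, 4, 4, 5, 5, 4, 4, 5, 5, 5, 5, 5, 4, 4, 4, 5, 2, 2, 2, 2, 2, 3, 3, 3, 3, 2, 3, 3, 2, 2, 3, 2, 0, 0, 0, 1, 0, 0, 1, 0, 0, 1, 0, 0, 1, 0],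
  [10, 10, 7, 6, 7, 7, 6, 8, 8, 7, 8, 4, 4, 5, 4, 5, 4, 4, 5, 4, 4, 4, 5, 4, 4, 2, 2, 2, 2, 2, 3, 2, 2, 3, 2, 2, 2, 2, 3, 2, 0, 1, 0, 1, 0, 0, 1, 0, 1, 0, 1, 0, 0, 0, 0, 0],
  [9, 10, 11, 11, 8, 8, 6, 6, 7, 7, 6, 6, 6, 5, 4, 4, 4, 5, 5, 5, 4, 5, 5, 2, 2, 3, 2, 2, 3, 2, 2, 3, 3, 3, 2, 2, 2, 0, 1, 0, 0, 0, 0, 1, 0, 0, 0, 0, 1, 0, 1, 0, 0, 1],
  [9, 9, 10, 10, 11, 11, 8, 6, 8, 7, 8, 7, 5, 4, 5, 4, 5, 4, 5, 5, 5, 4, 4, 4, 4, 4, 3, 2, 3, 2, 2, 3, 3, 2, 2, 2, 3, 2, 2, 2, 0, 1, 0, 0, 0, 1, 0, 1, 0, 0, 0, 1, 0, 0, 0, 0, 0, 0, 0, 0, 0, 0, 0],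
  [10, 7, 7, 7, 7, 6, 7, 7, 7, 8, 4, 5, 5, 5, 5, 5, 4, 5, 5, 4, 4, 3, 3, 3, 3, 3, 2, 2, 3, 3, 3, 2, 3, 3, 3, 1, 0, 0, 0, 0, 0, 0, 1, 0, 0, 0, 0, 0, 0, 0, 0, 0, 0, 0, 1, 0, 0, 1],
  [9, 8, 8, 6, 8, 8, 8, 6, 6, 5, 4, 4, 4, 4, 5, 5, 5, 4, 5, 4, 5, 2, 2, 2, 3, 3, 2, 3, 2, 2, 3, 1, 0, 1, 0, 0, 0, 0, 0, 1, 0, 0, 1, 0, 1, 0, 0, 1, 0, 0],
  [9, 11, 8, 8, 6, 8, 8, 8, 8, 6, 5, 5, 5, 5, 5, 5, 4, 5, 4, 4, 5, 4, 5, 2, 2, 2, 2, 3, 2, 2, 2, 3, 3, 3, 2, 3, 0, 1, 0, 0, 0, 1, 0, 1, 0, 0, 0, 0, 1, 0, 0, 0, 0, 0, 0, 1],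
  [9, 9, 10, 11, 6, 6, 6, 7, 6, 7, 7, 8, 6, 4, 5, 4, 4, 5, 5, 4, 5, 5, 5, 5, 4, 5, 5, 4, 3, 3, 2, 2, 3, 3, 2, 2, 2, 3, 2, 2, 2, 3, 0, 0, 1, 0, 0, 1, 0, 0, 0, 0, 0, 0, 0, 0, 0, 0, 1],
  [8, 6, 8, 6, 6, 8, 7, 6, 4, 4, 5, 4, 4, 5, 4, 5, 4, 4, 5, 4, 5, 4, 2, 2, 2, 2, 2, 3, 2, 3, 2, 3, 2, 2, 2, 3, 2, 0, 1, 0, 0, 0, 1, 0, 1, 0, 0, 1, 0, 0, 0, 0, 0],
  [9, 9, 10, 10, 11, 11, 6, 7, 8, 8, 8, 7, 6, 4, 4, 5, 4, 5, 4, 4, 5, 5, 5, 4, 3, 2, 3, 3, 3, 3, 3, 2, 2, 3, 2, 3, 2, 2, 0, 1, 0, 1, 0, 0, 0, 0, 1, 0, 0, 0, 0, 0, 1, 0, 1, 0, 1, 0, 0, 0, 0],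
  [9, 11, 7, 6, 7, 6, 8, 8, 8, 8, 4, 4, 4, 4, 5, 5, 5, 5, 4, 4, 4, 4, 5, 3, 2, 2, 3, 3, 2, 2, 2, 3, 3, 3, 0, 0, 1, 0, 0, 0, 1, 0, 0, 0, 0, 1, 0, 1, 0, 1, 0, 1, 0],
  [11, 11, 6, 7, 6, 6, 7, 6, 7, 6, 6, 8, 4, 4, 5, 5, 4, 5, 4, 5, 4, 5, 4, 3, 3, 2, 3, 3, 2, 2, 2, 2, 3, 3, 2, 1, 0, 0, 0, 0, 0, 1, 0, 0, 0, 1, 0, 0, 1, 0, 0, 1, 0, 0, 0, 0, 0],
  [9, 10, 10, 11, 8, 7, 6, 7, 8, 8, 7, 4, 5, 4, 4, 5, 5, 5, 4, 5, 5, 5, 5, 4, 2, 2, 2, 3, 3, 3, 3, 3, 3, 2, 2, 3, 2, 2, 3, 0, 0, 0, 0, 0, 0, 0, 0, 1, 0, 0, 1, 0, 0, 1, 0, 0, 1, 0],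
  [11, 11, 7, 8, 6, 8, 7, 7, 8, 4, 5, 4, 4, 4, 5, 4, 5, 4, 5, 4, 4, 4, 2, 2, 3, 3, 3, 3, 2, 2, 3, 3, 3, 3, 3, 2, 2, 2, 2, 0, 1, 0, 1, 0, 0, 0, 1, 0, 0, 0, 1, 0, 1, 0, 0, 1, 0, 1, 0],
  [9, 11, 11, 8, 8, 6, 4, 4, 4, 4, 4, 4, 4, 5, 4, 5, 5, 4, 5, 4, 5, 3, 2, 2, 2, 2, 2, 3, 3, 2, 3, 2, 2, 2, 0, 0, 0, 0, 0, 1, 0, 0, 1, 0, 0, 0, 0, 1, 0, 0, 0, 1, 0, 1, 0, 0, 0],
  [11, 6, 6, 7, 7, 7, 7, 7, 6, 7, 4, 4, 5, 4, 4, 4, 4, 4, 4, 4, 5, 4, 2, 2, 3, 2, 2, 2, 3, 3, 3, 3, 3, 3, 2, 0, 0, 0, 0, 1, 0, 0, 0, 1, 0, 1, 0, 0, 0, 0, 1, 0, 1],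
  [9, 10, 10, 6, 6, 8, 8, 8, 7, 8, 6, 6, 5, 5, 5, 5, 4, 4, 4, 5, 5, 4, 5, 5, 5, 4, 2, 3, 3, 3, 3, 2, 3, 2, 2, 3, 3, 3, 3, 2, 0, 0, 0, 0, 1, 0, 1, 0, 0, 0, 1, 0, 0, 0, 0, 0, 1, 0, 0, 1, 0, 1],
  [9, 9, 10, 10, 11, 11, 6, 7, 7, 6, 6, 8, 8, 6, 4, 5, 4, 4, 5, 5, 4, 5, 5, 5, 5, 5, 3, 2, 2, 2, 2, 2, 3, 3, 2, 3, 3, 3, 3, 2, 3, 0, 1, 0, 1, 0, 1, 0, 1, 0, 1, 0, 0, 0, 0, 1, 0, 1, 0, 1, 0, 0, 1, 0],
  [11, 8, 8, 8, 7, 7, 8, 4, 5, 5, 4, 5, 5, 4, 4, 5, 5, 4, 4, 5, 4, 2, 3, 2, 3, 2, 3, 2, 2, 2, 3, 3, 2, 3, 1, 0, 1, 0, 1, 0, 0, 0, 0, 0, 1, 0, 1, 0, 0, 0, 0],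
  [9, 7, 7, 8, 7, 7, 8, 4, 5, 4, 5, 5, 5, 4, 4, 4, 2, 3, 2, 2, 2, 2, 3, 3, 3, 2, 3, 3, 0, 1, 0, 1, 0, 0, 1, 0, 0, 1, 0, 1, 0, 0, 0, 0, 0, 0, 1, 0, 1],
  [9, 10, 10, 6, 6, 7, 6, 6, 7, 7, 8, 5, 4, 5, 5, 5, 4, 5, 5, 4, 4, 5, 4, 5, 5, 2, 3, 2, 2, 2, 2, 2, 3, 2, 1, 0, 0, 0, 0, 0, 0, 1, 0, 0, 1, 0, 1, 0, 1, 0, 0, 1],
  [10, 10, 7, 6, 6, 6, 8, 7, 8, 4, 4, 4, 4, 5, 4, 5, 5, 5, 5, 4, 5, 4, 5, 2, 2, 3, 2, 3, 3, 2, 2, 3, 2, 2, 2, 3, 3, 3, 3, 0, 0, 0, 0, 0, 1, 0, 0, 0, 0, 0, 0, 1, 0, 1, 0, 0, 1, 0, 0, 0, 0],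
  [9, 6, 8, 8, 7, 7, 7, 4, 4, 5, 4, 4, 5, 5, 4, 4, 4, 5, 4, 4, 4, 5, 3, 3, 3, 2, 3, 3, 2, 3, 2, 3, 2, 3, 0, 0, 1, 0, 0, 1, 0, 1, 0, 0, 0, 0, 0, 0, 1, 0, 1, 0, 1, 0, 0],
  [9, 9, 11, 8, 6, 6, 8, 7, 7, 6, 6, 8, 5, 4, 5, 5, 5, 5, 4, 4, 4, 4, 4, 5, 4, 5, 3, 3, 3, 3, 3, 3, 2, 2, 3, 2, 3, 3, 0, 0, 1, 0, 1, 0, 0, 1, 0, 0, 1, 0, 0, 0, 1, 0, 0, 0, 1],
  [9, 9, 7, 6, 7, 7, 8, 7, 8, 8, 6, 4, 4, 5, 4, 5, 5, 4, 4, 5, 4, 4, 5, 5, 4, 2, 2, 2, 2, 3, 3, 3, 2, 3, 2, 2, 2, 2, 3, 1, 0, 1, 0, 0, 0, 0, 0, 0, 0, 0, 1, 0, 1, 0, 1, 0, 0, 1, 0, 1, 0],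
  [9, 9, 10, 10, 11, 11, 8, 6, 6, 6, 6, 8, 6, 7, 4, 4, 4, 5, 5, 4, 4, 5, 5, 5, 5, 4, 5, 5, 5, 2, 2, 2, 3, 3, 2, 2, 2, 2, 2, 2, 3, 2, 3, 2, 2, 0, 0, 1, 0, 0, 0, 0, 0, 1, 0, 0, 0, 0, 0, 0, 0, 0, 1, 0, 1],
  [10, 6, 6, 8, 7, 8, 7, 8, 6, 5, 4, 4, 5, 5, 4, 4, 4, 5, 5, 4, 5, 4, 5, 4, 2, 2, 3, 3, 2, 3, 2, 2, 3, 3, 3, 3, 2, 2, 0, 1, 0, 1, 0, 1, 0, 0, 1, 0, 0, 1, 0, 1],
  [9, 9, 10, 10, 11, 11, 7, 6, 7, 7, 6, 6, 7, 4, 4, 4, 4, 4, 4, 5, 4, 5, 5, 5, 4, 4, 4, 3, 2, 2, 2, 3, 2, 2, 3, 2, 3, 3, 0, 1, 0, 0, 0, 0, 0, 0, 0, 1, 0, 1, 0, 1, 0, 0, 0, 0, 1, 0, 0, 0, 0],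
  [9, 10, 10, 11, 6, 6, 6, 8, 8, 6, 6, 6, 8, 4, 4, 5, 4, 4, 4, 5, 5, 5, 4, 5, 5, 5, 5, 3, 2, 3, 2, 3, 3, 2, 2, 2, 3, 3, 3, 3, 3, 2, 2, 0, 0, 1, 0, 1, 0, 1, 0, 1, 0, 0, 0, 0, 1, 0, 0, 0, 1, 0],
  [9, 9, 10, 10, 6, 6, 6, 6, 6, 7, 8, 5, 5, 5, 4, 5, 4, 5, 4, 4, 4, 4, 3, 3, 2, 2, 3, 2, 3, 3, 2, 3, 3, 3, 2, 3, 0, 0, 1, 0, 1, 0, 0, 1, 0, 0, 0, 1, 0],
  [9, 10, 11, 6, 8, 8, 6, 7, 7, 8, 7, 6, 5, 4, 5, 5, 5, 5, 2, 3, 2, 2, 2, 3, 2, 3, 2, 2, 2, 3, 3, 2, 0, 0, 1, 0, 0, 0, 1, 0, 1, 0, 0, 0],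
  [9, 9, 10, 10, 6, 7, 7, 8, 7, 8, 6, 7, 4, 5, 4, 4, 4, 5, 5, 4, 5, 4, 5, 4, 3, 2, 2, 3, 2, 2, 3, 3, 3, 3, 2, 0, 1, 0, 0, 0, 0, 1, 0, 0, 0, 1],
  [11, 11, 8, 6, 6, 8, 7, 8, 6, 4, 4, 5, 4, 4, 5, 5, 5, 5, 4, 4, 4, 5, 4, 3, 2, 2, 2, 2, 3, 3, 3, 3, 3, 2, 2, 2, 2, 3, 3, 0, 0, 1, 0, 0, 1, 0, 1, 0, 0, 1, 0, 1, 0, 0, 0, 0, 0, 0, 0],
  [11, 6, 6, 8, 8, 8, 6, 8, 7, 8, 5, 5, 5, 5, 5, 4, 5, 5, 5, 5, 5, 5, 3, 3, 2, 2, 2, 3, 2, 3, 2, 3, 3, 2, 3, 2, 2, 1, 0, 0, 0, 1, 0, 1, 0, 1, 0, 1, 0, 0, 0, 0, 0, 0, 0, 0, 1],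
  [10, 10, 8, 6, 6, 6, 7, 7, 4, 4, 5, 5, 5, 4, 4, 5, 4, 5, 5, 4, 5, 4, 2, 2, 3, 2, 2, 2, 2, 3, 3, 3, 2, 2, 3, 3, 2, 1, 0, 0, 0, 0, 0, 0, 1, 0, 0, 0, 0, 0, 1, 0, 0, 0, 1],
  [9, 9, 11, 6, 7, 7, 7, 8, 8, 8, 8, 4, 5, 4, 4, 5, 5, 5, 4, 5, 5, 4, 5, 4, 4, 4, 2, 2, 2, 3, 2, 3, 0, 0, 1, 0, 1, 0, 0, 0, 0, 0, 1, 0, 0, 0, 0, 1, 0, 0, 0, 0],
  [9, 11, 11, 7, 8, 6, 7, 7, 8, 6, 7, 4, 4, 5, 5, 4, 5, 4, 4, 5, 4, 5, 4, 4, 4, 3, 3, 2, 3, 3, 3, 3, 3, 3, 2, 2, 2, 3, 2, 0, 0, 1, 0, 1, 0, 1, 0, 1, 0, 0, 0, 0, 0, 1, 0, 0, 0],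
  [9, 9, 10, 11, 11, 8, 6, 8, 6, 6, 4, 4, 5, 4, 4, 5, 4, 4, 5, 5, 4, 4, 5, 5, 2, 3, 3, 2, 2, 3, 3, 3, 2, 2, 3, 2, 3, 2, 3, 1, 0, 1, 0, 0, 1, 0, 0, 1, 0, 0, 0, 1, 0, 0, 1, 0, 0, 0, 1, 0, 1],
  [10, 11, 8, 8, 7, 8, 8, 6, 7, 5, 5, 4, 5, 4, 5, 5, 5, 5, 4, 4, 5, 4, 3, 3, 3, 2, 2, 2, 2, 2, 3, 3, 2, 3, 1, 0, 1, 0, 1, 0, 0, 0, 0, 1, 0, 1, 0, 1, 0, 0, 1, 0, 1],
  [9, 9, 11, 6, 7, 6, 8, 8, 8, 7, 6, 5, 5, 5, 4, 5, 5, 5, 4, 5, 5, 5, 4, 4, 5, 2, 2, 2, 3, 3, 3, 2, 2, 2, 2, 3, 2, 2, 2, 3, 3, 1, 0, 0, 1, 0, 0, 0, 1, 0, 0, 1, 0, 1, 0, 0, 0, 1, 0, 0, 1, 0],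
  [9, 9, 10, 10, 7, 6, 8, 8, 7, 7, 8, 6, 4, 4, 5, 4, 4, 5, 4, 5, 4, 4, 4, 5, 4, 5, 5, 2, 3, 2, 3, 3, 3, 2, 3, 2, 3, 3, 3, 3, 0, 1, 0, 0, 0, 0, 0, 0, 0, 1, 0, 0, 1, 0, 0, 0, 1],
  [10, 10, 11, 6, 7, 7, 6, 6, 7, 6, 5, 4, 4, 5, 4, 4, 4, 4, 5, 5, 5, 4, 4, 4, 4, 2, 3, 2, 2, 2, 3, 2, 3, 2, 2, 2, 2, 2, 3, 3, 3, 0, 1, 0, 0, 0, 1, 0, 1, 0, 0, 0, 1, 0, 0, 0, 0, 0, 0, 1, 0, 1, 0],
  [9, 9, 10, 10, 11, 11, 8, 7, 7, 6, 7, 6, 4, 4, 4, 4, 5, 4, 5, 4, 4, 5, 5, 5, 5, 5, 5, 2, 3, 2, 3, 2, 3, 2, 3, 2, 3, 2, 3, 3, 0, 0, 1, 0, 1, 0, 0, 0, 0, 1, 0, 0, 0, 0, 0, 0, 0, 0, 1, 0],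
  [10, 10, 7, 7, 8, 8, 6, 6, 8, 8, 4, 5, 4, 5, 5, 5, 4, 4, 5, 4, 4, 5, 5, 4, 2, 2, 2, 2, 3, 3, 3, 2, 3, 3, 3, 2, 2, 2, 2, 3, 0, 0, 1, 0, 1, 0, 0, 0, 0, 0, 1, 0, 0, 0, 0, 1, 0, 0, 1, 0, 0, 0],
  [9, 10, 10, 8, 6, 7, 6, 8, 8, 8, 8, 7, 5, 4, 5, 4, 5, 5, 5, 4, 2, 2, 3, 2, 2, 3, 3, 2, 2, 3, 3, 2, 2, 2, 2, 0, 0, 1, 0, 1, 0, 0, 0, 1, 0, 0, 0, 0, 1, 0, 0, 1, 0, 0, 0, 0, 1],
  [9, 9, 10, 10, 6, 7, 8, 6, 8, 8, 8, 4, 4, 5, 5, 5, 4, 4, 4, 5, 5, 4, 5, 5, 5, 2, 2, 3, 2, 3, 3, 2, 3, 2, 0, 1, 0, 0, 0, 1, 0, 0, 0, 1, 0, 1, 0, 0, 0, 1, 0, 0, 0, 0, 0],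
  [9, 9, 10, 10, 11, 6, 7, 7, 7, 7, 6, 6, 7, 8, 5, 5, 4, 5, 5, 5, 4, 4, 4, 4, 5, 5, 5, 5, 3, 2, 2, 3, 2, 2, 3, 3, 2, 3, 3, 2, 1, 0, 1, 0, 0, 0, 0, 0, 1, 0, 0, 0, 1, 0, 1, 0, 0, 0],
  [9, 9, 10, 11, 11, 6, 8, 8, 6, 8, 7, 7, 5, 4, 4, 5, 5, 5, 5, 4, 5, 4, 4, 5, 5, 2, 2, 3, 3, 2, 3, 2, 2, 2, 3, 2, 2, 2, 0, 0, 1, 0, 0, 0, 0, 0, 0, 0, 0, 0, 0, 0, 0, 0, 0, 0, 0, 0],
  [9, 10, 10, 7, 7, 7, 8, 7, 8, 7, 7, 5, 4, 5, 5, 4, 5, 5, 5, 5, 4, 4, 4, 4, 4, 2, 2, 2, 3, 2, 3, 3, 2, 2, 3, 3, 3, 2, 2, 0, 1, 0, 0, 1, 0, 0, 0, 1, 0, 0, 1, 0, 0, 1, 0, 0, 1],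
  [10, 10, 11, 8, 7, 7, 7, 6, 7, 5, 4, 5, 4, 4, 4, 4, 4, 5, 4, 5, 5, 5, 2, 3, 2, 2, 2, 2, 3, 2, 3, 2, 2, 3, 2, 2, 2, 1, 0, 0, 0, 0, 0, 0, 0, 1, 0, 1, 0, 0, 0, 1, 0, 0, 0, 0, 1, 0, 0],
  [9, 10, 11, 6, 7, 8, 6, 7, 7, 8, 8, 6, 5, 5, 4, 4, 4, 5, 4, 5, 5, 5, 5, 5, 3, 2, 2, 3, 3, 2, 2, 2, 3, 2, 3, 2, 2, 2, 2, 1, 0, 1, 0, 0, 0, 0, 0, 0, 0, 1, 0, 0, 0, 0, 1, 0],
  [10, 10, 6, 7, 8, 6, 7, 6, 6, 7, 4, 4, 4, 4, 5, 4, 5, 5, 4, 4, 5, 5, 5, 3, 2, 3, 2, 2, 3, 3, 2, 3, 2, 2, 2, 2, 3, 0, 0, 1, 0, 0, 1, 0, 0, 1, 0, 0],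
  [9, 9, 10, 10, 11, 7, 6, 7, 7, 6, 7, 8, 8, 7, 4, 4, 4, 4, 4, 4, 5, 5, 5, 5, 4, 5, 4, 5, 4, 3, 2, 3, 2, 2, 3, 2, 2, 2, 2, 2, 2, 3, 3, 1, 0, 0, 1, 0, 0, 0, 0, 0, 1, 0, 0, 0, 0, 1, 0, 0, 0, 0],
  [10, 11, 11, 8, 7, 6, 6, 7, 7, 8, 5, 5, 4, 5, 4, 5, 5, 5, 5, 5, 5, 3, 2, 2, 3, 2, 2, 3, 2, 3, 2, 2, 3, 2, 2, 3, 0, 0, 0, 0, 1, 0, 1, 0, 0, 1, 0, 0, 1, 0, 1, 0, 1, 0, 0, 0, 1],
  [9, 9, 10, 10, 11, 6, 7, 8, 7, 8, 8, 8, 4, 5, 5, 4, 5, 4, 5, 5, 3, 3, 3, 3, 2, 3, 2, 3, 3, 2, 3, 1, 0, 0, 1, 0, 0, 0, 1, 0, 0, 1, 0, 0, 0, 0, 1, 0],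
  [9, 10, 10, 11, 11, 8, 7, 7, 6, 7, 7, 7, 4, 5, 4, 5, 4, 5, 5, 5, 4, 4, 5, 5, 4, 4, 3, 2, 2, 2, 2, 3, 2, 3, 2, 3, 3, 3, 2, 3, 1, 0, 0, 0, 0, 0, 0, 1, 0, 1, 0, 1, 0, 0, 0, 0, 1, 0, 1],
  [9, 10, 10, 6, 8, 6, 7, 6, 6, 6, 6, 8, 4, 4, 5, 5, 4, 4, 4, 4, 4, 5, 5, 4, 5, 4, 3, 3, 3, 3, 3, 3, 2, 2, 3, 3, 2, 2, 3, 3, 0, 0, 1, 0, 1, 0, 1, 0, 0, 0, 0, 0, 0, 0, 0],
  [9, 9, 11, 11, 6, 6, 7, 6, 8, 7, 8, 6, 4, 5, 4, 4, 4, 5, 5, 4, 4, 5, 4, 5, 4, 3, 2, 2, 3, 3, 2, 3, 3, 2, 3, 3, 0, 1, 0, 1, 0, 0, 0, 1, 0, 0, 1, 0, 1, 0, 0, 0, 0, 1],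
  [9, 9, 11, 7, 7, 6, 7, 6, 8, 7, 6, 5, 4, 4, 4, 4, 4, 4, 4, 5, 4, 4, 4, 4, 4, 3, 2, 3, 2, 3, 3, 2, 3, 2, 3, 2, 3, 3, 3, 3, 0, 1, 0, 0, 0, 0, 1, 0, 0, 0, 0, 0, 1, 0, 1]]
def wds (j : Nat) : List Nat := wdsL.getD j []

def Bs : List Nat := [0, 1, 224, 1640, 2]

def rs : List (List Bool × Nat × Nat) := [([true, false], 7, 11056),
  ([true, false], 7, 25329),
  ([true, false], 7, 19052),
  ([true, false, true, true, false, true, true, true, true, false], 3, 23833)]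

def goods : List (Nat × Nat) := [(29598, 0), (11430, 1), (25126, 2), (24531, 3), (29697, 4), (18330, 5), (19417, 6), (25390, 7), (9036, 8), (687, 9), (22480, 10), (14956, 11), (10477, 12), (811, 13), (31076, 14), (21707, 15), (3706, 16), (26301, 17), (25082, 18), (62, 19), (30816, 20), (19891, 21), (9898, 22)]

def goodIdx : List Nat := goods.map Prod.fst

def R2 : List (Nat × List (List Bool × Nat × Nat)) := [(5, [([true, false], 7, 15505), ([true, false], 7, 10314), ([true, false], 7, 25179), ([true, false, true, true, false, true, true, true, true, false], 3, 23833)])]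


end Cfsg.Agent.Lib.PermComp.OutP.Fi23
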